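import Cfsg.Agent.Lib.H6.FiTC.Steps10

set_option autoImplicit false
set_option maxRecDepth 1000000

/-! # invariant through part 10 of Fi24 (generated) -/

namespace Cfsg.Agent.Lib.H6.FiTC

open Cfsg.Agent.Lib.H17.CosetCert Cfsg.Agent.Lib.H6.TC

theorem part10 {G Q : Type} [Group G] [MulAction G Q] (γ : ℕ → G)
    (hiv : ∀ x < 12, γ (iv x) = (γ x)⁻¹) (q0 : Q) (hw : WordsOK γ q0 words)
    (h0 : Inv F 12 γ q0 250000 45429) : Inv F 12 γ q0 275000 51219 := by
  have h1 := checkSteps_sound F iv 12 4194304 γ hiv q0 words hw steps250 250000 45429 45612 h0 chk250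
  rw [len250] at h1
  have h2 := checkSteps_sound F iv 12 4194304 γ hiv q0 words hw steps251 251000 45612 45815 h1 chk251
  rw [len251] at h2
  have h3 := checkSteps_sound F iv 12 4194304 γ hiv q0 words hw steps252 252000 45815 46005 h2 chk252
  rw [len252] at h3
  have h4 := checkSteps_sound F iv 12 4194304 γ hiv q0 words hw steps253 253000 46005 46196 h3 chk253
  rw [len253] at h4
  have h5 := checkSteps_sound F iv 12 4194304 γ hiv q0 words hw steps254 254000 46196 46416 h4 chk254
  rw [len254] at h5
  have h6 := checkSteps_sound F iv 12 4194304 γ hiv q0 words hw steps255 255000 46416 46629 h5 chk255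
  rw [len255] at h6
  have h7 := checkSteps_sound F iv 12 4194304 γ hiv q0 words hw steps256 256000 46629 46887 h6 chk256
  rw [len256] at h7
  have h8 := checkSteps_sound F iv 12 4194304 γ hiv q0 words hw steps257 257000 46887 47101 h7 chk257
  rw [len257] at h8
  have h9 := checkSteps_sound F iv 12 4194304 γ hiv q0 words hw steps258 258000 47101 47347 h8 chk258
  rw [len258] at h9
  have h10 := checkSteps_sound F iv 12 4194304 γ hiv q0 words hw steps259 259000 47347 47598 h9 chk259
  rw [len259] at h10
  have h11 := checkSteps_sound F iv 12 4194304 γ hiv q0 words hw steps260 260000 47598 47898 h10 chk260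
  rw [len260] at h11
  have h12 := checkSteps_sound F iv 12 4194304 γ hiv q0 words hw steps261 261000 47898 48144 h11 chk261
  rw [len261] at h12
  have h13 := checkSteps_sound F iv 12 4194304 γ hiv q0 words hw steps262 262000 48144 48378 h12 chk262
  rw [len262] at h13
  have h14 := checkSteps_sound F iv 12 4194304 γ hiv q0 words hw steps263 263000 48378 48606 h13 chk263
  rw [len263] at h14
  have h15 := checkSteps_sound F iv 12 4194304 γ hiv q0 words hw steps264 264000 48606 48822 h14 chk264
  rw [len264] at h15
  have h16 := checkSteps_sound F iv 12 4194304 γ hiv q0 words hw steps265 265000 48822 49056 h15 chk265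
  rw [len265] at h16
  have h17 := checkSteps_sound F iv 12 4194304 γ hiv q0 words hw steps266 266000 49056 49331 h16 chk266
  rw [len266] at h17
  have h18 := checkSteps_sound F iv 12 4194304 γ hiv q0 words hw steps267 267000 49331 49664 h17 chk267
  rw [len267] at h18
  have h19 := checkSteps_sound F iv 12 4194304 γ hiv q0 words hw steps268 268000 49664 50016 h18 chk268
  rw [len268] at h19
  have h20 := checkSteps_sound F iv 12 4194304 γ hiv q0 words hw steps269 269000 50016 50371 h19 chk269
  rw [len269] at h20
  have h21 := checkSteps_sound F iv 12 4194304 γ hiv q0 words hw steps270 270000 50371 50590 h20 chk270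
  rw [len270] at h21
  have h22 := checkSteps_sound F iv 12 4194304 γ hiv q0 words hw steps271 271000 50590 50737 h21 chk271
  rw [len271] at h22
  have h23 := checkSteps_sound F iv 12 4194304 γ hiv q0 words hw steps272 272000 50737 50889 h22 chk272
  rw [len272] at h23
  have h24 := checkSteps_sound F iv 12 4194304 γ hiv q0 words hw steps273 273000 50889 51065 h23 chk273
  rw [len273] at h24
  have h25 := checkSteps_sound F iv 12 4194304 γ hiv q0 words hw steps274 274000 51065 51219 h24 chk274
  rw [len274] at h25
  exact h25

end Cfsg.Agent.Lib.H6.FiTC
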