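import Cfsg.Agent.Lib.H6.FiTC.Steps11

set_option autoImplicit false
set_option maxRecDepth 1000000

/-! # invariant through part 11 of Fi24 (generated) -/

namespace Cfsg.Agent.Lib.H6.FiTC

open Cfsg.Agent.Lib.H17.CosetCert Cfsg.Agent.Lib.H6.TC

theorem part11 {G Q : Type} [Group G] [MulAction G Q] (γ : ℕ → G)
    (hiv : ∀ x < 12, γ (iv x) = (γ x)⁻¹) (q0 : Q) (hw : WordsOK γ q0 words)
    (h0 : Inv F 12 γ q0 275000 51219) : Inv F 12 γ q0 300000 56242 := by
  have h1 := checkSteps_sound F iv 12 4194304 γ hiv q0 words hw steps275 275000 51219 51386 h0 chk275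
  rw [len275] at h1
  have h2 := checkSteps_sound F iv 12 4194304 γ hiv q0 words hw steps276 276000 51386 51542 h1 chk276
  rw [len276] at h2
  have h3 := checkSteps_sound F iv 12 4194304 γ hiv q0 words hw steps277 277000 51542 51789 h2 chk277
  rw [len277] at h3
  have h4 := checkSteps_sound F iv 12 4194304 γ hiv q0 words hw steps278 278000 51789 52079 h3 chk278
  rw [len278] at h4
  have h5 := checkSteps_sound F iv 12 4194304 γ hiv q0 words hw steps279 279000 52079 52366 h4 chk279
  rw [len279] at h5
  have h6 := checkSteps_sound F iv 12 4194304 γ hiv q0 words hw steps280 280000 52366 52565 h5 chk280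
  rw [len280] at h6
  have h7 := checkSteps_sound F iv 12 4194304 γ hiv q0 words hw steps281 281000 52565 52789 h6 chk281
  rw [len281] at h7
  have h8 := checkSteps_sound F iv 12 4194304 γ hiv q0 words hw steps282 282000 52789 53154 h7 chk282
  rw [len282] at h8
  have h9 := checkSteps_sound F iv 12 4194304 γ hiv q0 words hw steps283 283000 53154 53346 h8 chk283
  rw [len283] at h9
  have h10 := checkSteps_sound F iv 12 4194304 γ hiv q0 words hw steps284 284000 53346 53480 h9 chk284
  rw [len284] at h10
  have h11 := checkSteps_sound F iv 12 4194304 γ hiv q0 words hw steps285 285000 53480 53618 h10 chk285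
  rw [len285] at h11
  have h12 := checkSteps_sound F iv 12 4194304 γ hiv q0 words hw steps286 286000 53618 53788 h11 chk286
  rw [len286] at h12
  have h13 := checkSteps_sound F iv 12 4194304 γ hiv q0 words hw steps287 287000 53788 53944 h12 chk287
  rw [len287] at h13
  have h14 := checkSteps_sound F iv 12 4194304 γ hiv q0 words hw steps288 288000 53944 54095 h13 chk288
  rw [len288] at h14
  have h15 := checkSteps_sound F iv 12 4194304 γ hiv q0 words hw steps289 289000 54095 54279 h14 chk289
  rw [len289] at h15
  have h16 := checkSteps_sound F iv 12 4194304 γ hiv q0 words hw steps290 290000 54279 54465 h15 chk290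
  rw [len290] at h16
  have h17 := checkSteps_sound F iv 12 4194304 γ hiv q0 words hw steps291 291000 54465 54632 h16 chk291
  rw [len291] at h17
  have h18 := checkSteps_sound F iv 12 4194304 γ hiv q0 words hw steps292 292000 54632 54802 h17 chk292
  rw [len292] at h18
  have h19 := checkSteps_sound F iv 12 4194304 γ hiv q0 words hw steps293 293000 54802 54986 h18 chk293
  rw [len293] at h19
  have h20 := checkSteps_sound F iv 12 4194304 γ hiv q0 words hw steps294 294000 54986 55158 h19 chk294
  rw [len294] at h20
  have h21 := checkSteps_sound F iv 12 4194304 γ hiv q0 words hw steps295 295000 55158 55326 h20 chk295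
  rw [len295] at h21
  have h22 := checkSteps_sound F iv 12 4194304 γ hiv q0 words hw steps296 296000 55326 55504 h21 chk296
  rw [len296] at h22
  have h23 := checkSteps_sound F iv 12 4194304 γ hiv q0 words hw steps297 297000 55504 55737 h22 chk297
  rw [len297] at h23
  have h24 := checkSteps_sound F iv 12 4194304 γ hiv q0 words hw steps298 298000 55737 55999 h23 chk298
  rw [len298] at h24
  have h25 := checkSteps_sound F iv 12 4194304 γ hiv q0 words hw steps299 299000 55999 56242 h24 chk299
  rw [len299] at h25
  exact h25

end Cfsg.Agent.Lib.H6.FiTC
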