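import Cfsg.Agent.Lib.H6.FiTC.Steps14

set_option autoImplicit false
set_option maxRecDepth 1000000

/-! # invariant through part 14 of Fi24 (generated) -/

namespace Cfsg.Agent.Lib.H6.FiTC

open Cfsg.Agent.Lib.H17.CosetCert Cfsg.Agent.Lib.H6.TC

theorem part14 {G Q : Type} [Group G] [MulAction G Q] (γ : ℕ → G)
    (hiv : ∀ x < 12, γ (iv x) = (γ x)⁻¹) (q0 : Q) (hw : WordsOK γ q0 words)
    (h0 : Inv F 12 γ q0 350000 67833) : Inv F 12 γ q0 375000 72825 := by
  have h1 := checkSteps_sound F iv 12 4194304 γ hiv q0 words hw steps350 350000 67833 68007 h0 chk350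
  rw [len350] at h1
  have h2 := checkSteps_sound F iv 12 4194304 γ hiv q0 words hw steps351 351000 68007 68175 h1 chk351
  rw [len351] at h2
  have h3 := checkSteps_sound F iv 12 4194304 γ hiv q0 words hw steps352 352000 68175 68350 h2 chk352
  rw [len352] at h3
  have h4 := checkSteps_sound F iv 12 4194304 γ hiv q0 words hw steps353 353000 68350 68513 h3 chk353
  rw [len353] at h4
  have h5 := checkSteps_sound F iv 12 4194304 γ hiv q0 words hw steps354 354000 68513 68741 h4 chk354
  rw [len354] at h5
  have h6 := checkSteps_sound F iv 12 4194304 γ hiv q0 words hw steps355 355000 68741 69057 h5 chk355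
  rw [len355] at h6
  have h7 := checkSteps_sound F iv 12 4194304 γ hiv q0 words hw steps356 356000 69057 69368 h6 chk356
  rw [len356] at h7
  have h8 := checkSteps_sound F iv 12 4194304 γ hiv q0 words hw steps357 357000 69368 69595 h7 chk357
  rw [len357] at h8
  have h9 := checkSteps_sound F iv 12 4194304 γ hiv q0 words hw steps358 358000 69595 69842 h8 chk358
  rw [len358] at h9
  have h10 := checkSteps_sound F iv 12 4194304 γ hiv q0 words hw steps359 359000 69842 70141 h9 chk359
  rw [len359] at h10
  have h11 := checkSteps_sound F iv 12 4194304 γ hiv q0 words hw steps360 360000 70141 70498 h10 chk360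
  rw [len360] at h11
  have h12 := checkSteps_sound F iv 12 4194304 γ hiv q0 words hw steps361 361000 70498 70637 h11 chk361
  rw [len361] at h12
  have h13 := checkSteps_sound F iv 12 4194304 γ hiv q0 words hw steps362 362000 70637 70773 h12 chk362
  rw [len362] at h13
  have h14 := checkSteps_sound F iv 12 4194304 γ hiv q0 words hw steps363 363000 70773 70913 h13 chk363
  rw [len363] at h14
  have h15 := checkSteps_sound F iv 12 4194304 γ hiv q0 words hw steps364 364000 70913 71078 h14 chk364
  rw [len364] at h15
  have h16 := checkSteps_sound F iv 12 4194304 γ hiv q0 words hw steps365 365000 71078 71253 h15 chk365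
  rw [len365] at h16
  have h17 := checkSteps_sound F iv 12 4194304 γ hiv q0 words hw steps366 366000 71253 71419 h16 chk366
  rw [len366] at h17
  have h18 := checkSteps_sound F iv 12 4194304 γ hiv q0 words hw steps367 367000 71419 71575 h17 chk367
  rw [len367] at h18
  have h19 := checkSteps_sound F iv 12 4194304 γ hiv q0 words hw steps368 368000 71575 71728 h18 chk368
  rw [len368] at h19
  have h20 := checkSteps_sound F iv 12 4194304 γ hiv q0 words hw steps369 369000 71728 71930 h19 chk369
  rw [len369] at h20
  have h21 := checkSteps_sound F iv 12 4194304 γ hiv q0 words hw steps370 370000 71930 72111 h20 chk370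
  rw [len370] at h21
  have h22 := checkSteps_sound F iv 12 4194304 γ hiv q0 words hw steps371 371000 72111 72313 h21 chk371
  rw [len371] at h22
  have h23 := checkSteps_sound F iv 12 4194304 γ hiv q0 words hw steps372 372000 72313 72472 h22 chk372
  rw [len372] at h23
  have h24 := checkSteps_sound F iv 12 4194304 γ hiv q0 words hw steps373 373000 72472 72657 h23 chk373
  rw [len373] at h24
  have h25 := checkSteps_sound F iv 12 4194304 γ hiv q0 words hw steps374 374000 72657 72825 h24 chk374
  rw [len374] at h25
  exact h25

end Cfsg.Agent.Lib.H6.FiTC
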