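import Cfsg.Agent.Lib.H6.FiTC.Steps17

set_option autoImplicit false
set_option maxRecDepth 1000000

/-! # invariant through part 17 of Fi24 (generated) -/

namespace Cfsg.Agent.Lib.H6.FiTC

open Cfsg.Agent.Lib.H17.CosetCert Cfsg.Agent.Lib.H6.TC

theorem part17 {G Q : Type} [Group G] [MulAction G Q] (γ : ℕ → G)
    (hiv : ∀ x < 12, γ (iv x) = (γ x)⁻¹) (q0 : Q) (hw : WordsOK γ q0 words)
    (h0 : Inv F 12 γ q0 425000 84113) : Inv F 12 γ q0 450000 90291 := by
  have h1 := checkSteps_sound F iv 12 4194304 γ hiv q0 words hw steps425 425000 84113 84428 h0 chk425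
  rw [len425] at h1
  have h2 := checkSteps_sound F iv 12 4194304 γ hiv q0 words hw steps426 426000 84428 84785 h1 chk426
  rw [len426] at h2
  have h3 := checkSteps_sound F iv 12 4194304 γ hiv q0 words hw steps427 427000 84785 85038 h2 chk427
  rw [len427] at h3
  have h4 := checkSteps_sound F iv 12 4194304 γ hiv q0 words hw steps428 428000 85038 85307 h3 chk428
  rw [len428] at h4
  have h5 := checkSteps_sound F iv 12 4194304 γ hiv q0 words hw steps429 429000 85307 85521 h4 chk429
  rw [len429] at h5
  have h6 := checkSteps_sound F iv 12 4194304 γ hiv q0 words hw steps430 430000 85521 85795 h5 chk430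
  rw [len430] at h6
  have h7 := checkSteps_sound F iv 12 4194304 γ hiv q0 words hw steps431 431000 85795 86034 h6 chk431
  rw [len431] at h7
  have h8 := checkSteps_sound F iv 12 4194304 γ hiv q0 words hw steps432 432000 86034 86293 h7 chk432
  rw [len432] at h8
  have h9 := checkSteps_sound F iv 12 4194304 γ hiv q0 words hw steps433 433000 86293 86561 h8 chk433
  rw [len433] at h9
  have h10 := checkSteps_sound F iv 12 4194304 γ hiv q0 words hw steps434 434000 86561 86884 h9 chk434
  rw [len434] at h10
  have h11 := checkSteps_sound F iv 12 4194304 γ hiv q0 words hw steps435 435000 86884 87253 h10 chk435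
  rw [len435] at h11
  have h12 := checkSteps_sound F iv 12 4194304 γ hiv q0 words hw steps436 436000 87253 87664 h11 chk436
  rw [len436] at h12
  have h13 := checkSteps_sound F iv 12 4194304 γ hiv q0 words hw steps437 437000 87664 87920 h12 chk437
  rw [len437] at h13
  have h14 := checkSteps_sound F iv 12 4194304 γ hiv q0 words hw steps438 438000 87920 88094 h13 chk438
  rw [len438] at h14
  have h15 := checkSteps_sound F iv 12 4194304 γ hiv q0 words hw steps439 439000 88094 88240 h14 chk439
  rw [len439] at h15
  have h16 := checkSteps_sound F iv 12 4194304 γ hiv q0 words hw steps440 440000 88240 88390 h15 chk440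
  rw [len440] at h16
  have h17 := checkSteps_sound F iv 12 4194304 γ hiv q0 words hw steps441 441000 88390 88579 h16 chk441
  rw [len441] at h17
  have h18 := checkSteps_sound F iv 12 4194304 γ hiv q0 words hw steps442 442000 88579 88777 h17 chk442
  rw [len442] at h18
  have h19 := checkSteps_sound F iv 12 4194304 γ hiv q0 words hw steps443 443000 88777 88949 h18 chk443
  rw [len443] at h19
  have h20 := checkSteps_sound F iv 12 4194304 γ hiv q0 words hw steps444 444000 88949 89118 h19 chk444
  rw [len444] at h20
  have h21 := checkSteps_sound F iv 12 4194304 γ hiv q0 words hw steps445 445000 89118 89303 h20 chk445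
  rw [len445] at h21
  have h22 := checkSteps_sound F iv 12 4194304 γ hiv q0 words hw steps446 446000 89303 89475 h21 chk446
  rw [len446] at h22
  have h23 := checkSteps_sound F iv 12 4194304 γ hiv q0 words hw steps447 447000 89475 89642 h22 chk447
  rw [len447] at h23
  have h24 := checkSteps_sound F iv 12 4194304 γ hiv q0 words hw steps448 448000 89642 89960 h23 chk448
  rw [len448] at h24
  have h25 := checkSteps_sound F iv 12 4194304 γ hiv q0 words hw steps449 449000 89960 90291 h24 chk449
  rw [len449] at h25
  exact h25

end Cfsg.Agent.Lib.H6.FiTC
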