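import Cfsg.Agent.Lib.H6.FiTC.Steps19

set_option autoImplicit false
set_option maxRecDepth 1000000

/-! # invariant through part 19 of Fi24 (generated) -/

namespace Cfsg.Agent.Lib.H6.FiTC

open Cfsg.Agent.Lib.H17.CosetCert Cfsg.Agent.Lib.H6.TC

theorem part19 {G Q : Type} [Group G] [MulAction G Q] (γ : ℕ → G)
    (hiv : ∀ x < 12, γ (iv x) = (γ x)⁻¹) (q0 : Q) (hw : WordsOK γ q0 words)
    (h0 : Inv F 12 γ q0 475000 95092) : Inv F 12 γ q0 500000 100775 := by
  have h1 := checkSteps_sound F iv 12 4194304 γ hiv q0 words hw steps475 475000 95092 95269 h0 chk475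
  rw [len475] at h1
  have h2 := checkSteps_sound F iv 12 4194304 γ hiv q0 words hw steps476 476000 95269 95446 h1 chk476
  rw [len476] at h2
  have h3 := checkSteps_sound F iv 12 4194304 γ hiv q0 words hw steps477 477000 95446 95622 h2 chk477
  rw [len477] at h3
  have h4 := checkSteps_sound F iv 12 4194304 γ hiv q0 words hw steps478 478000 95622 95887 h3 chk478
  rw [len478] at h4
  have h5 := checkSteps_sound F iv 12 4194304 γ hiv q0 words hw steps479 479000 95887 96155 h4 chk479
  rw [len479] at h5
  have h6 := checkSteps_sound F iv 12 4194304 γ hiv q0 words hw steps480 480000 96155 96407 h5 chk480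
  rw [len480] at h6
  have h7 := checkSteps_sound F iv 12 4194304 γ hiv q0 words hw steps481 481000 96407 96671 h6 chk481
  rw [len481] at h7
  have h8 := checkSteps_sound F iv 12 4194304 γ hiv q0 words hw steps482 482000 96671 96939 h7 chk482
  rw [len482] at h8
  have h9 := checkSteps_sound F iv 12 4194304 γ hiv q0 words hw steps483 483000 96939 97221 h8 chk483
  rw [len483] at h9
  have h10 := checkSteps_sound F iv 12 4194304 γ hiv q0 words hw steps484 484000 97221 97389 h9 chk484
  rw [len484] at h10
  have h11 := checkSteps_sound F iv 12 4194304 γ hiv q0 words hw steps485 485000 97389 97588 h10 chk485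
  rw [len485] at h11
  have h12 := checkSteps_sound F iv 12 4194304 γ hiv q0 words hw steps486 486000 97588 97774 h11 chk486
  rw [len486] at h12
  have h13 := checkSteps_sound F iv 12 4194304 γ hiv q0 words hw steps487 487000 97774 98023 h12 chk487
  rw [len487] at h13
  have h14 := checkSteps_sound F iv 12 4194304 γ hiv q0 words hw steps488 488000 98023 98270 h13 chk488
  rw [len488] at h14
  have h15 := checkSteps_sound F iv 12 4194304 γ hiv q0 words hw steps489 489000 98270 98504 h14 chk489
  rw [len489] at h15
  have h16 := checkSteps_sound F iv 12 4194304 γ hiv q0 words hw steps490 490000 98504 98744 h15 chk490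
  rw [len490] at h16
  have h17 := checkSteps_sound F iv 12 4194304 γ hiv q0 words hw steps491 491000 98744 99078 h16 chk491
  rw [len491] at h17
  have h18 := checkSteps_sound F iv 12 4194304 γ hiv q0 words hw steps492 492000 99078 99332 h17 chk492
  rw [len492] at h18
  have h19 := checkSteps_sound F iv 12 4194304 γ hiv q0 words hw steps493 493000 99332 99524 h18 chk493
  rw [len493] at h19
  have h20 := checkSteps_sound F iv 12 4194304 γ hiv q0 words hw steps494 494000 99524 99690 h19 chk494
  rw [len494] at h20
  have h21 := checkSteps_sound F iv 12 4194304 γ hiv q0 words hw steps495 495000 99690 99906 h20 chk495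
  rw [len495] at h21
  have h22 := checkSteps_sound F iv 12 4194304 γ hiv q0 words hw steps496 496000 99906 100146 h21 chk496
  rw [len496] at h22
  have h23 := checkSteps_sound F iv 12 4194304 γ hiv q0 words hw steps497 497000 100146 100353 h22 chk497
  rw [len497] at h23
  have h24 := checkSteps_sound F iv 12 4194304 γ hiv q0 words hw steps498 498000 100353 100573 h23 chk498
  rw [len498] at h24
  have h25 := checkSteps_sound F iv 12 4194304 γ hiv q0 words hw steps499 499000 100573 100775 h24 chk499
  rw [len499] at h25
  exact h25

end Cfsg.Agent.Lib.H6.FiTC
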