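import Cfsg.Agent.Lib.H6.FiTC.Steps21

set_option autoImplicit false
set_option maxRecDepth 1000000

/-! # invariant through part 21 of Fi24 (generated) -/

namespace Cfsg.Agent.Lib.H6.FiTC

open Cfsg.Agent.Lib.H17.CosetCert Cfsg.Agent.Lib.H6.TC

theorem part21 {G Q : Type} [Group G] [MulAction G Q] (γ : ℕ → G)
    (hiv : ∀ x < 12, γ (iv x) = (γ x)⁻¹) (q0 : Q) (hw : WordsOK γ q0 words)
    (h0 : Inv F 12 γ q0 525000 106051) : Inv F 12 γ q0 550000 112384 := by
  have h1 := checkSteps_sound F iv 12 4194304 γ hiv q0 words hw steps525 525000 106051 106320 h0 chk525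
  rw [len525] at h1
  have h2 := checkSteps_sound F iv 12 4194304 γ hiv q0 words hw steps526 526000 106320 106579 h1 chk526
  rw [len526] at h2
  have h3 := checkSteps_sound F iv 12 4194304 γ hiv q0 words hw steps527 527000 106579 106874 h2 chk527
  rw [len527] at h3
  have h4 := checkSteps_sound F iv 12 4194304 γ hiv q0 words hw steps528 528000 106874 107122 h3 chk528
  rw [len528] at h4
  have h5 := checkSteps_sound F iv 12 4194304 γ hiv q0 words hw steps529 529000 107122 107382 h4 chk529
  rw [len529] at h5
  have h6 := checkSteps_sound F iv 12 4194304 γ hiv q0 words hw steps530 530000 107382 107648 h5 chk530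
  rw [len530] at h6
  have h7 := checkSteps_sound F iv 12 4194304 γ hiv q0 words hw steps531 531000 107648 107954 h6 chk531
  rw [len531] at h7
  have h8 := checkSteps_sound F iv 12 4194304 γ hiv q0 words hw steps532 532000 107954 108217 h7 chk532
  rw [len532] at h8
  have h9 := checkSteps_sound F iv 12 4194304 γ hiv q0 words hw steps533 533000 108217 108535 h8 chk533
  rw [len533] at h9
  have h10 := checkSteps_sound F iv 12 4194304 γ hiv q0 words hw steps534 534000 108535 108849 h9 chk534
  rw [len534] at h10
  have h11 := checkSteps_sound F iv 12 4194304 γ hiv q0 words hw steps535 535000 108849 109106 h10 chk535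
  rw [len535] at h11
  have h12 := checkSteps_sound F iv 12 4194304 γ hiv q0 words hw steps536 536000 109106 109362 h11 chk536
  rw [len536] at h12
  have h13 := checkSteps_sound F iv 12 4194304 γ hiv q0 words hw steps537 537000 109362 109595 h12 chk537
  rw [len537] at h13
  have h14 := checkSteps_sound F iv 12 4194304 γ hiv q0 words hw steps538 538000 109595 109876 h13 chk538
  rw [len538] at h14
  have h15 := checkSteps_sound F iv 12 4194304 γ hiv q0 words hw steps539 539000 109876 110119 h14 chk539
  rw [len539] at h15
  have h16 := checkSteps_sound F iv 12 4194304 γ hiv q0 words hw steps540 540000 110119 110390 h15 chk540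
  rw [len540] at h16
  have h17 := checkSteps_sound F iv 12 4194304 γ hiv q0 words hw steps541 541000 110390 110692 h16 chk541
  rw [len541] at h17
  have h18 := checkSteps_sound F iv 12 4194304 γ hiv q0 words hw steps542 542000 110692 111022 h17 chk542
  rw [len542] at h18
  have h19 := checkSteps_sound F iv 12 4194304 γ hiv q0 words hw steps543 543000 111022 111374 h18 chk543
  rw [len543] at h19
  have h20 := checkSteps_sound F iv 12 4194304 γ hiv q0 words hw steps544 544000 111374 111537 h19 chk544
  rw [len544] at h20
  have h21 := checkSteps_sound F iv 12 4194304 γ hiv q0 words hw steps545 545000 111537 111701 h20 chk545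
  rw [len545] at h21
  have h22 := checkSteps_sound F iv 12 4194304 γ hiv q0 words hw steps546 546000 111701 111852 h21 chk546
  rw [len546] at h22
  have h23 := checkSteps_sound F iv 12 4194304 γ hiv q0 words hw steps547 547000 111852 112008 h22 chk547
  rw [len547] at h23
  have h24 := checkSteps_sound F iv 12 4194304 γ hiv q0 words hw steps548 548000 112008 112201 h23 chk548
  rw [len548] at h24
  have h25 := checkSteps_sound F iv 12 4194304 γ hiv q0 words hw steps549 549000 112201 112384 h24 chk549
  rw [len549] at h25
  exact h25

end Cfsg.Agent.Lib.H6.FiTC
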