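import Cfsg.Agent.Lib.H6.FiTC.Steps22

set_option autoImplicit false
set_option maxRecDepth 1000000

/-! # invariant through part 22 of Fi24 (generated) -/

namespace Cfsg.Agent.Lib.H6.FiTC

open Cfsg.Agent.Lib.H17.CosetCert Cfsg.Agent.Lib.H6.TC

theorem part22 {G Q : Type} [Group G] [MulAction G Q] (γ : ℕ → G)
    (hiv : ∀ x < 12, γ (iv x) = (γ x)⁻¹) (q0 : Q) (hw : WordsOK γ q0 words)
    (h0 : Inv F 12 γ q0 550000 112384) : Inv F 12 γ q0 575000 114837 := by
  have h1 := checkSteps_sound F iv 12 4194304 γ hiv q0 words hw steps550 550000 112384 112586 h0 chk550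
  rw [len550] at h1
  have h2 := checkSteps_sound F iv 12 4194304 γ hiv q0 words hw steps551 551000 112586 112746 h1 chk551
  rw [len551] at h2
  have h3 := checkSteps_sound F iv 12 4194304 γ hiv q0 words hw steps552 552000 112746 112919 h2 chk552
  rw [len552] at h3
  have h4 := checkSteps_sound F iv 12 4194304 γ hiv q0 words hw steps553 553000 112919 113111 h3 chk553
  rw [len553] at h4
  have h5 := checkSteps_sound F iv 12 4194304 γ hiv q0 words hw steps554 554000 113111 113291 h4 chk554
  rw [len554] at h5
  have h6 := checkSteps_sound F iv 12 4194304 γ hiv q0 words hw steps555 555000 113291 113459 h5 chk555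
  rw [len555] at h6
  have h7 := checkSteps_sound F iv 12 4194304 γ hiv q0 words hw steps556 556000 113459 113711 h6 chk556
  rw [len556] at h7
  have h8 := checkSteps_sound F iv 12 4194304 γ hiv q0 words hw steps557 557000 113711 114030 h7 chk557
  rw [len557] at h8
  have h9 := checkSteps_sound F iv 12 4194304 γ hiv q0 words hw steps558 558000 114030 114285 h8 chk558
  rw [len558] at h9
  have h10 := checkSteps_sound F iv 12 4194304 γ hiv q0 words hw steps559 559000 114285 114519 h9 chk559
  rw [len559] at h10
  have h11 := checkSteps_sound F iv 12 4194304 γ hiv q0 words hw steps560 560000 114519 114708 h10 chk560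
  rw [len560] at h11
  have h12 := checkSteps_sound F iv 12 4194304 γ hiv q0 words hw steps561 561000 114708 114837 h11 chk561
  rw [len561] at h12
  have h13 := checkSteps_sound F iv 12 4194304 γ hiv q0 words hw steps562 562000 114837 114837 h12 chk562
  rw [len562] at h13
  have h14 := checkSteps_sound F iv 12 4194304 γ hiv q0 words hw steps563 563000 114837 114837 h13 chk563
  rw [len563] at h14
  have h15 := checkSteps_sound F iv 12 4194304 γ hiv q0 words hw steps564 564000 114837 114837 h14 chk564
  rw [len564] at h15
  have h16 := checkSteps_sound F iv 12 4194304 γ hiv q0 words hw steps565 565000 114837 114837 h15 chk565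
  rw [len565] at h16
  have h17 := checkSteps_sound F iv 12 4194304 γ hiv q0 words hw steps566 566000 114837 114837 h16 chk566
  rw [len566] at h17
  have h18 := checkSteps_sound F iv 12 4194304 γ hiv q0 words hw steps567 567000 114837 114837 h17 chk567
  rw [len567] at h18
  have h19 := checkSteps_sound F iv 12 4194304 γ hiv q0 words hw steps568 568000 114837 114837 h18 chk568
  rw [len568] at h19
  have h20 := checkSteps_sound F iv 12 4194304 γ hiv q0 words hw steps569 569000 114837 114837 h19 chk569
  rw [len569] at h20
  have h21 := checkSteps_sound F iv 12 4194304 γ hiv q0 words hw steps570 570000 114837 114837 h20 chk570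
  rw [len570] at h21
  have h22 := checkSteps_sound F iv 12 4194304 γ hiv q0 words hw steps571 571000 114837 114837 h21 chk571
  rw [len571] at h22
  have h23 := checkSteps_sound F iv 12 4194304 γ hiv q0 words hw steps572 572000 114837 114837 h22 chk572
  rw [len572] at h23
  have h24 := checkSteps_sound F iv 12 4194304 γ hiv q0 words hw steps573 573000 114837 114837 h23 chk573
  rw [len573] at h24
  have h25 := checkSteps_sound F iv 12 4194304 γ hiv q0 words hw steps574 574000 114837 114837 h24 chk574
  rw [len574] at h25
  exact h25

end Cfsg.Agent.Lib.H6.FiTC
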