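import Cfsg.Agent.Lib.H6.FiTC.Steps24

set_option autoImplicit false
set_option maxRecDepth 1000000

/-! # invariant through part 24 of Fi24 (generated) -/

namespace Cfsg.Agent.Lib.H6.FiTC

open Cfsg.Agent.Lib.H17.CosetCert Cfsg.Agent.Lib.H6.TC

theorem part24 {G Q : Type} [Group G] [MulAction G Q] (γ : ℕ → G)
    (hiv : ∀ x < 12, γ (iv x) = (γ x)⁻¹) (q0 : Q) (hw : WordsOK γ q0 words)
    (h0 : Inv F 12 γ q0 600000 114837) : Inv F 12 γ q0 625000 115157 := by
  have h1 := checkSteps_sound F iv 12 4194304 γ hiv q0 words hw steps600 600000 114837 114837 h0 chk600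
  rw [len600] at h1
  have h2 := checkSteps_sound F iv 12 4194304 γ hiv q0 words hw steps601 601000 114837 114837 h1 chk601
  rw [len601] at h2
  have h3 := checkSteps_sound F iv 12 4194304 γ hiv q0 words hw steps602 602000 114837 114837 h2 chk602
  rw [len602] at h3
  have h4 := checkSteps_sound F iv 12 4194304 γ hiv q0 words hw steps603 603000 114837 114837 h3 chk603
  rw [len603] at h4
  have h5 := checkSteps_sound F iv 12 4194304 γ hiv q0 words hw steps604 604000 114837 114837 h4 chk604
  rw [len604] at h5
  have h6 := checkSteps_sound F iv 12 4194304 γ hiv q0 words hw steps605 605000 114837 114837 h5 chk605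
  rw [len605] at h6
  have h7 := checkSteps_sound F iv 12 4194304 γ hiv q0 words hw steps606 606000 114837 114837 h6 chk606
  rw [len606] at h7
  have h8 := checkSteps_sound F iv 12 4194304 γ hiv q0 words hw steps607 607000 114837 114837 h7 chk607
  rw [len607] at h8
  have h9 := checkSteps_sound F iv 12 4194304 γ hiv q0 words hw steps608 608000 114837 114837 h8 chk608
  rw [len608] at h9
  have h10 := checkSteps_sound F iv 12 4194304 γ hiv q0 words hw steps609 609000 114837 114837 h9 chk609
  rw [len609] at h10
  have h11 := checkSteps_sound F iv 12 4194304 γ hiv q0 words hw steps610 610000 114837 114837 h10 chk610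
  rw [len610] at h11
  have h12 := checkSteps_sound F iv 12 4194304 γ hiv q0 words hw steps611 611000 114837 114837 h11 chk611
  rw [len611] at h12
  have h13 := checkSteps_sound F iv 12 4194304 γ hiv q0 words hw steps612 612000 114837 114837 h12 chk612
  rw [len612] at h13
  have h14 := checkSteps_sound F iv 12 4194304 γ hiv q0 words hw steps613 613000 114837 114837 h13 chk613
  rw [len613] at h14
  have h15 := checkSteps_sound F iv 12 4194304 γ hiv q0 words hw steps614 614000 114837 114837 h14 chk614
  rw [len614] at h15
  have h16 := checkSteps_sound F iv 12 4194304 γ hiv q0 words hw steps615 615000 114837 114837 h15 chk615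
  rw [len615] at h16
  have h17 := checkSteps_sound F iv 12 4194304 γ hiv q0 words hw steps616 616000 114837 114837 h16 chk616
  rw [len616] at h17
  have h18 := checkSteps_sound F iv 12 4194304 γ hiv q0 words hw steps617 617000 114837 114837 h17 chk617
  rw [len617] at h18
  have h19 := checkSteps_sound F iv 12 4194304 γ hiv q0 words hw steps618 618000 114837 114837 h18 chk618
  rw [len618] at h19
  have h20 := checkSteps_sound F iv 12 4194304 γ hiv q0 words hw steps619 619000 114837 114837 h19 chk619
  rw [len619] at h20
  have h21 := checkSteps_sound F iv 12 4194304 γ hiv q0 words hw steps620 620000 114837 114837 h20 chk620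
  rw [len620] at h21
  have h22 := checkSteps_sound F iv 12 4194304 γ hiv q0 words hw steps621 621000 114837 114837 h21 chk621
  rw [len621] at h22
  have h23 := checkSteps_sound F iv 12 4194304 γ hiv q0 words hw steps622 622000 114837 114905 h22 chk622
  rw [len622] at h23
  have h24 := checkSteps_sound F iv 12 4194304 γ hiv q0 words hw steps623 623000 114905 115032 h23 chk623
  rw [len623] at h24
  have h25 := checkSteps_sound F iv 12 4194304 γ hiv q0 words hw steps624 624000 115032 115157 h24 chk624
  rw [len624] at h25
  exact h25

end Cfsg.Agent.Lib.H6.FiTC
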