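import Cfsg.Agent.Lib.H6.FiTC.Steps28

set_option autoImplicit false
set_option maxRecDepth 1000000

/-! # invariant through part 28 of Fi24 (generated) -/

namespace Cfsg.Agent.Lib.H6.FiTC

open Cfsg.Agent.Lib.H17.CosetCert Cfsg.Agent.Lib.H6.TC

theorem part28 {G Q : Type} [Group G] [MulAction G Q] (γ : ℕ → G)
    (hiv : ∀ x < 12, γ (iv x) = (γ x)⁻¹) (q0 : Q) (hw : WordsOK γ q0 words)
    (h0 : Inv F 12 γ q0 700000 127305) : Inv F 12 γ q0 725000 131189 := by
  have h1 := checkSteps_sound F iv 12 4194304 γ hiv q0 words hw steps700 700000 127305 127459 h0 chk700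
  rw [len700] at h1
  have h2 := checkSteps_sound F iv 12 4194304 γ hiv q0 words hw steps701 701000 127459 127624 h1 chk701
  rw [len701] at h2
  have h3 := checkSteps_sound F iv 12 4194304 γ hiv q0 words hw steps702 702000 127624 127813 h2 chk702
  rw [len702] at h3
  have h4 := checkSteps_sound F iv 12 4194304 γ hiv q0 words hw steps703 703000 127813 128017 h3 chk703
  rw [len703] at h4
  have h5 := checkSteps_sound F iv 12 4194304 γ hiv q0 words hw steps704 704000 128017 128227 h4 chk704
  rw [len704] at h5
  have h6 := checkSteps_sound F iv 12 4194304 γ hiv q0 words hw steps705 705000 128227 128429 h5 chk705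
  rw [len705] at h6
  have h7 := checkSteps_sound F iv 12 4194304 γ hiv q0 words hw steps706 706000 128429 128615 h6 chk706
  rw [len706] at h7
  have h8 := checkSteps_sound F iv 12 4194304 γ hiv q0 words hw steps707 707000 128615 128776 h7 chk707
  rw [len707] at h8
  have h9 := checkSteps_sound F iv 12 4194304 γ hiv q0 words hw steps708 708000 128776 128986 h8 chk708
  rw [len708] at h9
  have h10 := checkSteps_sound F iv 12 4194304 γ hiv q0 words hw steps709 709000 128986 129232 h9 chk709
  rw [len709] at h10
  have h11 := checkSteps_sound F iv 12 4194304 γ hiv q0 words hw steps710 710000 129232 129368 h10 chk710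
  rw [len710] at h11
  have h12 := checkSteps_sound F iv 12 4194304 γ hiv q0 words hw steps711 711000 129368 129486 h11 chk711
  rw [len711] at h12
  have h13 := checkSteps_sound F iv 12 4194304 γ hiv q0 words hw steps712 712000 129486 129608 h12 chk712
  rw [len712] at h13
  have h14 := checkSteps_sound F iv 12 4194304 γ hiv q0 words hw steps713 713000 129608 129740 h13 chk713
  rw [len713] at h14
  have h15 := checkSteps_sound F iv 12 4194304 γ hiv q0 words hw steps714 714000 129740 129869 h14 chk714
  rw [len714] at h15
  have h16 := checkSteps_sound F iv 12 4194304 γ hiv q0 words hw steps715 715000 129869 129991 h15 chk715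
  rw [len715] at h16
  have h17 := checkSteps_sound F iv 12 4194304 γ hiv q0 words hw steps716 716000 129991 130121 h16 chk716
  rw [len716] at h17
  have h18 := checkSteps_sound F iv 12 4194304 γ hiv q0 words hw steps717 717000 130121 130243 h17 chk717
  rw [len717] at h18
  have h19 := checkSteps_sound F iv 12 4194304 γ hiv q0 words hw steps718 718000 130243 130379 h18 chk718
  rw [len718] at h19
  have h20 := checkSteps_sound F iv 12 4194304 γ hiv q0 words hw steps719 719000 130379 130520 h19 chk719
  rw [len719] at h20
  have h21 := checkSteps_sound F iv 12 4194304 γ hiv q0 words hw steps720 720000 130520 130661 h20 chk720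
  rw [len720] at h21
  have h22 := checkSteps_sound F iv 12 4194304 γ hiv q0 words hw steps721 721000 130661 130802 h21 chk721
  rw [len721] at h22
  have h23 := checkSteps_sound F iv 12 4194304 γ hiv q0 words hw steps722 722000 130802 130930 h22 chk722
  rw [len722] at h23
  have h24 := checkSteps_sound F iv 12 4194304 γ hiv q0 words hw steps723 723000 130930 131054 h23 chk723
  rw [len723] at h24
  have h25 := checkSteps_sound F iv 12 4194304 γ hiv q0 words hw steps724 724000 131054 131189 h24 chk724
  rw [len724] at h25
  exact h25

end Cfsg.Agent.Lib.H6.FiTC
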