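import Cfsg.Agent.Lib.H6.FiTC.Steps29

set_option autoImplicit false
set_option maxRecDepth 1000000

/-! # invariant through part 29 of Fi24 (generated) -/

namespace Cfsg.Agent.Lib.H6.FiTC

open Cfsg.Agent.Lib.H17.CosetCert Cfsg.Agent.Lib.H6.TC

theorem part29 {G Q : Type} [Group G] [MulAction G Q] (γ : ℕ → G)
    (hiv : ∀ x < 12, γ (iv x) = (γ x)⁻¹) (q0 : Q) (hw : WordsOK γ q0 words)
    (h0 : Inv F 12 γ q0 725000 131189) : Inv F 12 γ q0 750000 134542 := by
  have h1 := checkSteps_sound F iv 12 4194304 γ hiv q0 words hw steps725 725000 131189 131307 h0 chk725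
  rw [len725] at h1
  have h2 := checkSteps_sound F iv 12 4194304 γ hiv q0 words hw steps726 726000 131307 131431 h1 chk726
  rw [len726] at h2
  have h3 := checkSteps_sound F iv 12 4194304 γ hiv q0 words hw steps727 727000 131431 131558 h2 chk727
  rw [len727] at h3
  have h4 := checkSteps_sound F iv 12 4194304 γ hiv q0 words hw steps728 728000 131558 131687 h3 chk728
  rw [len728] at h4
  have h5 := checkSteps_sound F iv 12 4194304 γ hiv q0 words hw steps729 729000 131687 131831 h4 chk729
  rw [len729] at h5
  have h6 := checkSteps_sound F iv 12 4194304 γ hiv q0 words hw steps730 730000 131831 131958 h5 chk730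
  rw [len730] at h6
  have h7 := checkSteps_sound F iv 12 4194304 γ hiv q0 words hw steps731 731000 131958 132089 h6 chk731
  rw [len731] at h7
  have h8 := checkSteps_sound F iv 12 4194304 γ hiv q0 words hw steps732 732000 132089 132213 h7 chk732
  rw [len732] at h8
  have h9 := checkSteps_sound F iv 12 4194304 γ hiv q0 words hw steps733 733000 132213 132345 h8 chk733
  rw [len733] at h9
  have h10 := checkSteps_sound F iv 12 4194304 γ hiv q0 words hw steps734 734000 132345 132461 h9 chk734
  rw [len734] at h10
  have h11 := checkSteps_sound F iv 12 4194304 γ hiv q0 words hw steps735 735000 132461 132566 h10 chk735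
  rw [len735] at h11
  have h12 := checkSteps_sound F iv 12 4194304 γ hiv q0 words hw steps736 736000 132566 132705 h11 chk736
  rw [len736] at h12
  have h13 := checkSteps_sound F iv 12 4194304 γ hiv q0 words hw steps737 737000 132705 132830 h12 chk737
  rw [len737] at h13
  have h14 := checkSteps_sound F iv 12 4194304 γ hiv q0 words hw steps738 738000 132830 132980 h13 chk738
  rw [len738] at h14
  have h15 := checkSteps_sound F iv 12 4194304 γ hiv q0 words hw steps739 739000 132980 133111 h14 chk739
  rw [len739] at h15
  have h16 := checkSteps_sound F iv 12 4194304 γ hiv q0 words hw steps740 740000 133111 133260 h15 chk740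
  rw [len740] at h16
  have h17 := checkSteps_sound F iv 12 4194304 γ hiv q0 words hw steps741 741000 133260 133408 h16 chk741
  rw [len741] at h17
  have h18 := checkSteps_sound F iv 12 4194304 γ hiv q0 words hw steps742 742000 133408 133553 h17 chk742
  rw [len742] at h18
  have h19 := checkSteps_sound F iv 12 4194304 γ hiv q0 words hw steps743 743000 133553 133713 h18 chk743
  rw [len743] at h19
  have h20 := checkSteps_sound F iv 12 4194304 γ hiv q0 words hw steps744 744000 133713 133846 h19 chk744
  rw [len744] at h20
  have h21 := checkSteps_sound F iv 12 4194304 γ hiv q0 words hw steps745 745000 133846 133966 h20 chk745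
  rw [len745] at h21
  have h22 := checkSteps_sound F iv 12 4194304 γ hiv q0 words hw steps746 746000 133966 134104 h21 chk746
  rw [len746] at h22
  have h23 := checkSteps_sound F iv 12 4194304 γ hiv q0 words hw steps747 747000 134104 134268 h22 chk747
  rw [len747] at h23
  have h24 := checkSteps_sound F iv 12 4194304 γ hiv q0 words hw steps748 748000 134268 134404 h23 chk748
  rw [len748] at h24
  have h25 := checkSteps_sound F iv 12 4194304 γ hiv q0 words hw steps749 749000 134404 134542 h24 chk749
  rw [len749] at h25
  exact h25

end Cfsg.Agent.Lib.H6.FiTC
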