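import Cfsg.Agent.Lib.H6.FiTC.Steps30

set_option autoImplicit false
set_option maxRecDepth 1000000

/-! # invariant through part 30 of Fi24 (generated) -/

namespace Cfsg.Agent.Lib.H6.FiTC

open Cfsg.Agent.Lib.H17.CosetCert Cfsg.Agent.Lib.H6.TC

theorem part30 {G Q : Type} [Group G] [MulAction G Q] (γ : ℕ → G)
    (hiv : ∀ x < 12, γ (iv x) = (γ x)⁻¹) (q0 : Q) (hw : WordsOK γ q0 words)
    (h0 : Inv F 12 γ q0 750000 134542) : Inv F 12 γ q0 775000 138309 := by
  have h1 := checkSteps_sound F iv 12 4194304 γ hiv q0 words hw steps750 750000 134542 134703 h0 chk750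
  rw [len750] at h1
  have h2 := checkSteps_sound F iv 12 4194304 γ hiv q0 words hw steps751 751000 134703 134848 h1 chk751
  rw [len751] at h2
  have h3 := checkSteps_sound F iv 12 4194304 γ hiv q0 words hw steps752 752000 134848 135012 h2 chk752
  rw [len752] at h3
  have h4 := checkSteps_sound F iv 12 4194304 γ hiv q0 words hw steps753 753000 135012 135175 h3 chk753
  rw [len753] at h4
  have h5 := checkSteps_sound F iv 12 4194304 γ hiv q0 words hw steps754 754000 135175 135347 h4 chk754
  rw [len754] at h5
  have h6 := checkSteps_sound F iv 12 4194304 γ hiv q0 words hw steps755 755000 135347 135511 h5 chk755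
  rw [len755] at h6
  have h7 := checkSteps_sound F iv 12 4194304 γ hiv q0 words hw steps756 756000 135511 135676 h6 chk756
  rw [len756] at h7
  have h8 := checkSteps_sound F iv 12 4194304 γ hiv q0 words hw steps757 757000 135676 135845 h7 chk757
  rw [len757] at h8
  have h9 := checkSteps_sound F iv 12 4194304 γ hiv q0 words hw steps758 758000 135845 136008 h8 chk758
  rw [len758] at h9
  have h10 := checkSteps_sound F iv 12 4194304 γ hiv q0 words hw steps759 759000 136008 136139 h9 chk759
  rw [len759] at h10
  have h11 := checkSteps_sound F iv 12 4194304 γ hiv q0 words hw steps760 760000 136139 136278 h10 chk760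
  rw [len760] at h11
  have h12 := checkSteps_sound F iv 12 4194304 γ hiv q0 words hw steps761 761000 136278 136423 h11 chk761
  rw [len761] at h12
  have h13 := checkSteps_sound F iv 12 4194304 γ hiv q0 words hw steps762 762000 136423 136556 h12 chk762
  rw [len762] at h13
  have h14 := checkSteps_sound F iv 12 4194304 γ hiv q0 words hw steps763 763000 136556 136698 h13 chk763
  rw [len763] at h14
  have h15 := checkSteps_sound F iv 12 4194304 γ hiv q0 words hw steps764 764000 136698 136840 h14 chk764
  rw [len764] at h15
  have h16 := checkSteps_sound F iv 12 4194304 γ hiv q0 words hw steps765 765000 136840 136994 h15 chk765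
  rw [len765] at h16
  have h17 := checkSteps_sound F iv 12 4194304 γ hiv q0 words hw steps766 766000 136994 137134 h16 chk766
  rw [len766] at h17
  have h18 := checkSteps_sound F iv 12 4194304 γ hiv q0 words hw steps767 767000 137134 137259 h17 chk767
  rw [len767] at h18
  have h19 := checkSteps_sound F iv 12 4194304 γ hiv q0 words hw steps768 768000 137259 137386 h18 chk768
  rw [len768] at h19
  have h20 := checkSteps_sound F iv 12 4194304 γ hiv q0 words hw steps769 769000 137386 137525 h19 chk769
  rw [len769] at h20
  have h21 := checkSteps_sound F iv 12 4194304 γ hiv q0 words hw steps770 770000 137525 137676 h20 chk770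
  rw [len770] at h21
  have h22 := checkSteps_sound F iv 12 4194304 γ hiv q0 words hw steps771 771000 137676 137826 h21 chk771
  rw [len771] at h22
  have h23 := checkSteps_sound F iv 12 4194304 γ hiv q0 words hw steps772 772000 137826 137976 h22 chk772
  rw [len772] at h23
  have h24 := checkSteps_sound F iv 12 4194304 γ hiv q0 words hw steps773 773000 137976 138154 h23 chk773
  rw [len773] at h24
  have h25 := checkSteps_sound F iv 12 4194304 γ hiv q0 words hw steps774 774000 138154 138309 h24 chk774
  rw [len774] at h25
  exact h25

end Cfsg.Agent.Lib.H6.FiTC
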