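import Cfsg.Agent.Lib.H6.FiTC.Steps31

set_option autoImplicit false
set_option maxRecDepth 1000000

/-! # invariant through part 31 of Fi24 (generated) -/

namespace Cfsg.Agent.Lib.H6.FiTC

open Cfsg.Agent.Lib.H17.CosetCert Cfsg.Agent.Lib.H6.TC

theorem part31 {G Q : Type} [Group G] [MulAction G Q] (γ : ℕ → G)
    (hiv : ∀ x < 12, γ (iv x) = (γ x)⁻¹) (q0 : Q) (hw : WordsOK γ q0 words)
    (h0 : Inv F 12 γ q0 775000 138309) : Inv F 12 γ q0 800000 142704 := by
  have h1 := checkSteps_sound F iv 12 4194304 γ hiv q0 words hw steps775 775000 138309 138532 h0 chk775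
  rw [len775] at h1
  have h2 := checkSteps_sound F iv 12 4194304 γ hiv q0 words hw steps776 776000 138532 138714 h1 chk776
  rw [len776] at h2
  have h3 := checkSteps_sound F iv 12 4194304 γ hiv q0 words hw steps777 777000 138714 138946 h2 chk777
  rw [len777] at h3
  have h4 := checkSteps_sound F iv 12 4194304 γ hiv q0 words hw steps778 778000 138946 139137 h3 chk778
  rw [len778] at h4
  have h5 := checkSteps_sound F iv 12 4194304 γ hiv q0 words hw steps779 779000 139137 139315 h4 chk779
  rw [len779] at h5
  have h6 := checkSteps_sound F iv 12 4194304 γ hiv q0 words hw steps780 780000 139315 139490 h5 chk780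
  rw [len780] at h6
  have h7 := checkSteps_sound F iv 12 4194304 γ hiv q0 words hw steps781 781000 139490 139646 h6 chk781
  rw [len781] at h7
  have h8 := checkSteps_sound F iv 12 4194304 γ hiv q0 words hw steps782 782000 139646 139802 h7 chk782
  rw [len782] at h8
  have h9 := checkSteps_sound F iv 12 4194304 γ hiv q0 words hw steps783 783000 139802 139975 h8 chk783
  rw [len783] at h9
  have h10 := checkSteps_sound F iv 12 4194304 γ hiv q0 words hw steps784 784000 139975 140127 h9 chk784
  rw [len784] at h10
  have h11 := checkSteps_sound F iv 12 4194304 γ hiv q0 words hw steps785 785000 140127 140313 h10 chk785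
  rw [len785] at h11
  have h12 := checkSteps_sound F iv 12 4194304 γ hiv q0 words hw steps786 786000 140313 140496 h11 chk786
  rw [len786] at h12
  have h13 := checkSteps_sound F iv 12 4194304 γ hiv q0 words hw steps787 787000 140496 140660 h12 chk787
  rw [len787] at h13
  have h14 := checkSteps_sound F iv 12 4194304 γ hiv q0 words hw steps788 788000 140660 140855 h13 chk788
  rw [len788] at h14
  have h15 := checkSteps_sound F iv 12 4194304 γ hiv q0 words hw steps789 789000 140855 141040 h14 chk789
  rw [len789] at h15
  have h16 := checkSteps_sound F iv 12 4194304 γ hiv q0 words hw steps790 790000 141040 141201 h15 chk790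
  rw [len790] at h16
  have h17 := checkSteps_sound F iv 12 4194304 γ hiv q0 words hw steps791 791000 141201 141343 h16 chk791
  rw [len791] at h17
  have h18 := checkSteps_sound F iv 12 4194304 γ hiv q0 words hw steps792 792000 141343 141502 h17 chk792
  rw [len792] at h18
  have h19 := checkSteps_sound F iv 12 4194304 γ hiv q0 words hw steps793 793000 141502 141659 h18 chk793
  rw [len793] at h19
  have h20 := checkSteps_sound F iv 12 4194304 γ hiv q0 words hw steps794 794000 141659 141832 h19 chk794
  rw [len794] at h20
  have h21 := checkSteps_sound F iv 12 4194304 γ hiv q0 words hw steps795 795000 141832 142022 h20 chk795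
  rw [len795] at h21
  have h22 := checkSteps_sound F iv 12 4194304 γ hiv q0 words hw steps796 796000 142022 142182 h21 chk796
  rw [len796] at h22
  have h23 := checkSteps_sound F iv 12 4194304 γ hiv q0 words hw steps797 797000 142182 142333 h22 chk797
  rw [len797] at h23
  have h24 := checkSteps_sound F iv 12 4194304 γ hiv q0 words hw steps798 798000 142333 142505 h23 chk798
  rw [len798] at h24
  have h25 := checkSteps_sound F iv 12 4194304 γ hiv q0 words hw steps799 799000 142505 142704 h24 chk799
  rw [len799] at h25
  exact h25

end Cfsg.Agent.Lib.H6.FiTC
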