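import Cfsg.Agent.Lib.H6.FiTC.Steps32

set_option autoImplicit false
set_option maxRecDepth 1000000

/-! # invariant through part 32 of Fi24 (generated) -/

namespace Cfsg.Agent.Lib.H6.FiTC

open Cfsg.Agent.Lib.H17.CosetCert Cfsg.Agent.Lib.H6.TC

theorem part32 {G Q : Type} [Group G] [MulAction G Q] (γ : ℕ → G)
    (hiv : ∀ x < 12, γ (iv x) = (γ x)⁻¹) (q0 : Q) (hw : WordsOK γ q0 words)
    (h0 : Inv F 12 γ q0 800000 142704) : Inv F 12 γ q0 825000 147529 := by
  have h1 := checkSteps_sound F iv 12 4194304 γ hiv q0 words hw steps800 800000 142704 142891 h0 chk800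
  rw [len800] at h1
  have h2 := checkSteps_sound F iv 12 4194304 γ hiv q0 words hw steps801 801000 142891 143052 h1 chk801
  rw [len801] at h2
  have h3 := checkSteps_sound F iv 12 4194304 γ hiv q0 words hw steps802 802000 143052 143258 h2 chk802
  rw [len802] at h3
  have h4 := checkSteps_sound F iv 12 4194304 γ hiv q0 words hw steps803 803000 143258 143443 h3 chk803
  rw [len803] at h4
  have h5 := checkSteps_sound F iv 12 4194304 γ hiv q0 words hw steps804 804000 143443 143627 h4 chk804
  rw [len804] at h5
  have h6 := checkSteps_sound F iv 12 4194304 γ hiv q0 words hw steps805 805000 143627 143851 h5 chk805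
  rw [len805] at h6
  have h7 := checkSteps_sound F iv 12 4194304 γ hiv q0 words hw steps806 806000 143851 144056 h6 chk806
  rw [len806] at h7
  have h8 := checkSteps_sound F iv 12 4194304 γ hiv q0 words hw steps807 807000 144056 144247 h7 chk807
  rw [len807] at h8
  have h9 := checkSteps_sound F iv 12 4194304 γ hiv q0 words hw steps808 808000 144247 144452 h8 chk808
  rw [len808] at h9
  have h10 := checkSteps_sound F iv 12 4194304 γ hiv q0 words hw steps809 809000 144452 144683 h9 chk809
  rw [len809] at h10
  have h11 := checkSteps_sound F iv 12 4194304 γ hiv q0 words hw steps810 810000 144683 144901 h10 chk810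
  rw [len810] at h11
  have h12 := checkSteps_sound F iv 12 4194304 γ hiv q0 words hw steps811 811000 144901 145098 h11 chk811
  rw [len811] at h12
  have h13 := checkSteps_sound F iv 12 4194304 γ hiv q0 words hw steps812 812000 145098 145265 h12 chk812
  rw [len812] at h13
  have h14 := checkSteps_sound F iv 12 4194304 γ hiv q0 words hw steps813 813000 145265 145451 h13 chk813
  rw [len813] at h14
  have h15 := checkSteps_sound F iv 12 4194304 γ hiv q0 words hw steps814 814000 145451 145639 h14 chk814
  rw [len814] at h15
  have h16 := checkSteps_sound F iv 12 4194304 γ hiv q0 words hw steps815 815000 145639 145824 h15 chk815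
  rw [len815] at h16
  have h17 := checkSteps_sound F iv 12 4194304 γ hiv q0 words hw steps816 816000 145824 145982 h16 chk816
  rw [len816] at h17
  have h18 := checkSteps_sound F iv 12 4194304 γ hiv q0 words hw steps817 817000 145982 146187 h17 chk817
  rw [len817] at h18
  have h19 := checkSteps_sound F iv 12 4194304 γ hiv q0 words hw steps818 818000 146187 146403 h18 chk818
  rw [len818] at h19
  have h20 := checkSteps_sound F iv 12 4194304 γ hiv q0 words hw steps819 819000 146403 146612 h19 chk819
  rw [len819] at h20
  have h21 := checkSteps_sound F iv 12 4194304 γ hiv q0 words hw steps820 820000 146612 146781 h20 chk820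
  rw [len820] at h21
  have h22 := checkSteps_sound F iv 12 4194304 γ hiv q0 words hw steps821 821000 146781 146968 h21 chk821
  rw [len821] at h22
  have h23 := checkSteps_sound F iv 12 4194304 γ hiv q0 words hw steps822 822000 146968 147158 h22 chk822
  rw [len822] at h23
  have h24 := checkSteps_sound F iv 12 4194304 γ hiv q0 words hw steps823 823000 147158 147410 h23 chk823
  rw [len823] at h24
  have h25 := checkSteps_sound F iv 12 4194304 γ hiv q0 words hw steps824 824000 147410 147529 h24 chk824
  rw [len824] at h25
  exact h25

end Cfsg.Agent.Lib.H6.FiTC
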