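import Cfsg.Agent.Lib.H6.FiTC.Steps33

set_option autoImplicit false
set_option maxRecDepth 1000000

/-! # invariant through part 33 of Fi24 (generated) -/

namespace Cfsg.Agent.Lib.H6.FiTC

open Cfsg.Agent.Lib.H17.CosetCert Cfsg.Agent.Lib.H6.TC

theorem part33 {G Q : Type} [Group G] [MulAction G Q] (γ : ℕ → G)
    (hiv : ∀ x < 12, γ (iv x) = (γ x)⁻¹) (q0 : Q) (hw : WordsOK γ q0 words)
    (h0 : Inv F 12 γ q0 825000 147529) : Inv F 12 γ q0 850000 150707 := by
  have h1 := checkSteps_sound F iv 12 4194304 γ hiv q0 words hw steps825 825000 147529 147641 h0 chk825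
  rw [len825] at h1
  have h2 := checkSteps_sound F iv 12 4194304 γ hiv q0 words hw steps826 826000 147641 147758 h1 chk826
  rw [len826] at h2
  have h3 := checkSteps_sound F iv 12 4194304 γ hiv q0 words hw steps827 827000 147758 147884 h2 chk827
  rw [len827] at h3
  have h4 := checkSteps_sound F iv 12 4194304 γ hiv q0 words hw steps828 828000 147884 148011 h3 chk828
  rw [len828] at h4
  have h5 := checkSteps_sound F iv 12 4194304 γ hiv q0 words hw steps829 829000 148011 148140 h4 chk829
  rw [len829] at h5
  have h6 := checkSteps_sound F iv 12 4194304 γ hiv q0 words hw steps830 830000 148140 148250 h5 chk830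
  rw [len830] at h6
  have h7 := checkSteps_sound F iv 12 4194304 γ hiv q0 words hw steps831 831000 148250 148379 h6 chk831
  rw [len831] at h7
  have h8 := checkSteps_sound F iv 12 4194304 γ hiv q0 words hw steps832 832000 148379 148510 h7 chk832
  rw [len832] at h8
  have h9 := checkSteps_sound F iv 12 4194304 γ hiv q0 words hw steps833 833000 148510 148639 h8 chk833
  rw [len833] at h9
  have h10 := checkSteps_sound F iv 12 4194304 γ hiv q0 words hw steps834 834000 148639 148790 h9 chk834
  rw [len834] at h10
  have h11 := checkSteps_sound F iv 12 4194304 γ hiv q0 words hw steps835 835000 148790 148930 h10 chk835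
  rw [len835] at h11
  have h12 := checkSteps_sound F iv 12 4194304 γ hiv q0 words hw steps836 836000 148930 149060 h11 chk836
  rw [len836] at h12
  have h13 := checkSteps_sound F iv 12 4194304 γ hiv q0 words hw steps837 837000 149060 149180 h12 chk837
  rw [len837] at h13
  have h14 := checkSteps_sound F iv 12 4194304 γ hiv q0 words hw steps838 838000 149180 149308 h13 chk838
  rw [len838] at h14
  have h15 := checkSteps_sound F iv 12 4194304 γ hiv q0 words hw steps839 839000 149308 149422 h14 chk839
  rw [len839] at h15
  have h16 := checkSteps_sound F iv 12 4194304 γ hiv q0 words hw steps840 840000 149422 149552 h15 chk840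
  rw [len840] at h16
  have h17 := checkSteps_sound F iv 12 4194304 γ hiv q0 words hw steps841 841000 149552 149673 h16 chk841
  rw [len841] at h17
  have h18 := checkSteps_sound F iv 12 4194304 γ hiv q0 words hw steps842 842000 149673 149800 h17 chk842
  rw [len842] at h18
  have h19 := checkSteps_sound F iv 12 4194304 γ hiv q0 words hw steps843 843000 149800 149929 h18 chk843
  rw [len843] at h19
  have h20 := checkSteps_sound F iv 12 4194304 γ hiv q0 words hw steps844 844000 149929 150075 h19 chk844
  rw [len844] at h20
  have h21 := checkSteps_sound F iv 12 4194304 γ hiv q0 words hw steps845 845000 150075 150207 h20 chk845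
  rw [len845] at h21
  have h22 := checkSteps_sound F iv 12 4194304 γ hiv q0 words hw steps846 846000 150207 150337 h21 chk846
  rw [len846] at h22
  have h23 := checkSteps_sound F iv 12 4194304 γ hiv q0 words hw steps847 847000 150337 150470 h22 chk847
  rw [len847] at h23
  have h24 := checkSteps_sound F iv 12 4194304 γ hiv q0 words hw steps848 848000 150470 150584 h23 chk848
  rw [len848] at h24
  have h25 := checkSteps_sound F iv 12 4194304 γ hiv q0 words hw steps849 849000 150584 150707 h24 chk849
  rw [len849] at h25
  exact h25

end Cfsg.Agent.Lib.H6.FiTC
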