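import Cfsg.Agent.Lib.H6.FiTC.Steps34

set_option autoImplicit false
set_option maxRecDepth 1000000

/-! # invariant through part 34 of Fi24 (generated) -/

namespace Cfsg.Agent.Lib.H6.FiTC

open Cfsg.Agent.Lib.H17.CosetCert Cfsg.Agent.Lib.H6.TC

theorem part34 {G Q : Type} [Group G] [MulAction G Q] (γ : ℕ → G)
    (hiv : ∀ x < 12, γ (iv x) = (γ x)⁻¹) (q0 : Q) (hw : WordsOK γ q0 words)
    (h0 : Inv F 12 γ q0 850000 150707) : Inv F 12 γ q0 875000 154301 := by
  have h1 := checkSteps_sound F iv 12 4194304 γ hiv q0 words hw steps850 850000 150707 150824 h0 chk850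
  rw [len850] at h1
  have h2 := checkSteps_sound F iv 12 4194304 γ hiv q0 words hw steps851 851000 150824 150933 h1 chk851
  rw [len851] at h2
  have h3 := checkSteps_sound F iv 12 4194304 γ hiv q0 words hw steps852 852000 150933 151069 h2 chk852
  rw [len852] at h3
  have h4 := checkSteps_sound F iv 12 4194304 γ hiv q0 words hw steps853 853000 151069 151190 h3 chk853
  rw [len853] at h4
  have h5 := checkSteps_sound F iv 12 4194304 γ hiv q0 words hw steps854 854000 151190 151333 h4 chk854
  rw [len854] at h5
  have h6 := checkSteps_sound F iv 12 4194304 γ hiv q0 words hw steps855 855000 151333 151467 h5 chk855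
  rw [len855] at h6
  have h7 := checkSteps_sound F iv 12 4194304 γ hiv q0 words hw steps856 856000 151467 151609 h6 chk856
  rw [len856] at h7
  have h8 := checkSteps_sound F iv 12 4194304 γ hiv q0 words hw steps857 857000 151609 151761 h7 chk857
  rw [len857] at h8
  have h9 := checkSteps_sound F iv 12 4194304 γ hiv q0 words hw steps858 858000 151761 151919 h8 chk858
  rw [len858] at h9
  have h10 := checkSteps_sound F iv 12 4194304 γ hiv q0 words hw steps859 859000 151919 152048 h9 chk859
  rw [len859] at h10
  have h11 := checkSteps_sound F iv 12 4194304 γ hiv q0 words hw steps860 860000 152048 152200 h10 chk860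
  rw [len860] at h11
  have h12 := checkSteps_sound F iv 12 4194304 γ hiv q0 words hw steps861 861000 152200 152357 h11 chk861
  rw [len861] at h12
  have h13 := checkSteps_sound F iv 12 4194304 γ hiv q0 words hw steps862 862000 152357 152495 h12 chk862
  rw [len862] at h13
  have h14 := checkSteps_sound F iv 12 4194304 γ hiv q0 words hw steps863 863000 152495 152610 h13 chk863
  rw [len863] at h14
  have h15 := checkSteps_sound F iv 12 4194304 γ hiv q0 words hw steps864 864000 152610 152746 h14 chk864
  rw [len864] at h15
  have h16 := checkSteps_sound F iv 12 4194304 γ hiv q0 words hw steps865 865000 152746 152901 h15 chk865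
  rw [len865] at h16
  have h17 := checkSteps_sound F iv 12 4194304 γ hiv q0 words hw steps866 866000 152901 153055 h16 chk866
  rw [len866] at h17
  have h18 := checkSteps_sound F iv 12 4194304 γ hiv q0 words hw steps867 867000 153055 153185 h17 chk867
  rw [len867] at h18
  have h19 := checkSteps_sound F iv 12 4194304 γ hiv q0 words hw steps868 868000 153185 153328 h18 chk868
  rw [len868] at h19
  have h20 := checkSteps_sound F iv 12 4194304 γ hiv q0 words hw steps869 869000 153328 153493 h19 chk869
  rw [len869] at h20
  have h21 := checkSteps_sound F iv 12 4194304 γ hiv q0 words hw steps870 870000 153493 153635 h20 chk870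
  rw [len870] at h21
  have h22 := checkSteps_sound F iv 12 4194304 γ hiv q0 words hw steps871 871000 153635 153797 h21 chk871
  rw [len871] at h22
  have h23 := checkSteps_sound F iv 12 4194304 γ hiv q0 words hw steps872 872000 153797 153952 h22 chk872
  rw [len872] at h23
  have h24 := checkSteps_sound F iv 12 4194304 γ hiv q0 words hw steps873 873000 153952 154128 h23 chk873
  rw [len873] at h24
  have h25 := checkSteps_sound F iv 12 4194304 γ hiv q0 words hw steps874 874000 154128 154301 h24 chk874
  rw [len874] at h25
  exact h25

end Cfsg.Agent.Lib.H6.FiTC
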