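import Cfsg.Agent.Lib.H6.FiTC.Steps35

set_option autoImplicit false
set_option maxRecDepth 1000000

/-! # invariant through part 35 of Fi24 (generated) -/

namespace Cfsg.Agent.Lib.H6.FiTC

open Cfsg.Agent.Lib.H17.CosetCert Cfsg.Agent.Lib.H6.TC

theorem part35 {G Q : Type} [Group G] [MulAction G Q] (γ : ℕ → G)
    (hiv : ∀ x < 12, γ (iv x) = (γ x)⁻¹) (q0 : Q) (hw : WordsOK γ q0 words)
    (h0 : Inv F 12 γ q0 875000 154301) : Inv F 12 γ q0 900000 158295 := by
  have h1 := checkSteps_sound F iv 12 4194304 γ hiv q0 words hw steps875 875000 154301 154468 h0 chk875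
  rw [len875] at h1
  have h2 := checkSteps_sound F iv 12 4194304 γ hiv q0 words hw steps876 876000 154468 154623 h1 chk876
  rw [len876] at h2
  have h3 := checkSteps_sound F iv 12 4194304 γ hiv q0 words hw steps877 877000 154623 154793 h2 chk877
  rw [len877] at h3
  have h4 := checkSteps_sound F iv 12 4194304 γ hiv q0 words hw steps878 878000 154793 154971 h3 chk878
  rw [len878] at h4
  have h5 := checkSteps_sound F iv 12 4194304 γ hiv q0 words hw steps879 879000 154971 155107 h4 chk879
  rw [len879] at h5
  have h6 := checkSteps_sound F iv 12 4194304 γ hiv q0 words hw steps880 880000 155107 155227 h5 chk880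
  rw [len880] at h6
  have h7 := checkSteps_sound F iv 12 4194304 γ hiv q0 words hw steps881 881000 155227 155367 h6 chk881
  rw [len881] at h7
  have h8 := checkSteps_sound F iv 12 4194304 γ hiv q0 words hw steps882 882000 155367 155504 h7 chk882
  rw [len882] at h8
  have h9 := checkSteps_sound F iv 12 4194304 γ hiv q0 words hw steps883 883000 155504 155640 h8 chk883
  rw [len883] at h9
  have h10 := checkSteps_sound F iv 12 4194304 γ hiv q0 words hw steps884 884000 155640 155776 h9 chk884
  rw [len884] at h10
  have h11 := checkSteps_sound F iv 12 4194304 γ hiv q0 words hw steps885 885000 155776 155924 h10 chk885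
  rw [len885] at h11
  have h12 := checkSteps_sound F iv 12 4194304 γ hiv q0 words hw steps886 886000 155924 156068 h11 chk886
  rw [len886] at h12
  have h13 := checkSteps_sound F iv 12 4194304 γ hiv q0 words hw steps887 887000 156068 156189 h12 chk887
  rw [len887] at h13
  have h14 := checkSteps_sound F iv 12 4194304 γ hiv q0 words hw steps888 888000 156189 156314 h13 chk888
  rw [len888] at h14
  have h15 := checkSteps_sound F iv 12 4194304 γ hiv q0 words hw steps889 889000 156314 156448 h14 chk889
  rw [len889] at h15
  have h16 := checkSteps_sound F iv 12 4194304 γ hiv q0 words hw steps890 890000 156448 156592 h15 chk890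
  rw [len890] at h16
  have h17 := checkSteps_sound F iv 12 4194304 γ hiv q0 words hw steps891 891000 156592 156735 h16 chk891
  rw [len891] at h17
  have h18 := checkSteps_sound F iv 12 4194304 γ hiv q0 words hw steps892 892000 156735 156898 h17 chk892
  rw [len892] at h18
  have h19 := checkSteps_sound F iv 12 4194304 γ hiv q0 words hw steps893 893000 156898 157074 h18 chk893
  rw [len893] at h19
  have h20 := checkSteps_sound F iv 12 4194304 γ hiv q0 words hw steps894 894000 157074 157274 h19 chk894
  rw [len894] at h20
  have h21 := checkSteps_sound F iv 12 4194304 γ hiv q0 words hw steps895 895000 157274 157479 h20 chk895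
  rw [len895] at h21
  have h22 := checkSteps_sound F iv 12 4194304 γ hiv q0 words hw steps896 896000 157479 157675 h21 chk896
  rw [len896] at h22
  have h23 := checkSteps_sound F iv 12 4194304 γ hiv q0 words hw steps897 897000 157675 157907 h22 chk897
  rw [len897] at h23
  have h24 := checkSteps_sound F iv 12 4194304 γ hiv q0 words hw steps898 898000 157907 158089 h23 chk898
  rw [len898] at h24
  have h25 := checkSteps_sound F iv 12 4194304 γ hiv q0 words hw steps899 899000 158089 158295 h24 chk899
  rw [len899] at h25
  exact h25

end Cfsg.Agent.Lib.H6.FiTC
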