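import Cfsg.Agent.Lib.H6.FiTC.Steps36

set_option autoImplicit false
set_option maxRecDepth 1000000

/-! # invariant through part 36 of Fi24 (generated) -/

namespace Cfsg.Agent.Lib.H6.FiTC

open Cfsg.Agent.Lib.H17.CosetCert Cfsg.Agent.Lib.H6.TC

theorem part36 {G Q : Type} [Group G] [MulAction G Q] (γ : ℕ → G)
    (hiv : ∀ x < 12, γ (iv x) = (γ x)⁻¹) (q0 : Q) (hw : WordsOK γ q0 words)
    (h0 : Inv F 12 γ q0 900000 158295) : Inv F 12 γ q0 925000 162552 := by
  have h1 := checkSteps_sound F iv 12 4194304 γ hiv q0 words hw steps900 900000 158295 158464 h0 chk900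
  rw [len900] at h1
  have h2 := checkSteps_sound F iv 12 4194304 γ hiv q0 words hw steps901 901000 158464 158621 h1 chk901
  rw [len901] at h2
  have h3 := checkSteps_sound F iv 12 4194304 γ hiv q0 words hw steps902 902000 158621 158770 h2 chk902
  rw [len902] at h3
  have h4 := checkSteps_sound F iv 12 4194304 γ hiv q0 words hw steps903 903000 158770 158943 h3 chk903
  rw [len903] at h4
  have h5 := checkSteps_sound F iv 12 4194304 γ hiv q0 words hw steps904 904000 158943 159096 h4 chk904
  rw [len904] at h5
  have h6 := checkSteps_sound F iv 12 4194304 γ hiv q0 words hw steps905 905000 159096 159257 h5 chk905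
  rw [len905] at h6
  have h7 := checkSteps_sound F iv 12 4194304 γ hiv q0 words hw steps906 906000 159257 159448 h6 chk906
  rw [len906] at h7
  have h8 := checkSteps_sound F iv 12 4194304 γ hiv q0 words hw steps907 907000 159448 159633 h7 chk907
  rw [len907] at h8
  have h9 := checkSteps_sound F iv 12 4194304 γ hiv q0 words hw steps908 908000 159633 159799 h8 chk908
  rw [len908] at h9
  have h10 := checkSteps_sound F iv 12 4194304 γ hiv q0 words hw steps909 909000 159799 159966 h9 chk909
  rw [len909] at h10
  have h11 := checkSteps_sound F iv 12 4194304 γ hiv q0 words hw steps910 910000 159966 160174 h10 chk910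
  rw [len910] at h11
  have h12 := checkSteps_sound F iv 12 4194304 γ hiv q0 words hw steps911 911000 160174 160354 h11 chk911
  rw [len911] at h12
  have h13 := checkSteps_sound F iv 12 4194304 γ hiv q0 words hw steps912 912000 160354 160521 h12 chk912
  rw [len912] at h13
  have h14 := checkSteps_sound F iv 12 4194304 γ hiv q0 words hw steps913 913000 160521 160667 h13 chk913
  rw [len913] at h14
  have h15 := checkSteps_sound F iv 12 4194304 γ hiv q0 words hw steps914 914000 160667 160799 h14 chk914
  rw [len914] at h15
  have h16 := checkSteps_sound F iv 12 4194304 γ hiv q0 words hw steps915 915000 160799 160983 h15 chk915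
  rw [len915] at h16
  have h17 := checkSteps_sound F iv 12 4194304 γ hiv q0 words hw steps916 916000 160983 161130 h16 chk916
  rw [len916] at h17
  have h18 := checkSteps_sound F iv 12 4194304 γ hiv q0 words hw steps917 917000 161130 161308 h17 chk917
  rw [len917] at h18
  have h19 := checkSteps_sound F iv 12 4194304 γ hiv q0 words hw steps918 918000 161308 161495 h18 chk918
  rw [len918] at h19
  have h20 := checkSteps_sound F iv 12 4194304 γ hiv q0 words hw steps919 919000 161495 161647 h19 chk919
  rw [len919] at h20
  have h21 := checkSteps_sound F iv 12 4194304 γ hiv q0 words hw steps920 920000 161647 161812 h20 chk920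
  rw [len920] at h21
  have h22 := checkSteps_sound F iv 12 4194304 γ hiv q0 words hw steps921 921000 161812 161972 h21 chk921
  rw [len921] at h22
  have h23 := checkSteps_sound F iv 12 4194304 γ hiv q0 words hw steps922 922000 161972 162153 h22 chk922
  rw [len922] at h23
  have h24 := checkSteps_sound F iv 12 4194304 γ hiv q0 words hw steps923 923000 162153 162357 h23 chk923
  rw [len923] at h24
  have h25 := checkSteps_sound F iv 12 4194304 γ hiv q0 words hw steps924 924000 162357 162552 h24 chk924
  rw [len924] at h25
  exact h25

end Cfsg.Agent.Lib.H6.FiTC
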