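import Cfsg.Agent.Lib.H6.FiTC.Steps37

set_option autoImplicit false
set_option maxRecDepth 1000000

/-! # invariant through part 37 of Fi24 (generated) -/

namespace Cfsg.Agent.Lib.H6.FiTC

open Cfsg.Agent.Lib.H17.CosetCert Cfsg.Agent.Lib.H6.TC

theorem part37 {G Q : Type} [Group G] [MulAction G Q] (γ : ℕ → G)
    (hiv : ∀ x < 12, γ (iv x) = (γ x)⁻¹) (q0 : Q) (hw : WordsOK γ q0 words)
    (h0 : Inv F 12 γ q0 925000 162552) : Inv F 12 γ q0 950000 167443 := by
  have h1 := checkSteps_sound F iv 12 4194304 γ hiv q0 words hw steps925 925000 162552 162716 h0 chk925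
  rw [len925] at h1
  have h2 := checkSteps_sound F iv 12 4194304 γ hiv q0 words hw steps926 926000 162716 162922 h1 chk926
  rw [len926] at h2
  have h3 := checkSteps_sound F iv 12 4194304 γ hiv q0 words hw steps927 927000 162922 163126 h2 chk927
  rw [len927] at h3
  have h4 := checkSteps_sound F iv 12 4194304 γ hiv q0 words hw steps928 928000 163126 163305 h3 chk928
  rw [len928] at h4
  have h5 := checkSteps_sound F iv 12 4194304 γ hiv q0 words hw steps929 929000 163305 163486 h4 chk929
  rw [len929] at h5
  have h6 := checkSteps_sound F iv 12 4194304 γ hiv q0 words hw steps930 930000 163486 163719 h5 chk930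
  rw [len930] at h6
  have h7 := checkSteps_sound F iv 12 4194304 γ hiv q0 words hw steps931 931000 163719 163929 h6 chk931
  rw [len931] at h7
  have h8 := checkSteps_sound F iv 12 4194304 γ hiv q0 words hw steps932 932000 163929 164115 h7 chk932
  rw [len932] at h8
  have h9 := checkSteps_sound F iv 12 4194304 γ hiv q0 words hw steps933 933000 164115 164334 h8 chk933
  rw [len933] at h9
  have h10 := checkSteps_sound F iv 12 4194304 γ hiv q0 words hw steps934 934000 164334 164535 h9 chk934
  rw [len934] at h10
  have h11 := checkSteps_sound F iv 12 4194304 γ hiv q0 words hw steps935 935000 164535 164784 h10 chk935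
  rw [len935] at h11
  have h12 := checkSteps_sound F iv 12 4194304 γ hiv q0 words hw steps936 936000 164784 165008 h11 chk936
  rw [len936] at h12
  have h13 := checkSteps_sound F iv 12 4194304 γ hiv q0 words hw steps937 937000 165008 165205 h12 chk937
  rw [len937] at h13
  have h14 := checkSteps_sound F iv 12 4194304 γ hiv q0 words hw steps938 938000 165205 165382 h13 chk938
  rw [len938] at h14
  have h15 := checkSteps_sound F iv 12 4194304 γ hiv q0 words hw steps939 939000 165382 165569 h14 chk939
  rw [len939] at h15
  have h16 := checkSteps_sound F iv 12 4194304 γ hiv q0 words hw steps940 940000 165569 165767 h15 chk940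
  rw [len940] at h16
  have h17 := checkSteps_sound F iv 12 4194304 γ hiv q0 words hw steps941 941000 165767 165948 h16 chk941
  rw [len941] at h17
  have h18 := checkSteps_sound F iv 12 4194304 γ hiv q0 words hw steps942 942000 165948 166152 h17 chk942
  rw [len942] at h18
  have h19 := checkSteps_sound F iv 12 4194304 γ hiv q0 words hw steps943 943000 166152 166374 h18 chk943
  rw [len943] at h19
  have h20 := checkSteps_sound F iv 12 4194304 γ hiv q0 words hw steps944 944000 166374 166581 h19 chk944
  rw [len944] at h20
  have h21 := checkSteps_sound F iv 12 4194304 γ hiv q0 words hw steps945 945000 166581 166747 h20 chk945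
  rw [len945] at h21
  have h22 := checkSteps_sound F iv 12 4194304 γ hiv q0 words hw steps946 946000 166747 166923 h21 chk946
  rw [len946] at h22
  have h23 := checkSteps_sound F iv 12 4194304 γ hiv q0 words hw steps947 947000 166923 167154 h22 chk947
  rw [len947] at h23
  have h24 := checkSteps_sound F iv 12 4194304 γ hiv q0 words hw steps948 948000 167154 167334 h23 chk948
  rw [len948] at h24
  have h25 := checkSteps_sound F iv 12 4194304 γ hiv q0 words hw steps949 949000 167334 167443 h24 chk949
  rw [len949] at h25
  exact h25

end Cfsg.Agent.Lib.H6.FiTC
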