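import Cfsg.Agent.Lib.H6.FiTC.Steps39

set_option autoImplicit false
set_option maxRecDepth 1000000

/-! # invariant through part 39 of Fi24 (generated) -/

namespace Cfsg.Agent.Lib.H6.FiTC

open Cfsg.Agent.Lib.H17.CosetCert Cfsg.Agent.Lib.H6.TC

theorem part39 {G Q : Type} [Group G] [MulAction G Q] (γ : ℕ → G)
    (hiv : ∀ x < 12, γ (iv x) = (γ x)⁻¹) (q0 : Q) (hw : WordsOK γ q0 words)
    (h0 : Inv F 12 γ q0 975000 170606) : Inv F 12 γ q0 1000000 174065 := by
  have h1 := checkSteps_sound F iv 12 4194304 γ hiv q0 words hw steps975 975000 170606 170725 h0 chk975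
  rw [len975] at h1
  have h2 := checkSteps_sound F iv 12 4194304 γ hiv q0 words hw steps976 976000 170725 170835 h1 chk976
  rw [len976] at h2
  have h3 := checkSteps_sound F iv 12 4194304 γ hiv q0 words hw steps977 977000 170835 170962 h2 chk977
  rw [len977] at h3
  have h4 := checkSteps_sound F iv 12 4194304 γ hiv q0 words hw steps978 978000 170962 171085 h3 chk978
  rw [len978] at h4
  have h5 := checkSteps_sound F iv 12 4194304 γ hiv q0 words hw steps979 979000 171085 171216 h4 chk979
  rw [len979] at h5
  have h6 := checkSteps_sound F iv 12 4194304 γ hiv q0 words hw steps980 980000 171216 171353 h5 chk980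
  rw [len980] at h6
  have h7 := checkSteps_sound F iv 12 4194304 γ hiv q0 words hw steps981 981000 171353 171477 h6 chk981
  rw [len981] at h7
  have h8 := checkSteps_sound F iv 12 4194304 γ hiv q0 words hw steps982 982000 171477 171621 h7 chk982
  rw [len982] at h8
  have h9 := checkSteps_sound F iv 12 4194304 γ hiv q0 words hw steps983 983000 171621 171771 h8 chk983
  rw [len983] at h9
  have h10 := checkSteps_sound F iv 12 4194304 γ hiv q0 words hw steps984 984000 171771 171916 h9 chk984
  rw [len984] at h10
  have h11 := checkSteps_sound F iv 12 4194304 γ hiv q0 words hw steps985 985000 171916 172072 h10 chk985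
  rw [len985] at h11
  have h12 := checkSteps_sound F iv 12 4194304 γ hiv q0 words hw steps986 986000 172072 172197 h11 chk986
  rw [len986] at h12
  have h13 := checkSteps_sound F iv 12 4194304 γ hiv q0 words hw steps987 987000 172197 172348 h12 chk987
  rw [len987] at h13
  have h14 := checkSteps_sound F iv 12 4194304 γ hiv q0 words hw steps988 988000 172348 172491 h13 chk988
  rw [len988] at h14
  have h15 := checkSteps_sound F iv 12 4194304 γ hiv q0 words hw steps989 989000 172491 172646 h14 chk989
  rw [len989] at h15
  have h16 := checkSteps_sound F iv 12 4194304 γ hiv q0 words hw steps990 990000 172646 172769 h15 chk990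
  rw [len990] at h16
  have h17 := checkSteps_sound F iv 12 4194304 γ hiv q0 words hw steps991 991000 172769 172894 h16 chk991
  rw [len991] at h17
  have h18 := checkSteps_sound F iv 12 4194304 γ hiv q0 words hw steps992 992000 172894 173030 h17 chk992
  rw [len992] at h18
  have h19 := checkSteps_sound F iv 12 4194304 γ hiv q0 words hw steps993 993000 173030 173182 h18 chk993
  rw [len993] at h19
  have h20 := checkSteps_sound F iv 12 4194304 γ hiv q0 words hw steps994 994000 173182 173323 h19 chk994
  rw [len994] at h20
  have h21 := checkSteps_sound F iv 12 4194304 γ hiv q0 words hw steps995 995000 173323 173453 h20 chk995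
  rw [len995] at h21
  have h22 := checkSteps_sound F iv 12 4194304 γ hiv q0 words hw steps996 996000 173453 173600 h21 chk996
  rw [len996] at h22
  have h23 := checkSteps_sound F iv 12 4194304 γ hiv q0 words hw steps997 997000 173600 173765 h22 chk997
  rw [len997] at h23
  have h24 := checkSteps_sound F iv 12 4194304 γ hiv q0 words hw steps998 998000 173765 173911 h23 chk998
  rw [len998] at h24
  have h25 := checkSteps_sound F iv 12 4194304 γ hiv q0 words hw steps999 999000 173911 174065 h24 chk999
  rw [len999] at h25
  exact h25

end Cfsg.Agent.Lib.H6.FiTC
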