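import Cfsg.Agent.Lib.H6.FiTC.Steps40

set_option autoImplicit false
set_option maxRecDepth 1000000

/-! # invariant through part 40 of Fi24 (generated) -/

namespace Cfsg.Agent.Lib.H6.FiTC

open Cfsg.Agent.Lib.H17.CosetCert Cfsg.Agent.Lib.H6.TC

theorem part40 {G Q : Type} [Group G] [MulAction G Q] (γ : ℕ → G)
    (hiv : ∀ x < 12, γ (iv x) = (γ x)⁻¹) (q0 : Q) (hw : WordsOK γ q0 words)
    (h0 : Inv F 12 γ q0 1000000 174065) : Inv F 12 γ q0 1025000 177929 := by
  have h1 := checkSteps_sound F iv 12 4194304 γ hiv q0 words hw steps1000 1000000 174065 174228 h0 chk1000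
  rw [len1000] at h1
  have h2 := checkSteps_sound F iv 12 4194304 γ hiv q0 words hw steps1001 1001000 174228 174388 h1 chk1001
  rw [len1001] at h2
  have h3 := checkSteps_sound F iv 12 4194304 γ hiv q0 words hw steps1002 1002000 174388 174561 h2 chk1002
  rw [len1002] at h3
  have h4 := checkSteps_sound F iv 12 4194304 γ hiv q0 words hw steps1003 1003000 174561 174725 h3 chk1003
  rw [len1003] at h4
  have h5 := checkSteps_sound F iv 12 4194304 γ hiv q0 words hw steps1004 1004000 174725 174898 h4 chk1004
  rw [len1004] at h5
  have h6 := checkSteps_sound F iv 12 4194304 γ hiv q0 words hw steps1005 1005000 174898 175042 h5 chk1005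
  rw [len1005] at h6
  have h7 := checkSteps_sound F iv 12 4194304 γ hiv q0 words hw steps1006 1006000 175042 175212 h6 chk1006
  rw [len1006] at h7
  have h8 := checkSteps_sound F iv 12 4194304 γ hiv q0 words hw steps1007 1007000 175212 175379 h7 chk1007
  rw [len1007] at h8
  have h9 := checkSteps_sound F iv 12 4194304 γ hiv q0 words hw steps1008 1008000 175379 175546 h8 chk1008
  rw [len1008] at h9
  have h10 := checkSteps_sound F iv 12 4194304 γ hiv q0 words hw steps1009 1009000 175546 175679 h9 chk1009
  rw [len1009] at h10
  have h11 := checkSteps_sound F iv 12 4194304 γ hiv q0 words hw steps1010 1010000 175679 175801 h10 chk1010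
  rw [len1010] at h11
  have h12 := checkSteps_sound F iv 12 4194304 γ hiv q0 words hw steps1011 1011000 175801 175938 h11 chk1011
  rw [len1011] at h12
  have h13 := checkSteps_sound F iv 12 4194304 γ hiv q0 words hw steps1012 1012000 175938 176073 h12 chk1012
  rw [len1012] at h13
  have h14 := checkSteps_sound F iv 12 4194304 γ hiv q0 words hw steps1013 1013000 176073 176223 h13 chk1013
  rw [len1013] at h14
  have h15 := checkSteps_sound F iv 12 4194304 γ hiv q0 words hw steps1014 1014000 176223 176357 h14 chk1014
  rw [len1014] at h15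
  have h16 := checkSteps_sound F iv 12 4194304 γ hiv q0 words hw steps1015 1015000 176357 176504 h15 chk1015
  rw [len1015] at h16
  have h17 := checkSteps_sound F iv 12 4194304 γ hiv q0 words hw steps1016 1016000 176504 176627 h16 chk1016
  rw [len1016] at h17
  have h18 := checkSteps_sound F iv 12 4194304 γ hiv q0 words hw steps1017 1017000 176627 176745 h17 chk1017
  rw [len1017] at h18
  have h19 := checkSteps_sound F iv 12 4194304 γ hiv q0 words hw steps1018 1018000 176745 176877 h18 chk1018
  rw [len1018] at h19
  have h20 := checkSteps_sound F iv 12 4194304 γ hiv q0 words hw steps1019 1019000 176877 177018 h19 chk1019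
  rw [len1019] at h20
  have h21 := checkSteps_sound F iv 12 4194304 γ hiv q0 words hw steps1020 1020000 177018 177165 h20 chk1020
  rw [len1020] at h21
  have h22 := checkSteps_sound F iv 12 4194304 γ hiv q0 words hw steps1021 1021000 177165 177341 h21 chk1021
  rw [len1021] at h22
  have h23 := checkSteps_sound F iv 12 4194304 γ hiv q0 words hw steps1022 1022000 177341 177530 h22 chk1022
  rw [len1022] at h23
  have h24 := checkSteps_sound F iv 12 4194304 γ hiv q0 words hw steps1023 1023000 177530 177747 h23 chk1023
  rw [len1023] at h24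
  have h25 := checkSteps_sound F iv 12 4194304 γ hiv q0 words hw steps1024 1024000 177747 177929 h24 chk1024
  rw [len1024] at h25
  exact h25

end Cfsg.Agent.Lib.H6.FiTC
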