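import Cfsg.Agent.Lib.H6.FiTC.Steps41

set_option autoImplicit false
set_option maxRecDepth 1000000

/-! # invariant through part 41 of Fi24 (generated) -/

namespace Cfsg.Agent.Lib.H6.FiTC

open Cfsg.Agent.Lib.H17.CosetCert Cfsg.Agent.Lib.H6.TC

theorem part41 {G Q : Type} [Group G] [MulAction G Q] (γ : ℕ → G)
    (hiv : ∀ x < 12, γ (iv x) = (γ x)⁻¹) (q0 : Q) (hw : WordsOK γ q0 words)
    (h0 : Inv F 12 γ q0 1025000 177929) : Inv F 12 γ q0 1050000 182304 := by
  have h1 := checkSteps_sound F iv 12 4194304 γ hiv q0 words hw steps1025 1025000 177929 178139 h0 chk1025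
  rw [len1025] at h1
  have h2 := checkSteps_sound F iv 12 4194304 γ hiv q0 words hw steps1026 1026000 178139 178368 h1 chk1026
  rw [len1026] at h2
  have h3 := checkSteps_sound F iv 12 4194304 γ hiv q0 words hw steps1027 1027000 178368 178553 h2 chk1027
  rw [len1027] at h3
  have h4 := checkSteps_sound F iv 12 4194304 γ hiv q0 words hw steps1028 1028000 178553 178781 h3 chk1028
  rw [len1028] at h4
  have h5 := checkSteps_sound F iv 12 4194304 γ hiv q0 words hw steps1029 1029000 178781 178940 h4 chk1029
  rw [len1029] at h5
  have h6 := checkSteps_sound F iv 12 4194304 γ hiv q0 words hw steps1030 1030000 178940 179100 h5 chk1030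
  rw [len1030] at h6
  have h7 := checkSteps_sound F iv 12 4194304 γ hiv q0 words hw steps1031 1031000 179100 179248 h6 chk1031
  rw [len1031] at h7
  have h8 := checkSteps_sound F iv 12 4194304 γ hiv q0 words hw steps1032 1032000 179248 179416 h7 chk1032
  rw [len1032] at h8
  have h9 := checkSteps_sound F iv 12 4194304 γ hiv q0 words hw steps1033 1033000 179416 179571 h8 chk1033
  rw [len1033] at h9
  have h10 := checkSteps_sound F iv 12 4194304 γ hiv q0 words hw steps1034 1034000 179571 179718 h9 chk1034
  rw [len1034] at h10
  have h11 := checkSteps_sound F iv 12 4194304 γ hiv q0 words hw steps1035 1035000 179718 179891 h10 chk1035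
  rw [len1035] at h11
  have h12 := checkSteps_sound F iv 12 4194304 γ hiv q0 words hw steps1036 1036000 179891 180091 h11 chk1036
  rw [len1036] at h12
  have h13 := checkSteps_sound F iv 12 4194304 γ hiv q0 words hw steps1037 1037000 180091 180281 h12 chk1037
  rw [len1037] at h13
  have h14 := checkSteps_sound F iv 12 4194304 γ hiv q0 words hw steps1038 1038000 180281 180445 h13 chk1038
  rw [len1038] at h14
  have h15 := checkSteps_sound F iv 12 4194304 γ hiv q0 words hw steps1039 1039000 180445 180604 h14 chk1039
  rw [len1039] at h15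
  have h16 := checkSteps_sound F iv 12 4194304 γ hiv q0 words hw steps1040 1040000 180604 180781 h15 chk1040
  rw [len1040] at h16
  have h17 := checkSteps_sound F iv 12 4194304 γ hiv q0 words hw steps1041 1041000 180781 180987 h16 chk1041
  rw [len1041] at h17
  have h18 := checkSteps_sound F iv 12 4194304 γ hiv q0 words hw steps1042 1042000 180987 181173 h17 chk1042
  rw [len1042] at h18
  have h19 := checkSteps_sound F iv 12 4194304 γ hiv q0 words hw steps1043 1043000 181173 181351 h18 chk1043
  rw [len1043] at h19
  have h20 := checkSteps_sound F iv 12 4194304 γ hiv q0 words hw steps1044 1044000 181351 181508 h19 chk1044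
  rw [len1044] at h20
  have h21 := checkSteps_sound F iv 12 4194304 γ hiv q0 words hw steps1045 1045000 181508 181639 h20 chk1045
  rw [len1045] at h21
  have h22 := checkSteps_sound F iv 12 4194304 γ hiv q0 words hw steps1046 1046000 181639 181809 h21 chk1046
  rw [len1046] at h22
  have h23 := checkSteps_sound F iv 12 4194304 γ hiv q0 words hw steps1047 1047000 181809 181955 h22 chk1047
  rw [len1047] at h23
  have h24 := checkSteps_sound F iv 12 4194304 γ hiv q0 words hw steps1048 1048000 181955 182120 h23 chk1048
  rw [len1048] at h24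
  have h25 := checkSteps_sound F iv 12 4194304 γ hiv q0 words hw steps1049 1049000 182120 182304 h24 chk1049
  rw [len1049] at h25
  exact h25

end Cfsg.Agent.Lib.H6.FiTC
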