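import Cfsg.Agent.Lib.H6.FiTC.Steps42

set_option autoImplicit false
set_option maxRecDepth 1000000

/-! # invariant through part 42 of Fi24 (generated) -/

namespace Cfsg.Agent.Lib.H6.FiTC

open Cfsg.Agent.Lib.H17.CosetCert Cfsg.Agent.Lib.H6.TC

theorem part42 {G Q : Type} [Group G] [MulAction G Q] (γ : ℕ → G)
    (hiv : ∀ x < 12, γ (iv x) = (γ x)⁻¹) (q0 : Q) (hw : WordsOK γ q0 words)
    (h0 : Inv F 12 γ q0 1050000 182304) : Inv F 12 γ q0 1075000 187252 := by
  have h1 := checkSteps_sound F iv 12 4194304 γ hiv q0 words hw steps1050 1050000 182304 182483 h0 chk1050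
  rw [len1050] at h1
  have h2 := checkSteps_sound F iv 12 4194304 γ hiv q0 words hw steps1051 1051000 182483 182641 h1 chk1051
  rw [len1051] at h2
  have h3 := checkSteps_sound F iv 12 4194304 γ hiv q0 words hw steps1052 1052000 182641 182802 h2 chk1052
  rw [len1052] at h3
  have h4 := checkSteps_sound F iv 12 4194304 γ hiv q0 words hw steps1053 1053000 182802 182955 h3 chk1053
  rw [len1053] at h4
  have h5 := checkSteps_sound F iv 12 4194304 γ hiv q0 words hw steps1054 1054000 182955 183141 h4 chk1054
  rw [len1054] at h5
  have h6 := checkSteps_sound F iv 12 4194304 γ hiv q0 words hw steps1055 1055000 183141 183341 h5 chk1055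
  rw [len1055] at h6
  have h7 := checkSteps_sound F iv 12 4194304 γ hiv q0 words hw steps1056 1056000 183341 183551 h6 chk1056
  rw [len1056] at h7
  have h8 := checkSteps_sound F iv 12 4194304 γ hiv q0 words hw steps1057 1057000 183551 183730 h7 chk1057
  rw [len1057] at h8
  have h9 := checkSteps_sound F iv 12 4194304 γ hiv q0 words hw steps1058 1058000 183730 183908 h8 chk1058
  rw [len1058] at h9
  have h10 := checkSteps_sound F iv 12 4194304 γ hiv q0 words hw steps1059 1059000 183908 184125 h9 chk1059
  rw [len1059] at h10
  have h11 := checkSteps_sound F iv 12 4194304 γ hiv q0 words hw steps1060 1060000 184125 184327 h10 chk1060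
  rw [len1060] at h11
  have h12 := checkSteps_sound F iv 12 4194304 γ hiv q0 words hw steps1061 1061000 184327 184512 h11 chk1061
  rw [len1061] at h12
  have h13 := checkSteps_sound F iv 12 4194304 γ hiv q0 words hw steps1062 1062000 184512 184702 h12 chk1062
  rw [len1062] at h13
  have h14 := checkSteps_sound F iv 12 4194304 γ hiv q0 words hw steps1063 1063000 184702 184895 h13 chk1063
  rw [len1063] at h14
  have h15 := checkSteps_sound F iv 12 4194304 γ hiv q0 words hw steps1064 1064000 184895 185131 h14 chk1064
  rw [len1064] at h15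
  have h16 := checkSteps_sound F iv 12 4194304 γ hiv q0 words hw steps1065 1065000 185131 185343 h15 chk1065
  rw [len1065] at h16
  have h17 := checkSteps_sound F iv 12 4194304 γ hiv q0 words hw steps1066 1066000 185343 185531 h16 chk1066
  rw [len1066] at h17
  have h18 := checkSteps_sound F iv 12 4194304 γ hiv q0 words hw steps1067 1067000 185531 185757 h17 chk1067
  rw [len1067] at h18
  have h19 := checkSteps_sound F iv 12 4194304 γ hiv q0 words hw steps1068 1068000 185757 185965 h18 chk1068
  rw [len1068] at h19
  have h20 := checkSteps_sound F iv 12 4194304 γ hiv q0 words hw steps1069 1069000 185965 186223 h19 chk1069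
  rw [len1069] at h20
  have h21 := checkSteps_sound F iv 12 4194304 γ hiv q0 words hw steps1070 1070000 186223 186460 h20 chk1070
  rw [len1070] at h21
  have h22 := checkSteps_sound F iv 12 4194304 γ hiv q0 words hw steps1071 1071000 186460 186686 h21 chk1071
  rw [len1071] at h22
  have h23 := checkSteps_sound F iv 12 4194304 γ hiv q0 words hw steps1072 1072000 186686 186850 h22 chk1072
  rw [len1072] at h23
  have h24 := checkSteps_sound F iv 12 4194304 γ hiv q0 words hw steps1073 1073000 186850 187051 h23 chk1073
  rw [len1073] at h24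
  have h25 := checkSteps_sound F iv 12 4194304 γ hiv q0 words hw steps1074 1074000 187051 187252 h24 chk1074
  rw [len1074] at h25
  exact h25

end Cfsg.Agent.Lib.H6.FiTC
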