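import Cfsg.Agent.Lib.H6.FiTC.Steps43

set_option autoImplicit false
set_option maxRecDepth 1000000

/-! # invariant through part 43 of Fi24 (generated) -/

namespace Cfsg.Agent.Lib.H6.FiTC

open Cfsg.Agent.Lib.H17.CosetCert Cfsg.Agent.Lib.H6.TC

theorem part43 {G Q : Type} [Group G] [MulAction G Q] (γ : ℕ → G)
    (hiv : ∀ x < 12, γ (iv x) = (γ x)⁻¹) (q0 : Q) (hw : WordsOK γ q0 words)
    (h0 : Inv F 12 γ q0 1075000 187252) : Inv F 12 γ q0 1100000 190930 := by
  have h1 := checkSteps_sound F iv 12 4194304 γ hiv q0 words hw steps1075 1075000 187252 187453 h0 chk1075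
  rw [len1075] at h1
  have h2 := checkSteps_sound F iv 12 4194304 γ hiv q0 words hw steps1076 1076000 187453 187676 h1 chk1076
  rw [len1076] at h2
  have h3 := checkSteps_sound F iv 12 4194304 γ hiv q0 words hw steps1077 1077000 187676 187901 h2 chk1077
  rw [len1077] at h3
  have h4 := checkSteps_sound F iv 12 4194304 γ hiv q0 words hw steps1078 1078000 187901 188093 h3 chk1078
  rw [len1078] at h4
  have h5 := checkSteps_sound F iv 12 4194304 γ hiv q0 words hw steps1079 1079000 188093 188289 h4 chk1079
  rw [len1079] at h5
  have h6 := checkSteps_sound F iv 12 4194304 γ hiv q0 words hw steps1080 1080000 188289 188536 h5 chk1080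
  rw [len1080] at h6
  have h7 := checkSteps_sound F iv 12 4194304 γ hiv q0 words hw steps1081 1081000 188536 188701 h6 chk1081
  rw [len1081] at h7
  have h8 := checkSteps_sound F iv 12 4194304 γ hiv q0 words hw steps1082 1082000 188701 188812 h7 chk1082
  rw [len1082] at h8
  have h9 := checkSteps_sound F iv 12 4194304 γ hiv q0 words hw steps1083 1083000 188812 188927 h8 chk1083
  rw [len1083] at h9
  have h10 := checkSteps_sound F iv 12 4194304 γ hiv q0 words hw steps1084 1084000 188927 189052 h9 chk1084
  rw [len1084] at h10
  have h11 := checkSteps_sound F iv 12 4194304 γ hiv q0 words hw steps1085 1085000 189052 189171 h10 chk1085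
  rw [len1085] at h11
  have h12 := checkSteps_sound F iv 12 4194304 γ hiv q0 words hw steps1086 1086000 189171 189296 h11 chk1086
  rw [len1086] at h12
  have h13 := checkSteps_sound F iv 12 4194304 γ hiv q0 words hw steps1087 1087000 189296 189416 h12 chk1087
  rw [len1087] at h13
  have h14 := checkSteps_sound F iv 12 4194304 γ hiv q0 words hw steps1088 1088000 189416 189546 h13 chk1088
  rw [len1088] at h14
  have h15 := checkSteps_sound F iv 12 4194304 γ hiv q0 words hw steps1089 1089000 189546 189673 h14 chk1089
  rw [len1089] at h15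
  have h16 := checkSteps_sound F iv 12 4194304 γ hiv q0 words hw steps1090 1090000 189673 189812 h15 chk1090
  rw [len1090] at h16
  have h17 := checkSteps_sound F iv 12 4194304 γ hiv q0 words hw steps1091 1091000 189812 189941 h16 chk1091
  rw [len1091] at h17
  have h18 := checkSteps_sound F iv 12 4194304 γ hiv q0 words hw steps1092 1092000 189941 190082 h17 chk1092
  rw [len1092] at h18
  have h19 := checkSteps_sound F iv 12 4194304 γ hiv q0 words hw steps1093 1093000 190082 190205 h18 chk1093
  rw [len1093] at h19
  have h20 := checkSteps_sound F iv 12 4194304 γ hiv q0 words hw steps1094 1094000 190205 190324 h19 chk1094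
  rw [len1094] at h20
  have h21 := checkSteps_sound F iv 12 4194304 γ hiv q0 words hw steps1095 1095000 190324 190448 h20 chk1095
  rw [len1095] at h21
  have h22 := checkSteps_sound F iv 12 4194304 γ hiv q0 words hw steps1096 1096000 190448 190563 h21 chk1096
  rw [len1096] at h22
  have h23 := checkSteps_sound F iv 12 4194304 γ hiv q0 words hw steps1097 1097000 190563 190685 h22 chk1097
  rw [len1097] at h23
  have h24 := checkSteps_sound F iv 12 4194304 γ hiv q0 words hw steps1098 1098000 190685 190813 h23 chk1098
  rw [len1098] at h24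
  have h25 := checkSteps_sound F iv 12 4194304 γ hiv q0 words hw steps1099 1099000 190813 190930 h24 chk1099
  rw [len1099] at h25
  exact h25

end Cfsg.Agent.Lib.H6.FiTC
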