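import Cfsg.Agent.Lib.H6.FiTC.Steps44

set_option autoImplicit false
set_option maxRecDepth 1000000

/-! # invariant through part 44 of Fi24 (generated) -/

namespace Cfsg.Agent.Lib.H6.FiTC

open Cfsg.Agent.Lib.H17.CosetCert Cfsg.Agent.Lib.H6.TC

theorem part44 {G Q : Type} [Group G] [MulAction G Q] (γ : ℕ → G)
    (hiv : ∀ x < 12, γ (iv x) = (γ x)⁻¹) (q0 : Q) (hw : WordsOK γ q0 words)
    (h0 : Inv F 12 γ q0 1100000 190930) : Inv F 12 γ q0 1125000 194234 := by
  have h1 := checkSteps_sound F iv 12 4194304 γ hiv q0 words hw steps1100 1100000 190930 191059 h0 chk1100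
  rw [len1100] at h1
  have h2 := checkSteps_sound F iv 12 4194304 γ hiv q0 words hw steps1101 1101000 191059 191195 h1 chk1101
  rw [len1101] at h2
  have h3 := checkSteps_sound F iv 12 4194304 γ hiv q0 words hw steps1102 1102000 191195 191335 h2 chk1102
  rw [len1102] at h3
  have h4 := checkSteps_sound F iv 12 4194304 γ hiv q0 words hw steps1103 1103000 191335 191464 h3 chk1103
  rw [len1103] at h4
  have h5 := checkSteps_sound F iv 12 4194304 γ hiv q0 words hw steps1104 1104000 191464 191586 h4 chk1104
  rw [len1104] at h5
  have h6 := checkSteps_sound F iv 12 4194304 γ hiv q0 words hw steps1105 1105000 191586 191711 h5 chk1105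
  rw [len1105] at h6
  have h7 := checkSteps_sound F iv 12 4194304 γ hiv q0 words hw steps1106 1106000 191711 191850 h6 chk1106
  rw [len1106] at h7
  have h8 := checkSteps_sound F iv 12 4194304 γ hiv q0 words hw steps1107 1107000 191850 191962 h7 chk1107
  rw [len1107] at h8
  have h9 := checkSteps_sound F iv 12 4194304 γ hiv q0 words hw steps1108 1108000 191962 192075 h8 chk1108
  rw [len1108] at h9
  have h10 := checkSteps_sound F iv 12 4194304 γ hiv q0 words hw steps1109 1109000 192075 192189 h9 chk1109
  rw [len1109] at h10
  have h11 := checkSteps_sound F iv 12 4194304 γ hiv q0 words hw steps1110 1110000 192189 192309 h10 chk1110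
  rw [len1110] at h11
  have h12 := checkSteps_sound F iv 12 4194304 γ hiv q0 words hw steps1111 1111000 192309 192431 h11 chk1111
  rw [len1111] at h12
  have h13 := checkSteps_sound F iv 12 4194304 γ hiv q0 words hw steps1112 1112000 192431 192549 h12 chk1112
  rw [len1112] at h13
  have h14 := checkSteps_sound F iv 12 4194304 γ hiv q0 words hw steps1113 1113000 192549 192688 h13 chk1113
  rw [len1113] at h14
  have h15 := checkSteps_sound F iv 12 4194304 γ hiv q0 words hw steps1114 1114000 192688 192818 h14 chk1114
  rw [len1114] at h15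
  have h16 := checkSteps_sound F iv 12 4194304 γ hiv q0 words hw steps1115 1115000 192818 192943 h15 chk1115
  rw [len1115] at h16
  have h17 := checkSteps_sound F iv 12 4194304 γ hiv q0 words hw steps1116 1116000 192943 193089 h16 chk1116
  rw [len1116] at h17
  have h18 := checkSteps_sound F iv 12 4194304 γ hiv q0 words hw steps1117 1117000 193089 193236 h17 chk1117
  rw [len1117] at h18
  have h19 := checkSteps_sound F iv 12 4194304 γ hiv q0 words hw steps1118 1118000 193236 193378 h18 chk1118
  rw [len1118] at h19
  have h20 := checkSteps_sound F iv 12 4194304 γ hiv q0 words hw steps1119 1119000 193378 193523 h19 chk1119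
  rw [len1119] at h20
  have h21 := checkSteps_sound F iv 12 4194304 γ hiv q0 words hw steps1120 1120000 193523 193674 h20 chk1120
  rw [len1120] at h21
  have h22 := checkSteps_sound F iv 12 4194304 γ hiv q0 words hw steps1121 1121000 193674 193799 h21 chk1121
  rw [len1121] at h22
  have h23 := checkSteps_sound F iv 12 4194304 γ hiv q0 words hw steps1122 1122000 193799 193932 h22 chk1122
  rw [len1122] at h23
  have h24 := checkSteps_sound F iv 12 4194304 γ hiv q0 words hw steps1123 1123000 193932 194087 h23 chk1123
  rw [len1123] at h24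
  have h25 := checkSteps_sound F iv 12 4194304 γ hiv q0 words hw steps1124 1124000 194087 194234 h24 chk1124
  rw [len1124] at h25
  exact h25

end Cfsg.Agent.Lib.H6.FiTC
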