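import Cfsg.Agent.Lib.H6.FiTC.Steps45

set_option autoImplicit false
set_option maxRecDepth 1000000

/-! # invariant through part 45 of Fi24 (generated) -/

namespace Cfsg.Agent.Lib.H6.FiTC

open Cfsg.Agent.Lib.H17.CosetCert Cfsg.Agent.Lib.H6.TC

theorem part45 {G Q : Type} [Group G] [MulAction G Q] (γ : ℕ → G)
    (hiv : ∀ x < 12, γ (iv x) = (γ x)⁻¹) (q0 : Q) (hw : WordsOK γ q0 words)
    (h0 : Inv F 12 γ q0 1125000 194234) : Inv F 12 γ q0 1150000 197975 := by
  have h1 := checkSteps_sound F iv 12 4194304 γ hiv q0 words hw steps1125 1125000 194234 194379 h0 chk1125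
  rw [len1125] at h1
  have h2 := checkSteps_sound F iv 12 4194304 γ hiv q0 words hw steps1126 1126000 194379 194498 h1 chk1126
  rw [len1126] at h2
  have h3 := checkSteps_sound F iv 12 4194304 γ hiv q0 words hw steps1127 1127000 194498 194625 h2 chk1127
  rw [len1127] at h3
  have h4 := checkSteps_sound F iv 12 4194304 γ hiv q0 words hw steps1128 1128000 194625 194767 h3 chk1128
  rw [len1128] at h4
  have h5 := checkSteps_sound F iv 12 4194304 γ hiv q0 words hw steps1129 1129000 194767 194917 h4 chk1129
  rw [len1129] at h5
  have h6 := checkSteps_sound F iv 12 4194304 γ hiv q0 words hw steps1130 1130000 194917 195050 h5 chk1130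
  rw [len1130] at h6
  have h7 := checkSteps_sound F iv 12 4194304 γ hiv q0 words hw steps1131 1131000 195050 195184 h6 chk1131
  rw [len1131] at h7
  have h8 := checkSteps_sound F iv 12 4194304 γ hiv q0 words hw steps1132 1132000 195184 195337 h7 chk1132
  rw [len1132] at h8
  have h9 := checkSteps_sound F iv 12 4194304 γ hiv q0 words hw steps1133 1133000 195337 195508 h8 chk1133
  rw [len1133] at h9
  have h10 := checkSteps_sound F iv 12 4194304 γ hiv q0 words hw steps1134 1134000 195508 195652 h9 chk1134
  rw [len1134] at h10
  have h11 := checkSteps_sound F iv 12 4194304 γ hiv q0 words hw steps1135 1135000 195652 195807 h10 chk1135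
  rw [len1135] at h11
  have h12 := checkSteps_sound F iv 12 4194304 γ hiv q0 words hw steps1136 1136000 195807 195969 h11 chk1136
  rw [len1136] at h12
  have h13 := checkSteps_sound F iv 12 4194304 γ hiv q0 words hw steps1137 1137000 195969 196112 h12 chk1137
  rw [len1137] at h13
  have h14 := checkSteps_sound F iv 12 4194304 γ hiv q0 words hw steps1138 1138000 196112 196284 h13 chk1138
  rw [len1138] at h14
  have h15 := checkSteps_sound F iv 12 4194304 γ hiv q0 words hw steps1139 1139000 196284 196452 h14 chk1139
  rw [len1139] at h15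
  have h16 := checkSteps_sound F iv 12 4194304 γ hiv q0 words hw steps1140 1140000 196452 196610 h15 chk1140
  rw [len1140] at h16
  have h17 := checkSteps_sound F iv 12 4194304 γ hiv q0 words hw steps1141 1141000 196610 196782 h16 chk1141
  rw [len1141] at h17
  have h18 := checkSteps_sound F iv 12 4194304 γ hiv q0 words hw steps1142 1142000 196782 196932 h17 chk1142
  rw [len1142] at h18
  have h19 := checkSteps_sound F iv 12 4194304 γ hiv q0 words hw steps1143 1143000 196932 197088 h18 chk1143
  rw [len1143] at h19
  have h20 := checkSteps_sound F iv 12 4194304 γ hiv q0 words hw steps1144 1144000 197088 197254 h19 chk1144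
  rw [len1144] at h20
  have h21 := checkSteps_sound F iv 12 4194304 γ hiv q0 words hw steps1145 1145000 197254 197430 h20 chk1145
  rw [len1145] at h21
  have h22 := checkSteps_sound F iv 12 4194304 γ hiv q0 words hw steps1146 1146000 197430 197579 h21 chk1146
  rw [len1146] at h22
  have h23 := checkSteps_sound F iv 12 4194304 γ hiv q0 words hw steps1147 1147000 197579 197713 h22 chk1147
  rw [len1147] at h23
  have h24 := checkSteps_sound F iv 12 4194304 γ hiv q0 words hw steps1148 1148000 197713 197839 h23 chk1148
  rw [len1148] at h24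
  have h25 := checkSteps_sound F iv 12 4194304 γ hiv q0 words hw steps1149 1149000 197839 197975 h24 chk1149
  rw [len1149] at h25
  exact h25

end Cfsg.Agent.Lib.H6.FiTC
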