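import Cfsg.Agent.Lib.H6.FiTC.Steps46

set_option autoImplicit false
set_option maxRecDepth 1000000

/-! # invariant through part 46 of Fi24 (generated) -/

namespace Cfsg.Agent.Lib.H6.FiTC

open Cfsg.Agent.Lib.H17.CosetCert Cfsg.Agent.Lib.H6.TC

theorem part46 {G Q : Type} [Group G] [MulAction G Q] (γ : ℕ → G)
    (hiv : ∀ x < 12, γ (iv x) = (γ x)⁻¹) (q0 : Q) (hw : WordsOK γ q0 words)
    (h0 : Inv F 12 γ q0 1150000 197975) : Inv F 12 γ q0 1175000 202210 := by
  have h1 := checkSteps_sound F iv 12 4194304 γ hiv q0 words hw steps1150 1150000 197975 198112 h0 chk1150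
  rw [len1150] at h1
  have h2 := checkSteps_sound F iv 12 4194304 γ hiv q0 words hw steps1151 1151000 198112 198254 h1 chk1151
  rw [len1151] at h2
  have h3 := checkSteps_sound F iv 12 4194304 γ hiv q0 words hw steps1152 1152000 198254 198392 h2 chk1152
  rw [len1152] at h3
  have h4 := checkSteps_sound F iv 12 4194304 γ hiv q0 words hw steps1153 1153000 198392 198534 h3 chk1153
  rw [len1153] at h4
  have h5 := checkSteps_sound F iv 12 4194304 γ hiv q0 words hw steps1154 1154000 198534 198657 h4 chk1154
  rw [len1154] at h5
  have h6 := checkSteps_sound F iv 12 4194304 γ hiv q0 words hw steps1155 1155000 198657 198785 h5 chk1155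
  rw [len1155] at h6
  have h7 := checkSteps_sound F iv 12 4194304 γ hiv q0 words hw steps1156 1156000 198785 198933 h6 chk1156
  rw [len1156] at h7
  have h8 := checkSteps_sound F iv 12 4194304 γ hiv q0 words hw steps1157 1157000 198933 199087 h7 chk1157
  rw [len1157] at h8
  have h9 := checkSteps_sound F iv 12 4194304 γ hiv q0 words hw steps1158 1158000 199087 199274 h8 chk1158
  rw [len1158] at h9
  have h10 := checkSteps_sound F iv 12 4194304 γ hiv q0 words hw steps1159 1159000 199274 199475 h9 chk1159
  rw [len1159] at h10
  have h11 := checkSteps_sound F iv 12 4194304 γ hiv q0 words hw steps1160 1160000 199475 199703 h10 chk1160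
  rw [len1160] at h11
  have h12 := checkSteps_sound F iv 12 4194304 γ hiv q0 words hw steps1161 1161000 199703 199874 h11 chk1161
  rw [len1161] at h12
  have h13 := checkSteps_sound F iv 12 4194304 γ hiv q0 words hw steps1162 1162000 199874 200077 h12 chk1162
  rw [len1162] at h13
  have h14 := checkSteps_sound F iv 12 4194304 γ hiv q0 words hw steps1163 1163000 200077 200300 h13 chk1163
  rw [len1163] at h14
  have h15 := checkSteps_sound F iv 12 4194304 γ hiv q0 words hw steps1164 1164000 200300 200499 h14 chk1164
  rw [len1164] at h15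
  have h16 := checkSteps_sound F iv 12 4194304 γ hiv q0 words hw steps1165 1165000 200499 200717 h15 chk1165
  rw [len1165] at h16
  have h17 := checkSteps_sound F iv 12 4194304 γ hiv q0 words hw steps1166 1166000 200717 200895 h16 chk1166
  rw [len1166] at h17
  have h18 := checkSteps_sound F iv 12 4194304 γ hiv q0 words hw steps1167 1167000 200895 201056 h17 chk1167
  rw [len1167] at h18
  have h19 := checkSteps_sound F iv 12 4194304 γ hiv q0 words hw steps1168 1168000 201056 201212 h18 chk1168
  rw [len1168] at h19
  have h20 := checkSteps_sound F iv 12 4194304 γ hiv q0 words hw steps1169 1169000 201212 201372 h19 chk1169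
  rw [len1169] at h20
  have h21 := checkSteps_sound F iv 12 4194304 γ hiv q0 words hw steps1170 1170000 201372 201539 h20 chk1170
  rw [len1170] at h21
  have h22 := checkSteps_sound F iv 12 4194304 γ hiv q0 words hw steps1171 1171000 201539 201683 h21 chk1171
  rw [len1171] at h22
  have h23 := checkSteps_sound F iv 12 4194304 γ hiv q0 words hw steps1172 1172000 201683 201832 h22 chk1172
  rw [len1172] at h23
  have h24 := checkSteps_sound F iv 12 4194304 γ hiv q0 words hw steps1173 1173000 201832 202014 h23 chk1173
  rw [len1173] at h24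
  have h25 := checkSteps_sound F iv 12 4194304 γ hiv q0 words hw steps1174 1174000 202014 202210 h24 chk1174
  rw [len1174] at h25
  exact h25

end Cfsg.Agent.Lib.H6.FiTC
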