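import Cfsg.Agent.Lib.H6.FiTC.Steps47

set_option autoImplicit false
set_option maxRecDepth 1000000

/-! # invariant through part 47 of Fi24 (generated) -/

namespace Cfsg.Agent.Lib.H6.FiTC

open Cfsg.Agent.Lib.H17.CosetCert Cfsg.Agent.Lib.H6.TC

theorem part47 {G Q : Type} [Group G] [MulAction G Q] (γ : ℕ → G)
    (hiv : ∀ x < 12, γ (iv x) = (γ x)⁻¹) (q0 : Q) (hw : WordsOK γ q0 words)
    (h0 : Inv F 12 γ q0 1175000 202210) : Inv F 12 γ q0 1200000 206528 := by
  have h1 := checkSteps_sound F iv 12 4194304 γ hiv q0 words hw steps1175 1175000 202210 202405 h0 chk1175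
  rw [len1175] at h1
  have h2 := checkSteps_sound F iv 12 4194304 γ hiv q0 words hw steps1176 1176000 202405 202589 h1 chk1176
  rw [len1176] at h2
  have h3 := checkSteps_sound F iv 12 4194304 γ hiv q0 words hw steps1177 1177000 202589 202744 h2 chk1177
  rw [len1177] at h3
  have h4 := checkSteps_sound F iv 12 4194304 γ hiv q0 words hw steps1178 1178000 202744 202894 h3 chk1178
  rw [len1178] at h4
  have h5 := checkSteps_sound F iv 12 4194304 γ hiv q0 words hw steps1179 1179000 202894 203078 h4 chk1179
  rw [len1179] at h5
  have h6 := checkSteps_sound F iv 12 4194304 γ hiv q0 words hw steps1180 1180000 203078 203223 h5 chk1180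
  rw [len1180] at h6
  have h7 := checkSteps_sound F iv 12 4194304 γ hiv q0 words hw steps1181 1181000 203223 203408 h6 chk1181
  rw [len1181] at h7
  have h8 := checkSteps_sound F iv 12 4194304 γ hiv q0 words hw steps1182 1182000 203408 203589 h7 chk1182
  rw [len1182] at h8
  have h9 := checkSteps_sound F iv 12 4194304 γ hiv q0 words hw steps1183 1183000 203589 203764 h8 chk1183
  rw [len1183] at h9
  have h10 := checkSteps_sound F iv 12 4194304 γ hiv q0 words hw steps1184 1184000 203764 203923 h9 chk1184
  rw [len1184] at h10
  have h11 := checkSteps_sound F iv 12 4194304 γ hiv q0 words hw steps1185 1185000 203923 204059 h10 chk1185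
  rw [len1185] at h11
  have h12 := checkSteps_sound F iv 12 4194304 γ hiv q0 words hw steps1186 1186000 204059 204227 h11 chk1186
  rw [len1186] at h12
  have h13 := checkSteps_sound F iv 12 4194304 γ hiv q0 words hw steps1187 1187000 204227 204371 h12 chk1187
  rw [len1187] at h13
  have h14 := checkSteps_sound F iv 12 4194304 γ hiv q0 words hw steps1188 1188000 204371 204539 h13 chk1188
  rw [len1188] at h14
  have h15 := checkSteps_sound F iv 12 4194304 γ hiv q0 words hw steps1189 1189000 204539 204718 h14 chk1189
  rw [len1189] at h15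
  have h16 := checkSteps_sound F iv 12 4194304 γ hiv q0 words hw steps1190 1190000 204718 204902 h15 chk1190
  rw [len1190] at h16
  have h17 := checkSteps_sound F iv 12 4194304 γ hiv q0 words hw steps1191 1191000 204902 205058 h16 chk1191
  rw [len1191] at h17
  have h18 := checkSteps_sound F iv 12 4194304 γ hiv q0 words hw steps1192 1192000 205058 205231 h17 chk1192
  rw [len1192] at h18
  have h19 := checkSteps_sound F iv 12 4194304 γ hiv q0 words hw steps1193 1193000 205231 205375 h18 chk1193
  rw [len1193] at h19
  have h20 := checkSteps_sound F iv 12 4194304 γ hiv q0 words hw steps1194 1194000 205375 205562 h19 chk1194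
  rw [len1194] at h20
  have h21 := checkSteps_sound F iv 12 4194304 γ hiv q0 words hw steps1195 1195000 205562 205756 h20 chk1195
  rw [len1195] at h21
  have h22 := checkSteps_sound F iv 12 4194304 γ hiv q0 words hw steps1196 1196000 205756 205954 h21 chk1196
  rw [len1196] at h22
  have h23 := checkSteps_sound F iv 12 4194304 γ hiv q0 words hw steps1197 1197000 205954 206175 h22 chk1197
  rw [len1197] at h23
  have h24 := checkSteps_sound F iv 12 4194304 γ hiv q0 words hw steps1198 1198000 206175 206345 h23 chk1198
  rw [len1198] at h24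
  have h25 := checkSteps_sound F iv 12 4194304 γ hiv q0 words hw steps1199 1199000 206345 206528 h24 chk1199
  rw [len1199] at h25
  exact h25

end Cfsg.Agent.Lib.H6.FiTC
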