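import Cfsg.Agent.Lib.H6.FiTC.Steps48

set_option autoImplicit false
set_option maxRecDepth 1000000

/-! # invariant through part 48 of Fi24 (generated) -/

namespace Cfsg.Agent.Lib.H6.FiTC

open Cfsg.Agent.Lib.H17.CosetCert Cfsg.Agent.Lib.H6.TC

theorem part48 {G Q : Type} [Group G] [MulAction G Q] (γ : ℕ → G)
    (hiv : ∀ x < 12, γ (iv x) = (γ x)⁻¹) (q0 : Q) (hw : WordsOK γ q0 words)
    (h0 : Inv F 12 γ q0 1200000 206528) : Inv F 12 γ q0 1225000 211710 := by
  have h1 := checkSteps_sound F iv 12 4194304 γ hiv q0 words hw steps1200 1200000 206528 206730 h0 chk1200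
  rw [len1200] at h1
  have h2 := checkSteps_sound F iv 12 4194304 γ hiv q0 words hw steps1201 1201000 206730 206946 h1 chk1201
  rw [len1201] at h2
  have h3 := checkSteps_sound F iv 12 4194304 γ hiv q0 words hw steps1202 1202000 206946 207139 h2 chk1202
  rw [len1202] at h3
  have h4 := checkSteps_sound F iv 12 4194304 γ hiv q0 words hw steps1203 1203000 207139 207315 h3 chk1203
  rw [len1203] at h4
  have h5 := checkSteps_sound F iv 12 4194304 γ hiv q0 words hw steps1204 1204000 207315 207512 h4 chk1204
  rw [len1204] at h5
  have h6 := checkSteps_sound F iv 12 4194304 γ hiv q0 words hw steps1205 1205000 207512 207709 h5 chk1205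
  rw [len1205] at h6
  have h7 := checkSteps_sound F iv 12 4194304 γ hiv q0 words hw steps1206 1206000 207709 207943 h6 chk1206
  rw [len1206] at h7
  have h8 := checkSteps_sound F iv 12 4194304 γ hiv q0 words hw steps1207 1207000 207943 208161 h7 chk1207
  rw [len1207] at h8
  have h9 := checkSteps_sound F iv 12 4194304 γ hiv q0 words hw steps1208 1208000 208161 208362 h8 chk1208
  rw [len1208] at h9
  have h10 := checkSteps_sound F iv 12 4194304 γ hiv q0 words hw steps1209 1209000 208362 208567 h9 chk1209
  rw [len1209] at h10
  have h11 := checkSteps_sound F iv 12 4194304 γ hiv q0 words hw steps1210 1210000 208567 208792 h10 chk1210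
  rw [len1210] at h11
  have h12 := checkSteps_sound F iv 12 4194304 γ hiv q0 words hw steps1211 1211000 208792 209018 h11 chk1211
  rw [len1211] at h12
  have h13 := checkSteps_sound F iv 12 4194304 γ hiv q0 words hw steps1212 1212000 209018 209263 h12 chk1212
  rw [len1212] at h13
  have h14 := checkSteps_sound F iv 12 4194304 γ hiv q0 words hw steps1213 1213000 209263 209492 h13 chk1213
  rw [len1213] at h14
  have h15 := checkSteps_sound F iv 12 4194304 γ hiv q0 words hw steps1214 1214000 209492 209710 h14 chk1214
  rw [len1214] at h15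
  have h16 := checkSteps_sound F iv 12 4194304 γ hiv q0 words hw steps1215 1215000 209710 209902 h15 chk1215
  rw [len1215] at h16
  have h17 := checkSteps_sound F iv 12 4194304 γ hiv q0 words hw steps1216 1216000 209902 210096 h16 chk1216
  rw [len1216] at h17
  have h18 := checkSteps_sound F iv 12 4194304 γ hiv q0 words hw steps1217 1217000 210096 210313 h17 chk1217
  rw [len1217] at h18
  have h19 := checkSteps_sound F iv 12 4194304 γ hiv q0 words hw steps1218 1218000 210313 210535 h18 chk1218
  rw [len1218] at h19
  have h20 := checkSteps_sound F iv 12 4194304 γ hiv q0 words hw steps1219 1219000 210535 210768 h19 chk1219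
  rw [len1219] at h20
  have h21 := checkSteps_sound F iv 12 4194304 γ hiv q0 words hw steps1220 1220000 210768 210976 h20 chk1220
  rw [len1220] at h21
  have h22 := checkSteps_sound F iv 12 4194304 γ hiv q0 words hw steps1221 1221000 210976 211185 h21 chk1221
  rw [len1221] at h22
  have h23 := checkSteps_sound F iv 12 4194304 γ hiv q0 words hw steps1222 1222000 211185 211428 h22 chk1222
  rw [len1222] at h23
  have h24 := checkSteps_sound F iv 12 4194304 γ hiv q0 words hw steps1223 1223000 211428 211602 h23 chk1223
  rw [len1223] at h24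
  have h25 := checkSteps_sound F iv 12 4194304 γ hiv q0 words hw steps1224 1224000 211602 211710 h24 chk1224
  rw [len1224] at h25
  exact h25

end Cfsg.Agent.Lib.H6.FiTC
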