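import Cfsg.Agent.Lib.H6.FiTC.Steps49

set_option autoImplicit false
set_option maxRecDepth 1000000

/-! # invariant through part 49 of Fi24 (generated) -/

namespace Cfsg.Agent.Lib.H6.FiTC

open Cfsg.Agent.Lib.H17.CosetCert Cfsg.Agent.Lib.H6.TC

theorem part49 {G Q : Type} [Group G] [MulAction G Q] (γ : ℕ → G)
    (hiv : ∀ x < 12, γ (iv x) = (γ x)⁻¹) (q0 : Q) (hw : WordsOK γ q0 words)
    (h0 : Inv F 12 γ q0 1225000 211710) : Inv F 12 γ q0 1250000 214830 := by
  have h1 := checkSteps_sound F iv 12 4194304 γ hiv q0 words hw steps1225 1225000 211710 211820 h0 chk1225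
  rw [len1225] at h1
  have h2 := checkSteps_sound F iv 12 4194304 γ hiv q0 words hw steps1226 1226000 211820 211936 h1 chk1226
  rw [len1226] at h2
  have h3 := checkSteps_sound F iv 12 4194304 γ hiv q0 words hw steps1227 1227000 211936 212056 h2 chk1227
  rw [len1227] at h3
  have h4 := checkSteps_sound F iv 12 4194304 γ hiv q0 words hw steps1228 1228000 212056 212180 h3 chk1228
  rw [len1228] at h4
  have h5 := checkSteps_sound F iv 12 4194304 γ hiv q0 words hw steps1229 1229000 212180 212298 h4 chk1229
  rw [len1229] at h5
  have h6 := checkSteps_sound F iv 12 4194304 γ hiv q0 words hw steps1230 1230000 212298 212438 h5 chk1230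
  rw [len1230] at h6
  have h7 := checkSteps_sound F iv 12 4194304 γ hiv q0 words hw steps1231 1231000 212438 212569 h6 chk1231
  rw [len1231] at h7
  have h8 := checkSteps_sound F iv 12 4194304 γ hiv q0 words hw steps1232 1232000 212569 212704 h7 chk1232
  rw [len1232] at h8
  have h9 := checkSteps_sound F iv 12 4194304 γ hiv q0 words hw steps1233 1233000 212704 212848 h8 chk1233
  rw [len1233] at h9
  have h10 := checkSteps_sound F iv 12 4194304 γ hiv q0 words hw steps1234 1234000 212848 212966 h9 chk1234
  rw [len1234] at h10
  have h11 := checkSteps_sound F iv 12 4194304 γ hiv q0 words hw steps1235 1235000 212966 213085 h10 chk1235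
  rw [len1235] at h11
  have h12 := checkSteps_sound F iv 12 4194304 γ hiv q0 words hw steps1236 1236000 213085 213204 h11 chk1236
  rw [len1236] at h12
  have h13 := checkSteps_sound F iv 12 4194304 γ hiv q0 words hw steps1237 1237000 213204 213315 h12 chk1237
  rw [len1237] at h13
  have h14 := checkSteps_sound F iv 12 4194304 γ hiv q0 words hw steps1238 1238000 213315 213436 h13 chk1238
  rw [len1238] at h14
  have h15 := checkSteps_sound F iv 12 4194304 γ hiv q0 words hw steps1239 1239000 213436 213559 h14 chk1239
  rw [len1239] at h15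
  have h16 := checkSteps_sound F iv 12 4194304 γ hiv q0 words hw steps1240 1240000 213559 213684 h15 chk1240
  rw [len1240] at h16
  have h17 := checkSteps_sound F iv 12 4194304 γ hiv q0 words hw steps1241 1241000 213684 213797 h16 chk1241
  rw [len1241] at h17
  have h18 := checkSteps_sound F iv 12 4194304 γ hiv q0 words hw steps1242 1242000 213797 213927 h17 chk1242
  rw [len1242] at h18
  have h19 := checkSteps_sound F iv 12 4194304 γ hiv q0 words hw steps1243 1243000 213927 214053 h18 chk1243
  rw [len1243] at h19
  have h20 := checkSteps_sound F iv 12 4194304 γ hiv q0 words hw steps1244 1244000 214053 214196 h19 chk1244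
  rw [len1244] at h20
  have h21 := checkSteps_sound F iv 12 4194304 γ hiv q0 words hw steps1245 1245000 214196 214328 h20 chk1245
  rw [len1245] at h21
  have h22 := checkSteps_sound F iv 12 4194304 γ hiv q0 words hw steps1246 1246000 214328 214453 h21 chk1246
  rw [len1246] at h22
  have h23 := checkSteps_sound F iv 12 4194304 γ hiv q0 words hw steps1247 1247000 214453 214568 h22 chk1247
  rw [len1247] at h23
  have h24 := checkSteps_sound F iv 12 4194304 γ hiv q0 words hw steps1248 1248000 214568 214694 h23 chk1248
  rw [len1248] at h24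
  have h25 := checkSteps_sound F iv 12 4194304 γ hiv q0 words hw steps1249 1249000 214694 214830 h24 chk1249
  rw [len1249] at h25
  exact h25

end Cfsg.Agent.Lib.H6.FiTC
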