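import Cfsg.Agent.Lib.H6.FiTC.Steps5

set_option autoImplicit false
set_option maxRecDepth 1000000

/-! # invariant through part 5 of Fi24 (generated) -/

namespace Cfsg.Agent.Lib.H6.FiTC

open Cfsg.Agent.Lib.H17.CosetCert Cfsg.Agent.Lib.H6.TC

theorem part5 {G Q : Type} [Group G] [MulAction G Q] (γ : ℕ → G)
    (hiv : ∀ x < 12, γ (iv x) = (γ x)⁻¹) (q0 : Q) (hw : WordsOK γ q0 words)
    (h0 : Inv F 12 γ q0 125000 20324) : Inv F 12 γ q0 150000 25008 := by
  have h1 := checkSteps_sound F iv 12 4194304 γ hiv q0 words hw steps125 125000 20324 20570 h0 chk125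
  rw [len125] at h1
  have h2 := checkSteps_sound F iv 12 4194304 γ hiv q0 words hw steps126 126000 20570 20835 h1 chk126
  rw [len126] at h2
  have h3 := checkSteps_sound F iv 12 4194304 γ hiv q0 words hw steps127 127000 20835 21090 h2 chk127
  rw [len127] at h3
  have h4 := checkSteps_sound F iv 12 4194304 γ hiv q0 words hw steps128 128000 21090 21246 h3 chk128
  rw [len128] at h4
  have h5 := checkSteps_sound F iv 12 4194304 γ hiv q0 words hw steps129 129000 21246 21392 h4 chk129
  rw [len129] at h5
  have h6 := checkSteps_sound F iv 12 4194304 γ hiv q0 words hw steps130 130000 21392 21525 h5 chk130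
  rw [len130] at h6
  have h7 := checkSteps_sound F iv 12 4194304 γ hiv q0 words hw steps131 131000 21525 21710 h6 chk131
  rw [len131] at h7
  have h8 := checkSteps_sound F iv 12 4194304 γ hiv q0 words hw steps132 132000 21710 21922 h7 chk132
  rw [len132] at h8
  have h9 := checkSteps_sound F iv 12 4194304 γ hiv q0 words hw steps133 133000 21922 22081 h8 chk133
  rw [len133] at h9
  have h10 := checkSteps_sound F iv 12 4194304 γ hiv q0 words hw steps134 134000 22081 22333 h9 chk134
  rw [len134] at h10
  have h11 := checkSteps_sound F iv 12 4194304 γ hiv q0 words hw steps135 135000 22333 22460 h10 chk135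
  rw [len135] at h11
  have h12 := checkSteps_sound F iv 12 4194304 γ hiv q0 words hw steps136 136000 22460 22602 h11 chk136
  rw [len136] at h12
  have h13 := checkSteps_sound F iv 12 4194304 γ hiv q0 words hw steps137 137000 22602 22765 h12 chk137
  rw [len137] at h13
  have h14 := checkSteps_sound F iv 12 4194304 γ hiv q0 words hw steps138 138000 22765 22929 h13 chk138
  rw [len138] at h14
  have h15 := checkSteps_sound F iv 12 4194304 γ hiv q0 words hw steps139 139000 22929 23086 h14 chk139
  rw [len139] at h15
  have h16 := checkSteps_sound F iv 12 4194304 γ hiv q0 words hw steps140 140000 23086 23281 h15 chk140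
  rw [len140] at h16
  have h17 := checkSteps_sound F iv 12 4194304 γ hiv q0 words hw steps141 141000 23281 23480 h16 chk141
  rw [len141] at h17
  have h18 := checkSteps_sound F iv 12 4194304 γ hiv q0 words hw steps142 142000 23480 23664 h17 chk142
  rw [len142] at h18
  have h19 := checkSteps_sound F iv 12 4194304 γ hiv q0 words hw steps143 143000 23664 23825 h18 chk143
  rw [len143] at h19
  have h20 := checkSteps_sound F iv 12 4194304 γ hiv q0 words hw steps144 144000 23825 24002 h19 chk144
  rw [len144] at h20
  have h21 := checkSteps_sound F iv 12 4194304 γ hiv q0 words hw steps145 145000 24002 24236 h20 chk145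
  rw [len145] at h21
  have h22 := checkSteps_sound F iv 12 4194304 γ hiv q0 words hw steps146 146000 24236 24463 h21 chk146
  rw [len146] at h22
  have h23 := checkSteps_sound F iv 12 4194304 γ hiv q0 words hw steps147 147000 24463 24648 h22 chk147
  rw [len147] at h23
  have h24 := checkSteps_sound F iv 12 4194304 γ hiv q0 words hw steps148 148000 24648 24833 h23 chk148
  rw [len148] at h24
  have h25 := checkSteps_sound F iv 12 4194304 γ hiv q0 words hw steps149 149000 24833 25008 h24 chk149
  rw [len149] at h25
  exact h25

end Cfsg.Agent.Lib.H6.FiTC
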