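import Cfsg.Agent.Lib.H6.FiTC.Steps50

set_option autoImplicit false
set_option maxRecDepth 1000000

/-! # invariant through part 50 of Fi24 (generated) -/

namespace Cfsg.Agent.Lib.H6.FiTC

open Cfsg.Agent.Lib.H17.CosetCert Cfsg.Agent.Lib.H6.TC

theorem part50 {G Q : Type} [Group G] [MulAction G Q] (γ : ℕ → G)
    (hiv : ∀ x < 12, γ (iv x) = (γ x)⁻¹) (q0 : Q) (hw : WordsOK γ q0 words)
    (h0 : Inv F 12 γ q0 1250000 214830) : Inv F 12 γ q0 1275000 218139 := by
  have h1 := checkSteps_sound F iv 12 4194304 γ hiv q0 words hw steps1250 1250000 214830 214947 h0 chk1250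
  rw [len1250] at h1
  have h2 := checkSteps_sound F iv 12 4194304 γ hiv q0 words hw steps1251 1251000 214947 215062 h1 chk1251
  rw [len1251] at h2
  have h3 := checkSteps_sound F iv 12 4194304 γ hiv q0 words hw steps1252 1252000 215062 215176 h2 chk1252
  rw [len1252] at h3
  have h4 := checkSteps_sound F iv 12 4194304 γ hiv q0 words hw steps1253 1253000 215176 215297 h3 chk1253
  rw [len1253] at h4
  have h5 := checkSteps_sound F iv 12 4194304 γ hiv q0 words hw steps1254 1254000 215297 215415 h4 chk1254
  rw [len1254] at h5
  have h6 := checkSteps_sound F iv 12 4194304 γ hiv q0 words hw steps1255 1255000 215415 215539 h5 chk1255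
  rw [len1255] at h6
  have h7 := checkSteps_sound F iv 12 4194304 γ hiv q0 words hw steps1256 1256000 215539 215673 h6 chk1256
  rw [len1256] at h7
  have h8 := checkSteps_sound F iv 12 4194304 γ hiv q0 words hw steps1257 1257000 215673 215800 h7 chk1257
  rw [len1257] at h8
  have h9 := checkSteps_sound F iv 12 4194304 γ hiv q0 words hw steps1258 1258000 215800 215922 h8 chk1258
  rw [len1258] at h9
  have h10 := checkSteps_sound F iv 12 4194304 γ hiv q0 words hw steps1259 1259000 215922 216060 h9 chk1259
  rw [len1259] at h10
  have h11 := checkSteps_sound F iv 12 4194304 γ hiv q0 words hw steps1260 1260000 216060 216195 h10 chk1260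
  rw [len1260] at h11
  have h12 := checkSteps_sound F iv 12 4194304 γ hiv q0 words hw steps1261 1261000 216195 216343 h11 chk1261
  rw [len1261] at h12
  have h13 := checkSteps_sound F iv 12 4194304 γ hiv q0 words hw steps1262 1262000 216343 216483 h12 chk1262
  rw [len1262] at h13
  have h14 := checkSteps_sound F iv 12 4194304 γ hiv q0 words hw steps1263 1263000 216483 216624 h13 chk1263
  rw [len1263] at h14
  have h15 := checkSteps_sound F iv 12 4194304 γ hiv q0 words hw steps1264 1264000 216624 216762 h14 chk1264
  rw [len1264] at h15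
  have h16 := checkSteps_sound F iv 12 4194304 γ hiv q0 words hw steps1265 1265000 216762 216898 h15 chk1265
  rw [len1265] at h16
  have h17 := checkSteps_sound F iv 12 4194304 γ hiv q0 words hw steps1266 1266000 216898 217025 h16 chk1266
  rw [len1266] at h17
  have h18 := checkSteps_sound F iv 12 4194304 γ hiv q0 words hw steps1267 1267000 217025 217168 h17 chk1267
  rw [len1267] at h18
  have h19 := checkSteps_sound F iv 12 4194304 γ hiv q0 words hw steps1268 1268000 217168 217314 h18 chk1268
  rw [len1268] at h19
  have h20 := checkSteps_sound F iv 12 4194304 γ hiv q0 words hw steps1269 1269000 217314 217454 h19 chk1269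
  rw [len1269] at h20
  have h21 := checkSteps_sound F iv 12 4194304 γ hiv q0 words hw steps1270 1270000 217454 217605 h20 chk1270
  rw [len1270] at h21
  have h22 := checkSteps_sound F iv 12 4194304 γ hiv q0 words hw steps1271 1271000 217605 217730 h21 chk1271
  rw [len1271] at h22
  have h23 := checkSteps_sound F iv 12 4194304 γ hiv q0 words hw steps1272 1272000 217730 217850 h22 chk1272
  rw [len1272] at h23
  have h24 := checkSteps_sound F iv 12 4194304 γ hiv q0 words hw steps1273 1273000 217850 217992 h23 chk1273
  rw [len1273] at h24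
  have h25 := checkSteps_sound F iv 12 4194304 γ hiv q0 words hw steps1274 1274000 217992 218139 h24 chk1274
  rw [len1274] at h25
  exact h25

end Cfsg.Agent.Lib.H6.FiTC
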