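import Cfsg.Agent.Lib.H6.FiTC.Steps52

set_option autoImplicit false
set_option maxRecDepth 1000000

/-! # invariant through part 52 of Fi24 (generated) -/

namespace Cfsg.Agent.Lib.H6.FiTC

open Cfsg.Agent.Lib.H17.CosetCert Cfsg.Agent.Lib.H6.TC

theorem part52 {G Q : Type} [Group G] [MulAction G Q] (γ : ℕ → G)
    (hiv : ∀ x < 12, γ (iv x) = (γ x)⁻¹) (q0 : Q) (hw : WordsOK γ q0 words)
    (h0 : Inv F 12 γ q0 1300000 221851) : Inv F 12 γ q0 1325000 226214 := by
  have h1 := checkSteps_sound F iv 12 4194304 γ hiv q0 words hw steps1300 1300000 221851 221993 h0 chk1300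
  rw [len1300] at h1
  have h2 := checkSteps_sound F iv 12 4194304 γ hiv q0 words hw steps1301 1301000 221993 222121 h1 chk1301
  rw [len1301] at h2
  have h3 := checkSteps_sound F iv 12 4194304 γ hiv q0 words hw steps1302 1302000 222121 222253 h2 chk1302
  rw [len1302] at h3
  have h4 := checkSteps_sound F iv 12 4194304 γ hiv q0 words hw steps1303 1303000 222253 222403 h3 chk1303
  rw [len1303] at h4
  have h5 := checkSteps_sound F iv 12 4194304 γ hiv q0 words hw steps1304 1304000 222403 222565 h4 chk1304
  rw [len1304] at h5
  have h6 := checkSteps_sound F iv 12 4194304 γ hiv q0 words hw steps1305 1305000 222565 222759 h5 chk1305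
  rw [len1305] at h6
  have h7 := checkSteps_sound F iv 12 4194304 γ hiv q0 words hw steps1306 1306000 222759 222966 h6 chk1306
  rw [len1306] at h7
  have h8 := checkSteps_sound F iv 12 4194304 γ hiv q0 words hw steps1307 1307000 222966 223193 h7 chk1307
  rw [len1307] at h8
  have h9 := checkSteps_sound F iv 12 4194304 γ hiv q0 words hw steps1308 1308000 223193 223360 h8 chk1308
  rw [len1308] at h9
  have h10 := checkSteps_sound F iv 12 4194304 γ hiv q0 words hw steps1309 1309000 223360 223571 h9 chk1309
  rw [len1309] at h10
  have h11 := checkSteps_sound F iv 12 4194304 γ hiv q0 words hw steps1310 1310000 223571 223785 h10 chk1310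
  rw [len1310] at h11
  have h12 := checkSteps_sound F iv 12 4194304 γ hiv q0 words hw steps1311 1311000 223785 223982 h11 chk1311
  rw [len1311] at h12
  have h13 := checkSteps_sound F iv 12 4194304 γ hiv q0 words hw steps1312 1312000 223982 224181 h12 chk1312
  rw [len1312] at h13
  have h14 := checkSteps_sound F iv 12 4194304 γ hiv q0 words hw steps1313 1313000 224181 224375 h13 chk1313
  rw [len1313] at h14
  have h15 := checkSteps_sound F iv 12 4194304 γ hiv q0 words hw steps1314 1314000 224375 224529 h14 chk1314
  rw [len1314] at h15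
  have h16 := checkSteps_sound F iv 12 4194304 γ hiv q0 words hw steps1315 1315000 224529 224685 h15 chk1315
  rw [len1315] at h16
  have h17 := checkSteps_sound F iv 12 4194304 γ hiv q0 words hw steps1316 1316000 224685 224840 h16 chk1316
  rw [len1316] at h17
  have h18 := checkSteps_sound F iv 12 4194304 γ hiv q0 words hw steps1317 1317000 224840 225001 h17 chk1317
  rw [len1317] at h18
  have h19 := checkSteps_sound F iv 12 4194304 γ hiv q0 words hw steps1318 1318000 225001 225157 h18 chk1318
  rw [len1318] at h19
  have h20 := checkSteps_sound F iv 12 4194304 γ hiv q0 words hw steps1319 1319000 225157 225302 h19 chk1319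
  rw [len1319] at h20
  have h21 := checkSteps_sound F iv 12 4194304 γ hiv q0 words hw steps1320 1320000 225302 225468 h20 chk1320
  rw [len1320] at h21
  have h22 := checkSteps_sound F iv 12 4194304 γ hiv q0 words hw steps1321 1321000 225468 225645 h21 chk1321
  rw [len1321] at h22
  have h23 := checkSteps_sound F iv 12 4194304 γ hiv q0 words hw steps1322 1322000 225645 225838 h22 chk1322
  rw [len1322] at h23
  have h24 := checkSteps_sound F iv 12 4194304 γ hiv q0 words hw steps1323 1323000 225838 226040 h23 chk1323
  rw [len1323] at h24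
  have h25 := checkSteps_sound F iv 12 4194304 γ hiv q0 words hw steps1324 1324000 226040 226214 h24 chk1324
  rw [len1324] at h25
  exact h25

end Cfsg.Agent.Lib.H6.FiTC
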