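import Cfsg.Agent.Lib.H6.FiTC.Steps53

set_option autoImplicit false
set_option maxRecDepth 1000000

/-! # invariant through part 53 of Fi24 (generated) -/

namespace Cfsg.Agent.Lib.H6.FiTC

open Cfsg.Agent.Lib.H17.CosetCert Cfsg.Agent.Lib.H6.TC

theorem part53 {G Q : Type} [Group G] [MulAction G Q] (γ : ℕ → G)
    (hiv : ∀ x < 12, γ (iv x) = (γ x)⁻¹) (q0 : Q) (hw : WordsOK γ q0 words)
    (h0 : Inv F 12 γ q0 1325000 226214) : Inv F 12 γ q0 1350000 230573 := by
  have h1 := checkSteps_sound F iv 12 4194304 γ hiv q0 words hw steps1325 1325000 226214 226395 h0 chk1325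
  rw [len1325] at h1
  have h2 := checkSteps_sound F iv 12 4194304 γ hiv q0 words hw steps1326 1326000 226395 226548 h1 chk1326
  rw [len1326] at h2
  have h3 := checkSteps_sound F iv 12 4194304 γ hiv q0 words hw steps1327 1327000 226548 226706 h2 chk1327
  rw [len1327] at h3
  have h4 := checkSteps_sound F iv 12 4194304 γ hiv q0 words hw steps1328 1328000 226706 226886 h3 chk1328
  rw [len1328] at h4
  have h5 := checkSteps_sound F iv 12 4194304 γ hiv q0 words hw steps1329 1329000 226886 227062 h4 chk1329
  rw [len1329] at h5
  have h6 := checkSteps_sound F iv 12 4194304 γ hiv q0 words hw steps1330 1330000 227062 227257 h5 chk1330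
  rw [len1330] at h6
  have h7 := checkSteps_sound F iv 12 4194304 γ hiv q0 words hw steps1331 1331000 227257 227441 h6 chk1331
  rw [len1331] at h7
  have h8 := checkSteps_sound F iv 12 4194304 γ hiv q0 words hw steps1332 1332000 227441 227622 h7 chk1332
  rw [len1332] at h8
  have h9 := checkSteps_sound F iv 12 4194304 γ hiv q0 words hw steps1333 1333000 227622 227789 h8 chk1333
  rw [len1333] at h9
  have h10 := checkSteps_sound F iv 12 4194304 γ hiv q0 words hw steps1334 1334000 227789 227935 h9 chk1334
  rw [len1334] at h10
  have h11 := checkSteps_sound F iv 12 4194304 γ hiv q0 words hw steps1335 1335000 227935 228076 h10 chk1335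
  rw [len1335] at h11
  have h12 := checkSteps_sound F iv 12 4194304 γ hiv q0 words hw steps1336 1336000 228076 228245 h11 chk1336
  rw [len1336] at h12
  have h13 := checkSteps_sound F iv 12 4194304 γ hiv q0 words hw steps1337 1337000 228245 228401 h12 chk1337
  rw [len1337] at h13
  have h14 := checkSteps_sound F iv 12 4194304 γ hiv q0 words hw steps1338 1338000 228401 228566 h13 chk1338
  rw [len1338] at h14
  have h15 := checkSteps_sound F iv 12 4194304 γ hiv q0 words hw steps1339 1339000 228566 228752 h14 chk1339
  rw [len1339] at h15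
  have h16 := checkSteps_sound F iv 12 4194304 γ hiv q0 words hw steps1340 1340000 228752 228931 h15 chk1340
  rw [len1340] at h16
  have h17 := checkSteps_sound F iv 12 4194304 γ hiv q0 words hw steps1341 1341000 228931 229107 h16 chk1341
  rw [len1341] at h17
  have h18 := checkSteps_sound F iv 12 4194304 γ hiv q0 words hw steps1342 1342000 229107 229249 h17 chk1342
  rw [len1342] at h18
  have h19 := checkSteps_sound F iv 12 4194304 γ hiv q0 words hw steps1343 1343000 229249 229410 h18 chk1343
  rw [len1343] at h19
  have h20 := checkSteps_sound F iv 12 4194304 γ hiv q0 words hw steps1344 1344000 229410 229606 h19 chk1344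
  rw [len1344] at h20
  have h21 := checkSteps_sound F iv 12 4194304 γ hiv q0 words hw steps1345 1345000 229606 229800 h20 chk1345
  rw [len1345] at h21
  have h22 := checkSteps_sound F iv 12 4194304 γ hiv q0 words hw steps1346 1346000 229800 229995 h21 chk1346
  rw [len1346] at h22
  have h23 := checkSteps_sound F iv 12 4194304 γ hiv q0 words hw steps1347 1347000 229995 230218 h22 chk1347
  rw [len1347] at h23
  have h24 := checkSteps_sound F iv 12 4194304 γ hiv q0 words hw steps1348 1348000 230218 230395 h23 chk1348
  rw [len1348] at h24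
  have h25 := checkSteps_sound F iv 12 4194304 γ hiv q0 words hw steps1349 1349000 230395 230573 h24 chk1349
  rw [len1349] at h25
  exact h25

end Cfsg.Agent.Lib.H6.FiTC
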