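import Cfsg.Agent.Lib.H6.FiTC.Steps54

set_option autoImplicit false
set_option maxRecDepth 1000000

/-! # invariant through part 54 of Fi24 (generated) -/

namespace Cfsg.Agent.Lib.H6.FiTC

open Cfsg.Agent.Lib.H17.CosetCert Cfsg.Agent.Lib.H6.TC

theorem part54 {G Q : Type} [Group G] [MulAction G Q] (γ : ℕ → G)
    (hiv : ∀ x < 12, γ (iv x) = (γ x)⁻¹) (q0 : Q) (hw : WordsOK γ q0 words)
    (h0 : Inv F 12 γ q0 1350000 230573) : Inv F 12 γ q0 1375000 235890 := by
  have h1 := checkSteps_sound F iv 12 4194304 γ hiv q0 words hw steps1350 1350000 230573 230746 h0 chk1350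
  rw [len1350] at h1
  have h2 := checkSteps_sound F iv 12 4194304 γ hiv q0 words hw steps1351 1351000 230746 230959 h1 chk1351
  rw [len1351] at h2
  have h3 := checkSteps_sound F iv 12 4194304 γ hiv q0 words hw steps1352 1352000 230959 231171 h2 chk1352
  rw [len1352] at h3
  have h4 := checkSteps_sound F iv 12 4194304 γ hiv q0 words hw steps1353 1353000 231171 231366 h3 chk1353
  rw [len1353] at h4
  have h5 := checkSteps_sound F iv 12 4194304 γ hiv q0 words hw steps1354 1354000 231366 231547 h4 chk1354
  rw [len1354] at h5
  have h6 := checkSteps_sound F iv 12 4194304 γ hiv q0 words hw steps1355 1355000 231547 231744 h5 chk1355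
  rw [len1355] at h6
  have h7 := checkSteps_sound F iv 12 4194304 γ hiv q0 words hw steps1356 1356000 231744 231932 h6 chk1356
  rw [len1356] at h7
  have h8 := checkSteps_sound F iv 12 4194304 γ hiv q0 words hw steps1357 1357000 231932 232161 h7 chk1357
  rw [len1357] at h8
  have h9 := checkSteps_sound F iv 12 4194304 γ hiv q0 words hw steps1358 1358000 232161 232387 h8 chk1358
  rw [len1358] at h9
  have h10 := checkSteps_sound F iv 12 4194304 γ hiv q0 words hw steps1359 1359000 232387 232595 h9 chk1359
  rw [len1359] at h10
  have h11 := checkSteps_sound F iv 12 4194304 γ hiv q0 words hw steps1360 1360000 232595 232786 h10 chk1360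
  rw [len1360] at h11
  have h12 := checkSteps_sound F iv 12 4194304 γ hiv q0 words hw steps1361 1361000 232786 233000 h11 chk1361
  rw [len1361] at h12
  have h13 := checkSteps_sound F iv 12 4194304 γ hiv q0 words hw steps1362 1362000 233000 233203 h12 chk1362
  rw [len1362] at h13
  have h14 := checkSteps_sound F iv 12 4194304 γ hiv q0 words hw steps1363 1363000 233203 233438 h13 chk1363
  rw [len1363] at h14
  have h15 := checkSteps_sound F iv 12 4194304 γ hiv q0 words hw steps1364 1364000 233438 233679 h14 chk1364
  rw [len1364] at h15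
  have h16 := checkSteps_sound F iv 12 4194304 γ hiv q0 words hw steps1365 1365000 233679 233905 h15 chk1365
  rw [len1365] at h16
  have h17 := checkSteps_sound F iv 12 4194304 γ hiv q0 words hw steps1366 1366000 233905 234127 h16 chk1366
  rw [len1366] at h17
  have h18 := checkSteps_sound F iv 12 4194304 γ hiv q0 words hw steps1367 1367000 234127 234326 h17 chk1367
  rw [len1367] at h18
  have h19 := checkSteps_sound F iv 12 4194304 γ hiv q0 words hw steps1368 1368000 234326 234531 h18 chk1368
  rw [len1368] at h19
  have h20 := checkSteps_sound F iv 12 4194304 γ hiv q0 words hw steps1369 1369000 234531 234745 h19 chk1369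
  rw [len1369] at h20
  have h21 := checkSteps_sound F iv 12 4194304 γ hiv q0 words hw steps1370 1370000 234745 234977 h20 chk1370
  rw [len1370] at h21
  have h22 := checkSteps_sound F iv 12 4194304 γ hiv q0 words hw steps1371 1371000 234977 235214 h21 chk1371
  rw [len1371] at h22
  have h23 := checkSteps_sound F iv 12 4194304 γ hiv q0 words hw steps1372 1372000 235214 235412 h22 chk1372
  rw [len1372] at h23
  have h24 := checkSteps_sound F iv 12 4194304 γ hiv q0 words hw steps1373 1373000 235412 235620 h23 chk1373
  rw [len1373] at h24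
  have h25 := checkSteps_sound F iv 12 4194304 γ hiv q0 words hw steps1374 1374000 235620 235890 h24 chk1374
  rw [len1374] at h25
  exact h25

end Cfsg.Agent.Lib.H6.FiTC
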