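import Cfsg.Agent.Lib.H6.FiTC.Steps55

set_option autoImplicit false
set_option maxRecDepth 1000000

/-! # invariant through part 55 of Fi24 (generated) -/

namespace Cfsg.Agent.Lib.H6.FiTC

open Cfsg.Agent.Lib.H17.CosetCert Cfsg.Agent.Lib.H6.TC

theorem part55 {G Q : Type} [Group G] [MulAction G Q] (γ : ℕ → G)
    (hiv : ∀ x < 12, γ (iv x) = (γ x)⁻¹) (q0 : Q) (hw : WordsOK γ q0 words)
    (h0 : Inv F 12 γ q0 1375000 235890) : Inv F 12 γ q0 1400000 238958 := by
  have h1 := checkSteps_sound F iv 12 4194304 γ hiv q0 words hw steps1375 1375000 235890 235994 h0 chk1375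
  rw [len1375] at h1
  have h2 := checkSteps_sound F iv 12 4194304 γ hiv q0 words hw steps1376 1376000 235994 236099 h1 chk1376
  rw [len1376] at h2
  have h3 := checkSteps_sound F iv 12 4194304 γ hiv q0 words hw steps1377 1377000 236099 236213 h2 chk1377
  rw [len1377] at h3
  have h4 := checkSteps_sound F iv 12 4194304 γ hiv q0 words hw steps1378 1378000 236213 236334 h3 chk1378
  rw [len1378] at h4
  have h5 := checkSteps_sound F iv 12 4194304 γ hiv q0 words hw steps1379 1379000 236334 236458 h4 chk1379
  rw [len1379] at h5
  have h6 := checkSteps_sound F iv 12 4194304 γ hiv q0 words hw steps1380 1380000 236458 236587 h5 chk1380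
  rw [len1380] at h6
  have h7 := checkSteps_sound F iv 12 4194304 γ hiv q0 words hw steps1381 1381000 236587 236722 h6 chk1381
  rw [len1381] at h7
  have h8 := checkSteps_sound F iv 12 4194304 γ hiv q0 words hw steps1382 1382000 236722 236867 h7 chk1382
  rw [len1382] at h8
  have h9 := checkSteps_sound F iv 12 4194304 γ hiv q0 words hw steps1383 1383000 236867 237014 h8 chk1383
  rw [len1383] at h9
  have h10 := checkSteps_sound F iv 12 4194304 γ hiv q0 words hw steps1384 1384000 237014 237131 h9 chk1384
  rw [len1384] at h10
  have h11 := checkSteps_sound F iv 12 4194304 γ hiv q0 words hw steps1385 1385000 237131 237249 h10 chk1385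
  rw [len1385] at h11
  have h12 := checkSteps_sound F iv 12 4194304 γ hiv q0 words hw steps1386 1386000 237249 237368 h11 chk1386
  rw [len1386] at h12
  have h13 := checkSteps_sound F iv 12 4194304 γ hiv q0 words hw steps1387 1387000 237368 237478 h12 chk1387
  rw [len1387] at h13
  have h14 := checkSteps_sound F iv 12 4194304 γ hiv q0 words hw steps1388 1388000 237478 237597 h13 chk1388
  rw [len1388] at h14
  have h15 := checkSteps_sound F iv 12 4194304 γ hiv q0 words hw steps1389 1389000 237597 237720 h14 chk1389
  rw [len1389] at h15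
  have h16 := checkSteps_sound F iv 12 4194304 γ hiv q0 words hw steps1390 1390000 237720 237843 h15 chk1390
  rw [len1390] at h16
  have h17 := checkSteps_sound F iv 12 4194304 γ hiv q0 words hw steps1391 1391000 237843 237963 h16 chk1391
  rw [len1391] at h17
  have h18 := checkSteps_sound F iv 12 4194304 γ hiv q0 words hw steps1392 1392000 237963 238075 h17 chk1392
  rw [len1392] at h18
  have h19 := checkSteps_sound F iv 12 4194304 γ hiv q0 words hw steps1393 1393000 238075 238204 h18 chk1393
  rw [len1393] at h19
  have h20 := checkSteps_sound F iv 12 4194304 γ hiv q0 words hw steps1394 1394000 238204 238327 h19 chk1394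
  rw [len1394] at h20
  have h21 := checkSteps_sound F iv 12 4194304 γ hiv q0 words hw steps1395 1395000 238327 238461 h20 chk1395
  rw [len1395] at h21
  have h22 := checkSteps_sound F iv 12 4194304 γ hiv q0 words hw steps1396 1396000 238461 238600 h21 chk1396
  rw [len1396] at h22
  have h23 := checkSteps_sound F iv 12 4194304 γ hiv q0 words hw steps1397 1397000 238600 238724 h22 chk1397
  rw [len1397] at h23
  have h24 := checkSteps_sound F iv 12 4194304 γ hiv q0 words hw steps1398 1398000 238724 238842 h23 chk1398
  rw [len1398] at h24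
  have h25 := checkSteps_sound F iv 12 4194304 γ hiv q0 words hw steps1399 1399000 238842 238958 h24 chk1399
  rw [len1399] at h25
  exact h25

end Cfsg.Agent.Lib.H6.FiTC
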