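import Cfsg.Agent.Lib.H6.FiTC.Steps56

set_option autoImplicit false
set_option maxRecDepth 1000000

/-! # invariant through part 56 of Fi24 (generated) -/

namespace Cfsg.Agent.Lib.H6.FiTC

open Cfsg.Agent.Lib.H17.CosetCert Cfsg.Agent.Lib.H6.TC

theorem part56 {G Q : Type} [Group G] [MulAction G Q] (γ : ℕ → G)
    (hiv : ∀ x < 12, γ (iv x) = (γ x)⁻¹) (q0 : Q) (hw : WordsOK γ q0 words)
    (h0 : Inv F 12 γ q0 1400000 238958) : Inv F 12 γ q0 1425000 242204 := by
  have h1 := checkSteps_sound F iv 12 4194304 γ hiv q0 words hw steps1400 1400000 238958 239083 h0 chk1400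
  rw [len1400] at h1
  have h2 := checkSteps_sound F iv 12 4194304 γ hiv q0 words hw steps1401 1401000 239083 239215 h1 chk1401
  rw [len1401] at h2
  have h3 := checkSteps_sound F iv 12 4194304 γ hiv q0 words hw steps1402 1402000 239215 239331 h2 chk1402
  rw [len1402] at h3
  have h4 := checkSteps_sound F iv 12 4194304 γ hiv q0 words hw steps1403 1403000 239331 239444 h3 chk1403
  rw [len1403] at h4
  have h5 := checkSteps_sound F iv 12 4194304 γ hiv q0 words hw steps1404 1404000 239444 239561 h4 chk1404
  rw [len1404] at h5
  have h6 := checkSteps_sound F iv 12 4194304 γ hiv q0 words hw steps1405 1405000 239561 239681 h5 chk1405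
  rw [len1405] at h6
  have h7 := checkSteps_sound F iv 12 4194304 γ hiv q0 words hw steps1406 1406000 239681 239792 h6 chk1406
  rw [len1406] at h7
  have h8 := checkSteps_sound F iv 12 4194304 γ hiv q0 words hw steps1407 1407000 239792 239922 h7 chk1407
  rw [len1407] at h8
  have h9 := checkSteps_sound F iv 12 4194304 γ hiv q0 words hw steps1408 1408000 239922 240049 h8 chk1408
  rw [len1408] at h9
  have h10 := checkSteps_sound F iv 12 4194304 γ hiv q0 words hw steps1409 1409000 240049 240180 h9 chk1409
  rw [len1409] at h10
  have h11 := checkSteps_sound F iv 12 4194304 γ hiv q0 words hw steps1410 1410000 240180 240299 h10 chk1410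
  rw [len1410] at h11
  have h12 := checkSteps_sound F iv 12 4194304 γ hiv q0 words hw steps1411 1411000 240299 240434 h11 chk1411
  rw [len1411] at h12
  have h13 := checkSteps_sound F iv 12 4194304 γ hiv q0 words hw steps1412 1412000 240434 240563 h12 chk1412
  rw [len1412] at h13
  have h14 := checkSteps_sound F iv 12 4194304 γ hiv q0 words hw steps1413 1413000 240563 240694 h13 chk1413
  rw [len1413] at h14
  have h15 := checkSteps_sound F iv 12 4194304 γ hiv q0 words hw steps1414 1414000 240694 240836 h14 chk1414
  rw [len1414] at h15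
  have h16 := checkSteps_sound F iv 12 4194304 γ hiv q0 words hw steps1415 1415000 240836 240982 h15 chk1415
  rw [len1415] at h16
  have h17 := checkSteps_sound F iv 12 4194304 γ hiv q0 words hw steps1416 1416000 240982 241113 h16 chk1416
  rw [len1416] at h17
  have h18 := checkSteps_sound F iv 12 4194304 γ hiv q0 words hw steps1417 1417000 241113 241254 h17 chk1417
  rw [len1417] at h18
  have h19 := checkSteps_sound F iv 12 4194304 γ hiv q0 words hw steps1418 1418000 241254 241399 h18 chk1418
  rw [len1418] at h19
  have h20 := checkSteps_sound F iv 12 4194304 γ hiv q0 words hw steps1419 1419000 241399 241519 h19 chk1419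
  rw [len1419] at h20
  have h21 := checkSteps_sound F iv 12 4194304 γ hiv q0 words hw steps1420 1420000 241519 241642 h20 chk1420
  rw [len1420] at h21
  have h22 := checkSteps_sound F iv 12 4194304 γ hiv q0 words hw steps1421 1421000 241642 241781 h21 chk1421
  rw [len1421] at h22
  have h23 := checkSteps_sound F iv 12 4194304 γ hiv q0 words hw steps1422 1422000 241781 241924 h22 chk1422
  rw [len1422] at h23
  have h24 := checkSteps_sound F iv 12 4194304 γ hiv q0 words hw steps1423 1423000 241924 242064 h23 chk1423
  rw [len1423] at h24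
  have h25 := checkSteps_sound F iv 12 4194304 γ hiv q0 words hw steps1424 1424000 242064 242204 h24 chk1424
  rw [len1424] at h25
  exact h25

end Cfsg.Agent.Lib.H6.FiTC
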