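import Cfsg.Agent.Lib.H6.FiTC.Steps57

set_option autoImplicit false
set_option maxRecDepth 1000000

/-! # invariant through part 57 of Fi24 (generated) -/

namespace Cfsg.Agent.Lib.H6.FiTC

open Cfsg.Agent.Lib.H17.CosetCert Cfsg.Agent.Lib.H6.TC

theorem part57 {G Q : Type} [Group G] [MulAction G Q] (γ : ℕ → G)
    (hiv : ∀ x < 12, γ (iv x) = (γ x)⁻¹) (q0 : Q) (hw : WordsOK γ q0 words)
    (h0 : Inv F 12 γ q0 1425000 242204) : Inv F 12 γ q0 1450000 245868 := by
  have h1 := checkSteps_sound F iv 12 4194304 γ hiv q0 words hw steps1425 1425000 242204 242341 h0 chk1425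
  rw [len1425] at h1
  have h2 := checkSteps_sound F iv 12 4194304 γ hiv q0 words hw steps1426 1426000 242341 242461 h1 chk1426
  rw [len1426] at h2
  have h3 := checkSteps_sound F iv 12 4194304 γ hiv q0 words hw steps1427 1427000 242461 242591 h2 chk1427
  rw [len1427] at h3
  have h4 := checkSteps_sound F iv 12 4194304 γ hiv q0 words hw steps1428 1428000 242591 242729 h3 chk1428
  rw [len1428] at h4
  have h5 := checkSteps_sound F iv 12 4194304 γ hiv q0 words hw steps1429 1429000 242729 242883 h4 chk1429
  rw [len1429] at h5
  have h6 := checkSteps_sound F iv 12 4194304 γ hiv q0 words hw steps1430 1430000 242883 243003 h5 chk1430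
  rw [len1430] at h6
  have h7 := checkSteps_sound F iv 12 4194304 γ hiv q0 words hw steps1431 1431000 243003 243133 h6 chk1431
  rw [len1431] at h7
  have h8 := checkSteps_sound F iv 12 4194304 γ hiv q0 words hw steps1432 1432000 243133 243273 h7 chk1432
  rw [len1432] at h8
  have h9 := checkSteps_sound F iv 12 4194304 γ hiv q0 words hw steps1433 1433000 243273 243438 h8 chk1433
  rw [len1433] at h9
  have h10 := checkSteps_sound F iv 12 4194304 γ hiv q0 words hw steps1434 1434000 243438 243599 h9 chk1434
  rw [len1434] at h10
  have h11 := checkSteps_sound F iv 12 4194304 γ hiv q0 words hw steps1435 1435000 243599 243740 h10 chk1435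
  rw [len1435] at h11
  have h12 := checkSteps_sound F iv 12 4194304 γ hiv q0 words hw steps1436 1436000 243740 243888 h11 chk1436
  rw [len1436] at h12
  have h13 := checkSteps_sound F iv 12 4194304 γ hiv q0 words hw steps1437 1437000 243888 244042 h12 chk1437
  rw [len1437] at h13
  have h14 := checkSteps_sound F iv 12 4194304 γ hiv q0 words hw steps1438 1438000 244042 244172 h13 chk1438
  rw [len1438] at h14
  have h15 := checkSteps_sound F iv 12 4194304 γ hiv q0 words hw steps1439 1439000 244172 244336 h14 chk1439
  rw [len1439] at h15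
  have h16 := checkSteps_sound F iv 12 4194304 γ hiv q0 words hw steps1440 1440000 244336 244496 h15 chk1440
  rw [len1440] at h16
  have h17 := checkSteps_sound F iv 12 4194304 γ hiv q0 words hw steps1441 1441000 244496 244646 h16 chk1441
  rw [len1441] at h17
  have h18 := checkSteps_sound F iv 12 4194304 γ hiv q0 words hw steps1442 1442000 244646 244803 h17 chk1442
  rw [len1442] at h18
  have h19 := checkSteps_sound F iv 12 4194304 γ hiv q0 words hw steps1443 1443000 244803 244955 h18 chk1443
  rw [len1443] at h19
  have h20 := checkSteps_sound F iv 12 4194304 γ hiv q0 words hw steps1444 1444000 244955 245113 h19 chk1444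
  rw [len1444] at h20
  have h21 := checkSteps_sound F iv 12 4194304 γ hiv q0 words hw steps1445 1445000 245113 245254 h20 chk1445
  rw [len1445] at h21
  have h22 := checkSteps_sound F iv 12 4194304 γ hiv q0 words hw steps1446 1446000 245254 245397 h21 chk1446
  rw [len1446] at h22
  have h23 := checkSteps_sound F iv 12 4194304 γ hiv q0 words hw steps1447 1447000 245397 245539 h22 chk1447
  rw [len1447] at h23
  have h24 := checkSteps_sound F iv 12 4194304 γ hiv q0 words hw steps1448 1448000 245539 245698 h23 chk1448
  rw [len1448] at h24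
  have h25 := checkSteps_sound F iv 12 4194304 γ hiv q0 words hw steps1449 1449000 245698 245868 h24 chk1449
  rw [len1449] at h25
  exact h25

end Cfsg.Agent.Lib.H6.FiTC
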