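import Cfsg.Agent.Lib.H6.FiTC.Steps58

set_option autoImplicit false
set_option maxRecDepth 1000000

/-! # invariant through part 58 of Fi24 (generated) -/

namespace Cfsg.Agent.Lib.H6.FiTC

open Cfsg.Agent.Lib.H17.CosetCert Cfsg.Agent.Lib.H6.TC

theorem part58 {G Q : Type} [Group G] [MulAction G Q] (γ : ℕ → G)
    (hiv : ∀ x < 12, γ (iv x) = (γ x)⁻¹) (q0 : Q) (hw : WordsOK γ q0 words)
    (h0 : Inv F 12 γ q0 1450000 245868) : Inv F 12 γ q0 1475000 249933 := by
  have h1 := checkSteps_sound F iv 12 4194304 γ hiv q0 words hw steps1450 1450000 245868 246003 h0 chk1450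
  rw [len1450] at h1
  have h2 := checkSteps_sound F iv 12 4194304 γ hiv q0 words hw steps1451 1451000 246003 246127 h1 chk1451
  rw [len1451] at h2
  have h3 := checkSteps_sound F iv 12 4194304 γ hiv q0 words hw steps1452 1452000 246127 246256 h2 chk1452
  rw [len1452] at h3
  have h4 := checkSteps_sound F iv 12 4194304 γ hiv q0 words hw steps1453 1453000 246256 246397 h3 chk1453
  rw [len1453] at h4
  have h5 := checkSteps_sound F iv 12 4194304 γ hiv q0 words hw steps1454 1454000 246397 246532 h4 chk1454
  rw [len1454] at h5
  have h6 := checkSteps_sound F iv 12 4194304 γ hiv q0 words hw steps1455 1455000 246532 246663 h5 chk1455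
  rw [len1455] at h6
  have h7 := checkSteps_sound F iv 12 4194304 γ hiv q0 words hw steps1456 1456000 246663 246799 h6 chk1456
  rw [len1456] at h7
  have h8 := checkSteps_sound F iv 12 4194304 γ hiv q0 words hw steps1457 1457000 246799 246925 h7 chk1457
  rw [len1457] at h8
  have h9 := checkSteps_sound F iv 12 4194304 γ hiv q0 words hw steps1458 1458000 246925 247055 h8 chk1458
  rw [len1458] at h9
  have h10 := checkSteps_sound F iv 12 4194304 γ hiv q0 words hw steps1459 1459000 247055 247200 h9 chk1459
  rw [len1459] at h10
  have h11 := checkSteps_sound F iv 12 4194304 γ hiv q0 words hw steps1460 1460000 247200 247365 h10 chk1460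
  rw [len1460] at h11
  have h12 := checkSteps_sound F iv 12 4194304 γ hiv q0 words hw steps1461 1461000 247365 247560 h11 chk1461
  rw [len1461] at h12
  have h13 := checkSteps_sound F iv 12 4194304 γ hiv q0 words hw steps1462 1462000 247560 247766 h12 chk1462
  rw [len1462] at h13
  have h14 := checkSteps_sound F iv 12 4194304 γ hiv q0 words hw steps1463 1463000 247766 248003 h13 chk1463
  rw [len1463] at h14
  have h15 := checkSteps_sound F iv 12 4194304 γ hiv q0 words hw steps1464 1464000 248003 248163 h14 chk1464
  rw [len1464] at h15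
  have h16 := checkSteps_sound F iv 12 4194304 γ hiv q0 words hw steps1465 1465000 248163 248357 h15 chk1465
  rw [len1465] at h16
  have h17 := checkSteps_sound F iv 12 4194304 γ hiv q0 words hw steps1466 1466000 248357 248562 h16 chk1466
  rw [len1466] at h17
  have h18 := checkSteps_sound F iv 12 4194304 γ hiv q0 words hw steps1467 1467000 248562 248787 h17 chk1467
  rw [len1467] at h18
  have h19 := checkSteps_sound F iv 12 4194304 γ hiv q0 words hw steps1468 1468000 248787 248943 h18 chk1468
  rw [len1468] at h19
  have h20 := checkSteps_sound F iv 12 4194304 γ hiv q0 words hw steps1469 1469000 248943 249137 h19 chk1469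
  rw [len1469] at h20
  have h21 := checkSteps_sound F iv 12 4194304 γ hiv q0 words hw steps1470 1470000 249137 249321 h20 chk1470
  rw [len1470] at h21
  have h22 := checkSteps_sound F iv 12 4194304 γ hiv q0 words hw steps1471 1471000 249321 249475 h21 chk1471
  rw [len1471] at h22
  have h23 := checkSteps_sound F iv 12 4194304 γ hiv q0 words hw steps1472 1472000 249475 249628 h22 chk1472
  rw [len1472] at h23
  have h24 := checkSteps_sound F iv 12 4194304 γ hiv q0 words hw steps1473 1473000 249628 249782 h23 chk1473
  rw [len1473] at h24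
  have h25 := checkSteps_sound F iv 12 4194304 γ hiv q0 words hw steps1474 1474000 249782 249933 h24 chk1474
  rw [len1474] at h25
  exact h25

end Cfsg.Agent.Lib.H6.FiTC
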