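import Cfsg.Agent.Lib.H6.FiTC.Steps59

set_option autoImplicit false
set_option maxRecDepth 1000000

/-! # invariant through part 59 of Fi24 (generated) -/

namespace Cfsg.Agent.Lib.H6.FiTC

open Cfsg.Agent.Lib.H17.CosetCert Cfsg.Agent.Lib.H6.TC

theorem part59 {G Q : Type} [Group G] [MulAction G Q] (γ : ℕ → G)
    (hiv : ∀ x < 12, γ (iv x) = (γ x)⁻¹) (q0 : Q) (hw : WordsOK γ q0 words)
    (h0 : Inv F 12 γ q0 1475000 249933) : Inv F 12 γ q0 1500000 254144 := by
  have h1 := checkSteps_sound F iv 12 4194304 γ hiv q0 words hw steps1475 1475000 249933 250089 h0 chk1475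
  rw [len1475] at h1
  have h2 := checkSteps_sound F iv 12 4194304 γ hiv q0 words hw steps1476 1476000 250089 250229 h1 chk1476
  rw [len1476] at h2
  have h3 := checkSteps_sound F iv 12 4194304 γ hiv q0 words hw steps1477 1477000 250229 250383 h2 chk1477
  rw [len1477] at h3
  have h4 := checkSteps_sound F iv 12 4194304 γ hiv q0 words hw steps1478 1478000 250383 250569 h3 chk1478
  rw [len1478] at h4
  have h5 := checkSteps_sound F iv 12 4194304 γ hiv q0 words hw steps1479 1479000 250569 250743 h4 chk1479
  rw [len1479] at h5
  have h6 := checkSteps_sound F iv 12 4194304 γ hiv q0 words hw steps1480 1480000 250743 250937 h5 chk1480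
  rw [len1480] at h6
  have h7 := checkSteps_sound F iv 12 4194304 γ hiv q0 words hw steps1481 1481000 250937 251131 h6 chk1481
  rw [len1481] at h7
  have h8 := checkSteps_sound F iv 12 4194304 γ hiv q0 words hw steps1482 1482000 251131 251307 h7 chk1482
  rw [len1482] at h8
  have h9 := checkSteps_sound F iv 12 4194304 γ hiv q0 words hw steps1483 1483000 251307 251486 h8 chk1483
  rw [len1483] at h9
  have h10 := checkSteps_sound F iv 12 4194304 γ hiv q0 words hw steps1484 1484000 251486 251644 h9 chk1484
  rw [len1484] at h10
  have h11 := checkSteps_sound F iv 12 4194304 γ hiv q0 words hw steps1485 1485000 251644 251799 h10 chk1485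
  rw [len1485] at h11
  have h12 := checkSteps_sound F iv 12 4194304 γ hiv q0 words hw steps1486 1486000 251799 251970 h11 chk1486
  rw [len1486] at h12
  have h13 := checkSteps_sound F iv 12 4194304 γ hiv q0 words hw steps1487 1487000 251970 252144 h12 chk1487
  rw [len1487] at h13
  have h14 := checkSteps_sound F iv 12 4194304 γ hiv q0 words hw steps1488 1488000 252144 252318 h13 chk1488
  rw [len1488] at h14
  have h15 := checkSteps_sound F iv 12 4194304 γ hiv q0 words hw steps1489 1489000 252318 252501 h14 chk1489
  rw [len1489] at h15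
  have h16 := checkSteps_sound F iv 12 4194304 γ hiv q0 words hw steps1490 1490000 252501 252682 h15 chk1490
  rw [len1490] at h16
  have h17 := checkSteps_sound F iv 12 4194304 γ hiv q0 words hw steps1491 1491000 252682 252861 h16 chk1491
  rw [len1491] at h17
  have h18 := checkSteps_sound F iv 12 4194304 γ hiv q0 words hw steps1492 1492000 252861 253019 h17 chk1492
  rw [len1492] at h18
  have h19 := checkSteps_sound F iv 12 4194304 γ hiv q0 words hw steps1493 1493000 253019 253183 h18 chk1493
  rw [len1493] at h19
  have h20 := checkSteps_sound F iv 12 4194304 γ hiv q0 words hw steps1494 1494000 253183 253325 h19 chk1494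
  rw [len1494] at h20
  have h21 := checkSteps_sound F iv 12 4194304 γ hiv q0 words hw steps1495 1495000 253325 253489 h20 chk1495
  rw [len1495] at h21
  have h22 := checkSteps_sound F iv 12 4194304 γ hiv q0 words hw steps1496 1496000 253489 253635 h21 chk1496
  rw [len1496] at h22
  have h23 := checkSteps_sound F iv 12 4194304 γ hiv q0 words hw steps1497 1497000 253635 253800 h22 chk1497
  rw [len1497] at h23
  have h24 := checkSteps_sound F iv 12 4194304 γ hiv q0 words hw steps1498 1498000 253800 253961 h23 chk1498
  rw [len1498] at h24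
  have h25 := checkSteps_sound F iv 12 4194304 γ hiv q0 words hw steps1499 1499000 253961 254144 h24 chk1499
  rw [len1499] at h25
  exact h25

end Cfsg.Agent.Lib.H6.FiTC
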