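import Cfsg.Agent.Lib.H6.FiTC.Steps60

set_option autoImplicit false
set_option maxRecDepth 1000000

/-! # invariant through part 60 of Fi24 (generated) -/

namespace Cfsg.Agent.Lib.H6.FiTC

open Cfsg.Agent.Lib.H17.CosetCert Cfsg.Agent.Lib.H6.TC

theorem part60 {G Q : Type} [Group G] [MulAction G Q] (γ : ℕ → G)
    (hiv : ∀ x < 12, γ (iv x) = (γ x)⁻¹) (q0 : Q) (hw : WordsOK γ q0 words)
    (h0 : Inv F 12 γ q0 1500000 254144) : Inv F 12 γ q0 1525000 258898 := by
  have h1 := checkSteps_sound F iv 12 4194304 γ hiv q0 words hw steps1500 1500000 254144 254299 h0 chk1500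
  rw [len1500] at h1
  have h2 := checkSteps_sound F iv 12 4194304 γ hiv q0 words hw steps1501 1501000 254299 254470 h1 chk1501
  rw [len1501] at h2
  have h3 := checkSteps_sound F iv 12 4194304 γ hiv q0 words hw steps1502 1502000 254470 254602 h2 chk1502
  rw [len1502] at h3
  have h4 := checkSteps_sound F iv 12 4194304 γ hiv q0 words hw steps1503 1503000 254602 254782 h3 chk1503
  rw [len1503] at h4
  have h5 := checkSteps_sound F iv 12 4194304 γ hiv q0 words hw steps1504 1504000 254782 254973 h4 chk1504
  rw [len1504] at h5
  have h6 := checkSteps_sound F iv 12 4194304 γ hiv q0 words hw steps1505 1505000 254973 255168 h5 chk1505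
  rw [len1505] at h6
  have h7 := checkSteps_sound F iv 12 4194304 γ hiv q0 words hw steps1506 1506000 255168 255353 h6 chk1506
  rw [len1506] at h7
  have h8 := checkSteps_sound F iv 12 4194304 γ hiv q0 words hw steps1507 1507000 255353 255567 h7 chk1507
  rw [len1507] at h8
  have h9 := checkSteps_sound F iv 12 4194304 γ hiv q0 words hw steps1508 1508000 255567 255749 h8 chk1508
  rw [len1508] at h9
  have h10 := checkSteps_sound F iv 12 4194304 γ hiv q0 words hw steps1509 1509000 255749 255913 h9 chk1509
  rw [len1509] at h10
  have h11 := checkSteps_sound F iv 12 4194304 γ hiv q0 words hw steps1510 1510000 255913 256091 h10 chk1510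
  rw [len1510] at h11
  have h12 := checkSteps_sound F iv 12 4194304 γ hiv q0 words hw steps1511 1511000 256091 256270 h11 chk1511
  rw [len1511] at h12
  have h13 := checkSteps_sound F iv 12 4194304 γ hiv q0 words hw steps1512 1512000 256270 256480 h12 chk1512
  rw [len1512] at h13
  have h14 := checkSteps_sound F iv 12 4194304 γ hiv q0 words hw steps1513 1513000 256480 256683 h13 chk1513
  rw [len1513] at h14
  have h15 := checkSteps_sound F iv 12 4194304 γ hiv q0 words hw steps1514 1514000 256683 256877 h14 chk1514
  rw [len1514] at h15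
  have h16 := checkSteps_sound F iv 12 4194304 γ hiv q0 words hw steps1515 1515000 256877 257056 h15 chk1515
  rw [len1515] at h16
  have h17 := checkSteps_sound F iv 12 4194304 γ hiv q0 words hw steps1516 1516000 257056 257251 h16 chk1516
  rw [len1516] at h17
  have h18 := checkSteps_sound F iv 12 4194304 γ hiv q0 words hw steps1517 1517000 257251 257436 h17 chk1517
  rw [len1517] at h18
  have h19 := checkSteps_sound F iv 12 4194304 γ hiv q0 words hw steps1518 1518000 257436 257648 h18 chk1518
  rw [len1518] at h19
  have h20 := checkSteps_sound F iv 12 4194304 γ hiv q0 words hw steps1519 1519000 257648 257862 h19 chk1519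
  rw [len1519] at h20
  have h21 := checkSteps_sound F iv 12 4194304 γ hiv q0 words hw steps1520 1520000 257862 258077 h20 chk1520
  rw [len1520] at h21
  have h22 := checkSteps_sound F iv 12 4194304 γ hiv q0 words hw steps1521 1521000 258077 258273 h21 chk1521
  rw [len1521] at h22
  have h23 := checkSteps_sound F iv 12 4194304 γ hiv q0 words hw steps1522 1522000 258273 258473 h22 chk1522
  rw [len1522] at h23
  have h24 := checkSteps_sound F iv 12 4194304 γ hiv q0 words hw steps1523 1523000 258473 258672 h23 chk1523
  rw [len1523] at h24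
  have h25 := checkSteps_sound F iv 12 4194304 γ hiv q0 words hw steps1524 1524000 258672 258898 h24 chk1524
  rw [len1524] at h25
  exact h25

end Cfsg.Agent.Lib.H6.FiTC
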