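import Cfsg.Agent.Lib.H6.FiTC.Steps61

set_option autoImplicit false
set_option maxRecDepth 1000000

/-! # invariant through part 61 of Fi24 (generated) -/

namespace Cfsg.Agent.Lib.H6.FiTC

open Cfsg.Agent.Lib.H17.CosetCert Cfsg.Agent.Lib.H6.TC

theorem part61 {G Q : Type} [Group G] [MulAction G Q] (γ : ℕ → G)
    (hiv : ∀ x < 12, γ (iv x) = (γ x)⁻¹) (q0 : Q) (hw : WordsOK γ q0 words)
    (h0 : Inv F 12 γ q0 1525000 258898) : Inv F 12 γ q0 1550000 262997 := by
  have h1 := checkSteps_sound F iv 12 4194304 γ hiv q0 words hw steps1525 1525000 258898 259123 h0 chk1525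
  rw [len1525] at h1
  have h2 := checkSteps_sound F iv 12 4194304 γ hiv q0 words hw steps1526 1526000 259123 259347 h1 chk1526
  rw [len1526] at h2
  have h3 := checkSteps_sound F iv 12 4194304 γ hiv q0 words hw steps1527 1527000 259347 259569 h2 chk1527
  rw [len1527] at h3
  have h4 := checkSteps_sound F iv 12 4194304 γ hiv q0 words hw steps1528 1528000 259569 259773 h3 chk1528
  rw [len1528] at h4
  have h5 := checkSteps_sound F iv 12 4194304 γ hiv q0 words hw steps1529 1529000 259773 259980 h4 chk1529
  rw [len1529] at h5
  have h6 := checkSteps_sound F iv 12 4194304 γ hiv q0 words hw steps1530 1530000 259980 260206 h5 chk1530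
  rw [len1530] at h6
  have h7 := checkSteps_sound F iv 12 4194304 γ hiv q0 words hw steps1531 1531000 260206 260442 h6 chk1531
  rw [len1531] at h7
  have h8 := checkSteps_sound F iv 12 4194304 γ hiv q0 words hw steps1532 1532000 260442 260648 h7 chk1532
  rw [len1532] at h8
  have h9 := checkSteps_sound F iv 12 4194304 γ hiv q0 words hw steps1533 1533000 260648 260838 h8 chk1533
  rw [len1533] at h9
  have h10 := checkSteps_sound F iv 12 4194304 γ hiv q0 words hw steps1534 1534000 260838 261049 h9 chk1534
  rw [len1534] at h10
  have h11 := checkSteps_sound F iv 12 4194304 γ hiv q0 words hw steps1535 1535000 261049 261260 h10 chk1535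
  rw [len1535] at h11
  have h12 := checkSteps_sound F iv 12 4194304 γ hiv q0 words hw steps1536 1536000 261260 261369 h11 chk1536
  rw [len1536] at h12
  have h13 := checkSteps_sound F iv 12 4194304 γ hiv q0 words hw steps1537 1537000 261369 261476 h12 chk1537
  rw [len1537] at h13
  have h14 := checkSteps_sound F iv 12 4194304 γ hiv q0 words hw steps1538 1538000 261476 261602 h13 chk1538
  rw [len1538] at h14
  have h15 := checkSteps_sound F iv 12 4194304 γ hiv q0 words hw steps1539 1539000 261602 261730 h14 chk1539
  rw [len1539] at h15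
  have h16 := checkSteps_sound F iv 12 4194304 γ hiv q0 words hw steps1540 1540000 261730 261861 h15 chk1540
  rw [len1540] at h16
  have h17 := checkSteps_sound F iv 12 4194304 γ hiv q0 words hw steps1541 1541000 261861 262004 h16 chk1541
  rw [len1541] at h17
  have h18 := checkSteps_sound F iv 12 4194304 γ hiv q0 words hw steps1542 1542000 262004 262155 h17 chk1542
  rw [len1542] at h18
  have h19 := checkSteps_sound F iv 12 4194304 γ hiv q0 words hw steps1543 1543000 262155 262302 h18 chk1543
  rw [len1543] at h19
  have h20 := checkSteps_sound F iv 12 4194304 γ hiv q0 words hw steps1544 1544000 262302 262414 h19 chk1544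
  rw [len1544] at h20
  have h21 := checkSteps_sound F iv 12 4194304 γ hiv q0 words hw steps1545 1545000 262414 262531 h20 chk1545
  rw [len1545] at h21
  have h22 := checkSteps_sound F iv 12 4194304 γ hiv q0 words hw steps1546 1546000 262531 262648 h21 chk1546
  rw [len1546] at h22
  have h23 := checkSteps_sound F iv 12 4194304 γ hiv q0 words hw steps1547 1547000 262648 262759 h22 chk1547
  rw [len1547] at h23
  have h24 := checkSteps_sound F iv 12 4194304 γ hiv q0 words hw steps1548 1548000 262759 262877 h23 chk1548
  rw [len1548] at h24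
  have h25 := checkSteps_sound F iv 12 4194304 γ hiv q0 words hw steps1549 1549000 262877 262997 h24 chk1549
  rw [len1549] at h25
  exact h25

end Cfsg.Agent.Lib.H6.FiTC
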