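import Cfsg.Agent.Lib.H6.FiTC.Steps62

set_option autoImplicit false
set_option maxRecDepth 1000000

/-! # invariant through part 62 of Fi24 (generated) -/

namespace Cfsg.Agent.Lib.H6.FiTC

open Cfsg.Agent.Lib.H17.CosetCert Cfsg.Agent.Lib.H6.TC

theorem part62 {G Q : Type} [Group G] [MulAction G Q] (γ : ℕ → G)
    (hiv : ∀ x < 12, γ (iv x) = (γ x)⁻¹) (q0 : Q) (hw : WordsOK γ q0 words)
    (h0 : Inv F 12 γ q0 1550000 262997) : Inv F 12 γ q0 1575000 265998 := by
  have h1 := checkSteps_sound F iv 12 4194304 γ hiv q0 words hw steps1550 1550000 262997 263113 h0 chk1550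
  rw [len1550] at h1
  have h2 := checkSteps_sound F iv 12 4194304 γ hiv q0 words hw steps1551 1551000 263113 263236 h1 chk1551
  rw [len1551] at h2
  have h3 := checkSteps_sound F iv 12 4194304 γ hiv q0 words hw steps1552 1552000 263236 263350 h2 chk1552
  rw [len1552] at h3
  have h4 := checkSteps_sound F iv 12 4194304 γ hiv q0 words hw steps1553 1553000 263350 263464 h3 chk1553
  rw [len1553] at h4
  have h5 := checkSteps_sound F iv 12 4194304 γ hiv q0 words hw steps1554 1554000 263464 263588 h4 chk1554
  rw [len1554] at h5
  have h6 := checkSteps_sound F iv 12 4194304 γ hiv q0 words hw steps1555 1555000 263588 263707 h5 chk1555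
  rw [len1555] at h6
  have h7 := checkSteps_sound F iv 12 4194304 γ hiv q0 words hw steps1556 1556000 263707 263836 h6 chk1556
  rw [len1556] at h7
  have h8 := checkSteps_sound F iv 12 4194304 γ hiv q0 words hw steps1557 1557000 263836 263970 h7 chk1557
  rw [len1557] at h8
  have h9 := checkSteps_sound F iv 12 4194304 γ hiv q0 words hw steps1558 1558000 263970 264095 h8 chk1558
  rw [len1558] at h9
  have h10 := checkSteps_sound F iv 12 4194304 γ hiv q0 words hw steps1559 1559000 264095 264216 h9 chk1559
  rw [len1559] at h10
  have h11 := checkSteps_sound F iv 12 4194304 γ hiv q0 words hw steps1560 1560000 264216 264328 h10 chk1560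
  rw [len1560] at h11
  have h12 := checkSteps_sound F iv 12 4194304 γ hiv q0 words hw steps1561 1561000 264328 264445 h11 chk1561
  rw [len1561] at h12
  have h13 := checkSteps_sound F iv 12 4194304 γ hiv q0 words hw steps1562 1562000 264445 264567 h12 chk1562
  rw [len1562] at h13
  have h14 := checkSteps_sound F iv 12 4194304 γ hiv q0 words hw steps1563 1563000 264567 264692 h13 chk1563
  rw [len1563] at h14
  have h15 := checkSteps_sound F iv 12 4194304 γ hiv q0 words hw steps1564 1564000 264692 264806 h14 chk1564
  rw [len1564] at h15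
  have h16 := checkSteps_sound F iv 12 4194304 γ hiv q0 words hw steps1565 1565000 264806 264918 h15 chk1565
  rw [len1565] at h16
  have h17 := checkSteps_sound F iv 12 4194304 γ hiv q0 words hw steps1566 1566000 264918 265032 h16 chk1566
  rw [len1566] at h17
  have h18 := checkSteps_sound F iv 12 4194304 γ hiv q0 words hw steps1567 1567000 265032 265146 h17 chk1567
  rw [len1567] at h18
  have h19 := checkSteps_sound F iv 12 4194304 γ hiv q0 words hw steps1568 1568000 265146 265258 h18 chk1568
  rw [len1568] at h19
  have h20 := checkSteps_sound F iv 12 4194304 γ hiv q0 words hw steps1569 1569000 265258 265380 h19 chk1569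
  rw [len1569] at h20
  have h21 := checkSteps_sound F iv 12 4194304 γ hiv q0 words hw steps1570 1570000 265380 265502 h20 chk1570
  rw [len1570] at h21
  have h22 := checkSteps_sound F iv 12 4194304 γ hiv q0 words hw steps1571 1571000 265502 265628 h21 chk1571
  rw [len1571] at h22
  have h23 := checkSteps_sound F iv 12 4194304 γ hiv q0 words hw steps1572 1572000 265628 265742 h22 chk1572
  rw [len1572] at h23
  have h24 := checkSteps_sound F iv 12 4194304 γ hiv q0 words hw steps1573 1573000 265742 265871 h23 chk1573
  rw [len1573] at h24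
  have h25 := checkSteps_sound F iv 12 4194304 γ hiv q0 words hw steps1574 1574000 265871 265998 h24 chk1574
  rw [len1574] at h25
  exact h25

end Cfsg.Agent.Lib.H6.FiTC
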