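import Cfsg.Agent.Lib.H6.FiTC.Steps63

set_option autoImplicit false
set_option maxRecDepth 1000000

/-! # invariant through part 63 of Fi24 (generated) -/

namespace Cfsg.Agent.Lib.H6.FiTC

open Cfsg.Agent.Lib.H17.CosetCert Cfsg.Agent.Lib.H6.TC

theorem part63 {G Q : Type} [Group G] [MulAction G Q] (γ : ℕ → G)
    (hiv : ∀ x < 12, γ (iv x) = (γ x)⁻¹) (q0 : Q) (hw : WordsOK γ q0 words)
    (h0 : Inv F 12 γ q0 1575000 265998) : Inv F 12 γ q0 1600000 269341 := by
  have h1 := checkSteps_sound F iv 12 4194304 γ hiv q0 words hw steps1575 1575000 265998 266122 h0 chk1575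
  rw [len1575] at h1
  have h2 := checkSteps_sound F iv 12 4194304 γ hiv q0 words hw steps1576 1576000 266122 266253 h1 chk1576
  rw [len1576] at h2
  have h3 := checkSteps_sound F iv 12 4194304 γ hiv q0 words hw steps1577 1577000 266253 266387 h2 chk1577
  rw [len1577] at h3
  have h4 := checkSteps_sound F iv 12 4194304 γ hiv q0 words hw steps1578 1578000 266387 266528 h3 chk1578
  rw [len1578] at h4
  have h5 := checkSteps_sound F iv 12 4194304 γ hiv q0 words hw steps1579 1579000 266528 266662 h4 chk1579
  rw [len1579] at h5
  have h6 := checkSteps_sound F iv 12 4194304 γ hiv q0 words hw steps1580 1580000 266662 266796 h5 chk1580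
  rw [len1580] at h6
  have h7 := checkSteps_sound F iv 12 4194304 γ hiv q0 words hw steps1581 1581000 266796 266934 h6 chk1581
  rw [len1581] at h7
  have h8 := checkSteps_sound F iv 12 4194304 γ hiv q0 words hw steps1582 1582000 266934 267081 h7 chk1582
  rw [len1582] at h8
  have h9 := checkSteps_sound F iv 12 4194304 γ hiv q0 words hw steps1583 1583000 267081 267194 h8 chk1583
  rw [len1583] at h9
  have h10 := checkSteps_sound F iv 12 4194304 γ hiv q0 words hw steps1584 1584000 267194 267324 h9 chk1584
  rw [len1584] at h10
  have h11 := checkSteps_sound F iv 12 4194304 γ hiv q0 words hw steps1585 1585000 267324 267452 h10 chk1585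
  rw [len1585] at h11
  have h12 := checkSteps_sound F iv 12 4194304 γ hiv q0 words hw steps1586 1586000 267452 267589 h11 chk1586
  rw [len1586] at h12
  have h13 := checkSteps_sound F iv 12 4194304 γ hiv q0 words hw steps1587 1587000 267589 267722 h12 chk1587
  rw [len1587] at h13
  have h14 := checkSteps_sound F iv 12 4194304 γ hiv q0 words hw steps1588 1588000 267722 267862 h13 chk1588
  rw [len1588] at h14
  have h15 := checkSteps_sound F iv 12 4194304 γ hiv q0 words hw steps1589 1589000 267862 267999 h14 chk1589
  rw [len1589] at h15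
  have h16 := checkSteps_sound F iv 12 4194304 γ hiv q0 words hw steps1590 1590000 267999 268113 h15 chk1590
  rw [len1590] at h16
  have h17 := checkSteps_sound F iv 12 4194304 γ hiv q0 words hw steps1591 1591000 268113 268234 h16 chk1591
  rw [len1591] at h17
  have h18 := checkSteps_sound F iv 12 4194304 γ hiv q0 words hw steps1592 1592000 268234 268365 h17 chk1592
  rw [len1592] at h18
  have h19 := checkSteps_sound F iv 12 4194304 γ hiv q0 words hw steps1593 1593000 268365 268514 h18 chk1593
  rw [len1593] at h19
  have h20 := checkSteps_sound F iv 12 4194304 γ hiv q0 words hw steps1594 1594000 268514 268633 h19 chk1594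
  rw [len1594] at h20
  have h21 := checkSteps_sound F iv 12 4194304 γ hiv q0 words hw steps1595 1595000 268633 268759 h20 chk1595
  rw [len1595] at h21
  have h22 := checkSteps_sound F iv 12 4194304 γ hiv q0 words hw steps1596 1596000 268759 268892 h21 chk1596
  rw [len1596] at h22
  have h23 := checkSteps_sound F iv 12 4194304 γ hiv q0 words hw steps1597 1597000 268892 269051 h22 chk1597
  rw [len1597] at h23
  have h24 := checkSteps_sound F iv 12 4194304 γ hiv q0 words hw steps1598 1598000 269051 269207 h23 chk1598
  rw [len1598] at h24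
  have h25 := checkSteps_sound F iv 12 4194304 γ hiv q0 words hw steps1599 1599000 269207 269341 h24 chk1599
  rw [len1599] at h25
  exact h25

end Cfsg.Agent.Lib.H6.FiTC
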