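import Cfsg.Agent.Lib.H6.FiTC.Steps65

set_option autoImplicit false
set_option maxRecDepth 1000000

/-! # invariant through part 65 of Fi24 (generated) -/

namespace Cfsg.Agent.Lib.H6.FiTC

open Cfsg.Agent.Lib.H17.CosetCert Cfsg.Agent.Lib.H6.TC

theorem part65 {G Q : Type} [Group G] [MulAction G Q] (γ : ℕ → G)
    (hiv : ∀ x < 12, γ (iv x) = (γ x)⁻¹) (q0 : Q) (hw : WordsOK γ q0 words)
    (h0 : Inv F 12 γ q0 1625000 272830) : Inv F 12 γ q0 1650000 277060 := by
  have h1 := checkSteps_sound F iv 12 4194304 γ hiv q0 words hw steps1625 1625000 272830 273010 h0 chk1625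
  rw [len1625] at h1
  have h2 := checkSteps_sound F iv 12 4194304 γ hiv q0 words hw steps1626 1626000 273010 273193 h1 chk1626
  rw [len1626] at h2
  have h3 := checkSteps_sound F iv 12 4194304 γ hiv q0 words hw steps1627 1627000 273193 273392 h2 chk1627
  rw [len1627] at h3
  have h4 := checkSteps_sound F iv 12 4194304 γ hiv q0 words hw steps1628 1628000 273392 273619 h3 chk1628
  rw [len1628] at h4
  have h5 := checkSteps_sound F iv 12 4194304 γ hiv q0 words hw steps1629 1629000 273619 273772 h4 chk1629
  rw [len1629] at h5
  have h6 := checkSteps_sound F iv 12 4194304 γ hiv q0 words hw steps1630 1630000 273772 273952 h5 chk1630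
  rw [len1630] at h6
  have h7 := checkSteps_sound F iv 12 4194304 γ hiv q0 words hw steps1631 1631000 273952 274143 h6 chk1631
  rw [len1631] at h7
  have h8 := checkSteps_sound F iv 12 4194304 γ hiv q0 words hw steps1632 1632000 274143 274340 h7 chk1632
  rw [len1632] at h8
  have h9 := checkSteps_sound F iv 12 4194304 γ hiv q0 words hw steps1633 1633000 274340 274502 h8 chk1633
  rw [len1633] at h9
  have h10 := checkSteps_sound F iv 12 4194304 γ hiv q0 words hw steps1634 1634000 274502 274663 h9 chk1634
  rw [len1634] at h10
  have h11 := checkSteps_sound F iv 12 4194304 γ hiv q0 words hw steps1635 1635000 274663 274855 h10 chk1635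
  rw [len1635] at h11
  have h12 := checkSteps_sound F iv 12 4194304 γ hiv q0 words hw steps1636 1636000 274855 275004 h11 chk1636
  rw [len1636] at h12
  have h13 := checkSteps_sound F iv 12 4194304 γ hiv q0 words hw steps1637 1637000 275004 275140 h12 chk1637
  rw [len1637] at h13
  have h14 := checkSteps_sound F iv 12 4194304 γ hiv q0 words hw steps1638 1638000 275140 275283 h13 chk1638
  rw [len1638] at h14
  have h15 := checkSteps_sound F iv 12 4194304 γ hiv q0 words hw steps1639 1639000 275283 275426 h14 chk1639
  rw [len1639] at h15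
  have h16 := checkSteps_sound F iv 12 4194304 γ hiv q0 words hw steps1640 1640000 275426 275560 h15 chk1640
  rw [len1640] at h16
  have h17 := checkSteps_sound F iv 12 4194304 γ hiv q0 words hw steps1641 1641000 275560 275705 h16 chk1641
  rw [len1641] at h17
  have h18 := checkSteps_sound F iv 12 4194304 γ hiv q0 words hw steps1642 1642000 275705 275838 h17 chk1642
  rw [len1642] at h18
  have h19 := checkSteps_sound F iv 12 4194304 γ hiv q0 words hw steps1643 1643000 275838 275992 h18 chk1643
  rw [len1643] at h19
  have h20 := checkSteps_sound F iv 12 4194304 γ hiv q0 words hw steps1644 1644000 275992 276173 h19 chk1644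
  rw [len1644] at h20
  have h21 := checkSteps_sound F iv 12 4194304 γ hiv q0 words hw steps1645 1645000 276173 276349 h20 chk1645
  rw [len1645] at h21
  have h22 := checkSteps_sound F iv 12 4194304 γ hiv q0 words hw steps1646 1646000 276349 276540 h21 chk1646
  rw [len1646] at h22
  have h23 := checkSteps_sound F iv 12 4194304 γ hiv q0 words hw steps1647 1647000 276540 276703 h22 chk1647
  rw [len1647] at h23
  have h24 := checkSteps_sound F iv 12 4194304 γ hiv q0 words hw steps1648 1648000 276703 276892 h23 chk1648
  rw [len1648] at h24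
  have h25 := checkSteps_sound F iv 12 4194304 γ hiv q0 words hw steps1649 1649000 276892 277060 h24 chk1649
  rw [len1649] at h25
  exact h25

end Cfsg.Agent.Lib.H6.FiTC
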