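import Cfsg.Agent.Lib.H6.FiTC.Steps66

set_option autoImplicit false
set_option maxRecDepth 1000000

/-! # invariant through part 66 of Fi24 (generated) -/

namespace Cfsg.Agent.Lib.H6.FiTC

open Cfsg.Agent.Lib.H17.CosetCert Cfsg.Agent.Lib.H6.TC

theorem part66 {G Q : Type} [Group G] [MulAction G Q] (γ : ℕ → G)
    (hiv : ∀ x < 12, γ (iv x) = (γ x)⁻¹) (q0 : Q) (hw : WordsOK γ q0 words)
    (h0 : Inv F 12 γ q0 1650000 277060) : Inv F 12 γ q0 1675000 281092 := by
  have h1 := checkSteps_sound F iv 12 4194304 γ hiv q0 words hw steps1650 1650000 277060 277227 h0 chk1650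
  rw [len1650] at h1
  have h2 := checkSteps_sound F iv 12 4194304 γ hiv q0 words hw steps1651 1651000 277227 277398 h1 chk1651
  rw [len1651] at h2
  have h3 := checkSteps_sound F iv 12 4194304 γ hiv q0 words hw steps1652 1652000 277398 277557 h2 chk1652
  rw [len1652] at h3
  have h4 := checkSteps_sound F iv 12 4194304 γ hiv q0 words hw steps1653 1653000 277557 277717 h3 chk1653
  rw [len1653] at h4
  have h5 := checkSteps_sound F iv 12 4194304 γ hiv q0 words hw steps1654 1654000 277717 277883 h4 chk1654
  rw [len1654] at h5
  have h6 := checkSteps_sound F iv 12 4194304 γ hiv q0 words hw steps1655 1655000 277883 278042 h5 chk1655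
  rw [len1655] at h6
  have h7 := checkSteps_sound F iv 12 4194304 γ hiv q0 words hw steps1656 1656000 278042 278195 h6 chk1656
  rw [len1656] at h7
  have h8 := checkSteps_sound F iv 12 4194304 γ hiv q0 words hw steps1657 1657000 278195 278363 h7 chk1657
  rw [len1657] at h8
  have h9 := checkSteps_sound F iv 12 4194304 γ hiv q0 words hw steps1658 1658000 278363 278526 h8 chk1658
  rw [len1658] at h9
  have h10 := checkSteps_sound F iv 12 4194304 γ hiv q0 words hw steps1659 1659000 278526 278692 h9 chk1659
  rw [len1659] at h10
  have h11 := checkSteps_sound F iv 12 4194304 γ hiv q0 words hw steps1660 1660000 278692 278849 h10 chk1660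
  rw [len1660] at h11
  have h12 := checkSteps_sound F iv 12 4194304 γ hiv q0 words hw steps1661 1661000 278849 279010 h11 chk1661
  rw [len1661] at h12
  have h13 := checkSteps_sound F iv 12 4194304 γ hiv q0 words hw steps1662 1662000 279010 279146 h12 chk1662
  rw [len1662] at h13
  have h14 := checkSteps_sound F iv 12 4194304 γ hiv q0 words hw steps1663 1663000 279146 279299 h13 chk1663
  rw [len1663] at h14
  have h15 := checkSteps_sound F iv 12 4194304 γ hiv q0 words hw steps1664 1664000 279299 279441 h14 chk1664
  rw [len1664] at h15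
  have h16 := checkSteps_sound F iv 12 4194304 γ hiv q0 words hw steps1665 1665000 279441 279594 h15 chk1665
  rw [len1665] at h16
  have h17 := checkSteps_sound F iv 12 4194304 γ hiv q0 words hw steps1666 1666000 279594 279747 h16 chk1666
  rw [len1666] at h17
  have h18 := checkSteps_sound F iv 12 4194304 γ hiv q0 words hw steps1667 1667000 279747 279916 h17 chk1667
  rw [len1667] at h18
  have h19 := checkSteps_sound F iv 12 4194304 γ hiv q0 words hw steps1668 1668000 279916 280073 h18 chk1668
  rw [len1668] at h19
  have h20 := checkSteps_sound F iv 12 4194304 γ hiv q0 words hw steps1669 1669000 280073 280200 h19 chk1669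
  rw [len1669] at h20
  have h21 := checkSteps_sound F iv 12 4194304 γ hiv q0 words hw steps1670 1670000 280200 280348 h20 chk1670
  rw [len1670] at h21
  have h22 := checkSteps_sound F iv 12 4194304 γ hiv q0 words hw steps1671 1671000 280348 280529 h21 chk1671
  rw [len1671] at h22
  have h23 := checkSteps_sound F iv 12 4194304 γ hiv q0 words hw steps1672 1672000 280529 280718 h22 chk1672
  rw [len1672] at h23
  have h24 := checkSteps_sound F iv 12 4194304 γ hiv q0 words hw steps1673 1673000 280718 280898 h23 chk1673
  rw [len1673] at h24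
  have h25 := checkSteps_sound F iv 12 4194304 γ hiv q0 words hw steps1674 1674000 280898 281092 h24 chk1674
  rw [len1674] at h25
  exact h25

end Cfsg.Agent.Lib.H6.FiTC
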