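import Cfsg.Agent.Lib.H6.FiTC.Steps67

set_option autoImplicit false
set_option maxRecDepth 1000000

/-! # invariant through part 67 of Fi24 (generated) -/

namespace Cfsg.Agent.Lib.H6.FiTC

open Cfsg.Agent.Lib.H17.CosetCert Cfsg.Agent.Lib.H6.TC

theorem part67 {G Q : Type} [Group G] [MulAction G Q] (γ : ℕ → G)
    (hiv : ∀ x < 12, γ (iv x) = (γ x)⁻¹) (q0 : Q) (hw : WordsOK γ q0 words)
    (h0 : Inv F 12 γ q0 1675000 281092) : Inv F 12 γ q0 1700000 285966 := by
  have h1 := checkSteps_sound F iv 12 4194304 γ hiv q0 words hw steps1675 1675000 281092 281272 h0 chk1675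
  rw [len1675] at h1
  have h2 := checkSteps_sound F iv 12 4194304 γ hiv q0 words hw steps1676 1676000 281272 281437 h1 chk1676
  rw [len1676] at h2
  have h3 := checkSteps_sound F iv 12 4194304 γ hiv q0 words hw steps1677 1677000 281437 281608 h2 chk1677
  rw [len1677] at h3
  have h4 := checkSteps_sound F iv 12 4194304 γ hiv q0 words hw steps1678 1678000 281608 281771 h3 chk1678
  rw [len1678] at h4
  have h5 := checkSteps_sound F iv 12 4194304 γ hiv q0 words hw steps1679 1679000 281771 281966 h4 chk1679
  rw [len1679] at h5
  have h6 := checkSteps_sound F iv 12 4194304 γ hiv q0 words hw steps1680 1680000 281966 282174 h5 chk1680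
  rw [len1680] at h6
  have h7 := checkSteps_sound F iv 12 4194304 γ hiv q0 words hw steps1681 1681000 282174 282359 h6 chk1681
  rw [len1681] at h7
  have h8 := checkSteps_sound F iv 12 4194304 γ hiv q0 words hw steps1682 1682000 282359 282550 h7 chk1682
  rw [len1682] at h8
  have h9 := checkSteps_sound F iv 12 4194304 γ hiv q0 words hw steps1683 1683000 282550 282729 h8 chk1683
  rw [len1683] at h9
  have h10 := checkSteps_sound F iv 12 4194304 γ hiv q0 words hw steps1684 1684000 282729 282911 h9 chk1684
  rw [len1684] at h10
  have h11 := checkSteps_sound F iv 12 4194304 γ hiv q0 words hw steps1685 1685000 282911 283099 h10 chk1685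
  rw [len1685] at h11
  have h12 := checkSteps_sound F iv 12 4194304 γ hiv q0 words hw steps1686 1686000 283099 283299 h11 chk1686
  rw [len1686] at h12
  have h13 := checkSteps_sound F iv 12 4194304 γ hiv q0 words hw steps1687 1687000 283299 283500 h12 chk1687
  rw [len1687] at h13
  have h14 := checkSteps_sound F iv 12 4194304 γ hiv q0 words hw steps1688 1688000 283500 283703 h13 chk1688
  rw [len1688] at h14
  have h15 := checkSteps_sound F iv 12 4194304 γ hiv q0 words hw steps1689 1689000 283703 283891 h14 chk1689
  rw [len1689] at h15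
  have h16 := checkSteps_sound F iv 12 4194304 γ hiv q0 words hw steps1690 1690000 283891 284091 h15 chk1690
  rw [len1690] at h16
  have h17 := checkSteps_sound F iv 12 4194304 γ hiv q0 words hw steps1691 1691000 284091 284304 h16 chk1691
  rw [len1691] at h17
  have h18 := checkSteps_sound F iv 12 4194304 γ hiv q0 words hw steps1692 1692000 284304 284516 h17 chk1692
  rw [len1692] at h18
  have h19 := checkSteps_sound F iv 12 4194304 γ hiv q0 words hw steps1693 1693000 284516 284733 h18 chk1693
  rw [len1693] at h19
  have h20 := checkSteps_sound F iv 12 4194304 γ hiv q0 words hw steps1694 1694000 284733 284938 h19 chk1694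
  rw [len1694] at h20
  have h21 := checkSteps_sound F iv 12 4194304 γ hiv q0 words hw steps1695 1695000 284938 285135 h20 chk1695
  rw [len1695] at h21
  have h22 := checkSteps_sound F iv 12 4194304 γ hiv q0 words hw steps1696 1696000 285135 285359 h21 chk1696
  rw [len1696] at h22
  have h23 := checkSteps_sound F iv 12 4194304 γ hiv q0 words hw steps1697 1697000 285359 285591 h22 chk1697
  rw [len1697] at h23
  have h24 := checkSteps_sound F iv 12 4194304 γ hiv q0 words hw steps1698 1698000 285591 285788 h23 chk1698
  rw [len1698] at h24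
  have h25 := checkSteps_sound F iv 12 4194304 γ hiv q0 words hw steps1699 1699000 285788 285966 h24 chk1699
  rw [len1699] at h25
  exact h25

end Cfsg.Agent.Lib.H6.FiTC
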