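import Cfsg.Agent.Lib.H6.FiTC.Steps68

set_option autoImplicit false
set_option maxRecDepth 1000000

/-! # invariant through part 68 of Fi24 (generated) -/

namespace Cfsg.Agent.Lib.H6.FiTC

open Cfsg.Agent.Lib.H17.CosetCert Cfsg.Agent.Lib.H6.TC

theorem part68 {G Q : Type} [Group G] [MulAction G Q] (γ : ℕ → G)
    (hiv : ∀ x < 12, γ (iv x) = (γ x)⁻¹) (q0 : Q) (hw : WordsOK γ q0 words)
    (h0 : Inv F 12 γ q0 1700000 285966) : Inv F 12 γ q0 1725000 289109 := by
  have h1 := checkSteps_sound F iv 12 4194304 γ hiv q0 words hw steps1700 1700000 285966 286160 h0 chk1700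
  rw [len1700] at h1
  have h2 := checkSteps_sound F iv 12 4194304 γ hiv q0 words hw steps1701 1701000 286160 286322 h1 chk1701
  rw [len1701] at h2
  have h3 := checkSteps_sound F iv 12 4194304 γ hiv q0 words hw steps1702 1702000 286322 286434 h2 chk1702
  rw [len1702] at h3
  have h4 := checkSteps_sound F iv 12 4194304 γ hiv q0 words hw steps1703 1703000 286434 286556 h3 chk1703
  rw [len1703] at h4
  have h5 := checkSteps_sound F iv 12 4194304 γ hiv q0 words hw steps1704 1704000 286556 286687 h4 chk1704
  rw [len1704] at h5
  have h6 := checkSteps_sound F iv 12 4194304 γ hiv q0 words hw steps1705 1705000 286687 286818 h5 chk1705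
  rw [len1705] at h6
  have h7 := checkSteps_sound F iv 12 4194304 γ hiv q0 words hw steps1706 1706000 286818 286966 h6 chk1706
  rw [len1706] at h7
  have h8 := checkSteps_sound F iv 12 4194304 γ hiv q0 words hw steps1707 1707000 286966 287113 h7 chk1707
  rw [len1707] at h8
  have h9 := checkSteps_sound F iv 12 4194304 γ hiv q0 words hw steps1708 1708000 287113 287270 h8 chk1708
  rw [len1708] at h9
  have h10 := checkSteps_sound F iv 12 4194304 γ hiv q0 words hw steps1709 1709000 287270 287381 h9 chk1709
  rw [len1709] at h10
  have h11 := checkSteps_sound F iv 12 4194304 γ hiv q0 words hw steps1710 1710000 287381 287491 h10 chk1710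
  rw [len1710] at h11
  have h12 := checkSteps_sound F iv 12 4194304 γ hiv q0 words hw steps1711 1711000 287491 287605 h11 chk1711
  rw [len1711] at h12
  have h13 := checkSteps_sound F iv 12 4194304 γ hiv q0 words hw steps1712 1712000 287605 287715 h12 chk1712
  rw [len1712] at h13
  have h14 := checkSteps_sound F iv 12 4194304 γ hiv q0 words hw steps1713 1713000 287715 287822 h13 chk1713
  rw [len1713] at h14
  have h15 := checkSteps_sound F iv 12 4194304 γ hiv q0 words hw steps1714 1714000 287822 287938 h14 chk1714
  rw [len1714] at h15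
  have h16 := checkSteps_sound F iv 12 4194304 γ hiv q0 words hw steps1715 1715000 287938 288056 h15 chk1715
  rw [len1715] at h16
  have h17 := checkSteps_sound F iv 12 4194304 γ hiv q0 words hw steps1716 1716000 288056 288168 h16 chk1716
  rw [len1716] at h17
  have h18 := checkSteps_sound F iv 12 4194304 γ hiv q0 words hw steps1717 1717000 288168 288289 h17 chk1717
  rw [len1717] at h18
  have h19 := checkSteps_sound F iv 12 4194304 γ hiv q0 words hw steps1718 1718000 288289 288401 h18 chk1718
  rw [len1718] at h19
  have h20 := checkSteps_sound F iv 12 4194304 γ hiv q0 words hw steps1719 1719000 288401 288510 h19 chk1719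
  rw [len1719] at h20
  have h21 := checkSteps_sound F iv 12 4194304 γ hiv q0 words hw steps1720 1720000 288510 288629 h20 chk1720
  rw [len1720] at h21
  have h22 := checkSteps_sound F iv 12 4194304 γ hiv q0 words hw steps1721 1721000 288629 288745 h21 chk1721
  rw [len1721] at h22
  have h23 := checkSteps_sound F iv 12 4194304 γ hiv q0 words hw steps1722 1722000 288745 288865 h22 chk1722
  rw [len1722] at h23
  have h24 := checkSteps_sound F iv 12 4194304 γ hiv q0 words hw steps1723 1723000 288865 288989 h23 chk1723
  rw [len1723] at h24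
  have h25 := checkSteps_sound F iv 12 4194304 γ hiv q0 words hw steps1724 1724000 288989 289109 h24 chk1724
  rw [len1724] at h25
  exact h25

end Cfsg.Agent.Lib.H6.FiTC
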