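import Cfsg.Agent.Lib.H6.FiTC.Steps69

set_option autoImplicit false
set_option maxRecDepth 1000000

/-! # invariant through part 69 of Fi24 (generated) -/

namespace Cfsg.Agent.Lib.H6.FiTC

open Cfsg.Agent.Lib.H17.CosetCert Cfsg.Agent.Lib.H6.TC

theorem part69 {G Q : Type} [Group G] [MulAction G Q] (γ : ℕ → G)
    (hiv : ∀ x < 12, γ (iv x) = (γ x)⁻¹) (q0 : Q) (hw : WordsOK γ q0 words)
    (h0 : Inv F 12 γ q0 1725000 289109) : Inv F 12 γ q0 1750000 292016 := by
  have h1 := checkSteps_sound F iv 12 4194304 γ hiv q0 words hw steps1725 1725000 289109 289229 h0 chk1725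
  rw [len1725] at h1
  have h2 := checkSteps_sound F iv 12 4194304 γ hiv q0 words hw steps1726 1726000 289229 289345 h1 chk1726
  rw [len1726] at h2
  have h3 := checkSteps_sound F iv 12 4194304 γ hiv q0 words hw steps1727 1727000 289345 289447 h2 chk1727
  rw [len1727] at h3
  have h4 := checkSteps_sound F iv 12 4194304 γ hiv q0 words hw steps1728 1728000 289447 289559 h3 chk1728
  rw [len1728] at h4
  have h5 := checkSteps_sound F iv 12 4194304 γ hiv q0 words hw steps1729 1729000 289559 289669 h4 chk1729
  rw [len1729] at h5
  have h6 := checkSteps_sound F iv 12 4194304 γ hiv q0 words hw steps1730 1730000 289669 289785 h5 chk1730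
  rw [len1730] at h6
  have h7 := checkSteps_sound F iv 12 4194304 γ hiv q0 words hw steps1731 1731000 289785 289903 h6 chk1731
  rw [len1731] at h7
  have h8 := checkSteps_sound F iv 12 4194304 γ hiv q0 words hw steps1732 1732000 289903 290003 h7 chk1732
  rw [len1732] at h8
  have h9 := checkSteps_sound F iv 12 4194304 γ hiv q0 words hw steps1733 1733000 290003 290105 h8 chk1733
  rw [len1733] at h9
  have h10 := checkSteps_sound F iv 12 4194304 γ hiv q0 words hw steps1734 1734000 290105 290207 h9 chk1734
  rw [len1734] at h10
  have h11 := checkSteps_sound F iv 12 4194304 γ hiv q0 words hw steps1735 1735000 290207 290320 h10 chk1735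
  rw [len1735] at h11
  have h12 := checkSteps_sound F iv 12 4194304 γ hiv q0 words hw steps1736 1736000 290320 290424 h11 chk1736
  rw [len1736] at h12
  have h13 := checkSteps_sound F iv 12 4194304 γ hiv q0 words hw steps1737 1737000 290424 290537 h12 chk1737
  rw [len1737] at h13
  have h14 := checkSteps_sound F iv 12 4194304 γ hiv q0 words hw steps1738 1738000 290537 290654 h13 chk1738
  rw [len1738] at h14
  have h15 := checkSteps_sound F iv 12 4194304 γ hiv q0 words hw steps1739 1739000 290654 290767 h14 chk1739
  rw [len1739] at h15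
  have h16 := checkSteps_sound F iv 12 4194304 γ hiv q0 words hw steps1740 1740000 290767 290889 h15 chk1740
  rw [len1740] at h16
  have h17 := checkSteps_sound F iv 12 4194304 γ hiv q0 words hw steps1741 1741000 290889 291014 h16 chk1741
  rw [len1741] at h17
  have h18 := checkSteps_sound F iv 12 4194304 γ hiv q0 words hw steps1742 1742000 291014 291132 h17 chk1742
  rw [len1742] at h18
  have h19 := checkSteps_sound F iv 12 4194304 γ hiv q0 words hw steps1743 1743000 291132 291255 h18 chk1743
  rw [len1743] at h19
  have h20 := checkSteps_sound F iv 12 4194304 γ hiv q0 words hw steps1744 1744000 291255 291380 h19 chk1744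
  rw [len1744] at h20
  have h21 := checkSteps_sound F iv 12 4194304 γ hiv q0 words hw steps1745 1745000 291380 291498 h20 chk1745
  rw [len1745] at h21
  have h22 := checkSteps_sound F iv 12 4194304 γ hiv q0 words hw steps1746 1746000 291498 291628 h21 chk1746
  rw [len1746] at h22
  have h23 := checkSteps_sound F iv 12 4194304 γ hiv q0 words hw steps1747 1747000 291628 291760 h22 chk1747
  rw [len1747] at h23
  have h24 := checkSteps_sound F iv 12 4194304 γ hiv q0 words hw steps1748 1748000 291760 291884 h23 chk1748
  rw [len1748] at h24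
  have h25 := checkSteps_sound F iv 12 4194304 γ hiv q0 words hw steps1749 1749000 291884 292016 h24 chk1749
  rw [len1749] at h25
  exact h25

end Cfsg.Agent.Lib.H6.FiTC
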