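import Cfsg.Agent.Lib.H6.FiTC.Steps7

set_option autoImplicit false
set_option maxRecDepth 1000000

/-! # invariant through part 7 of Fi24 (generated) -/

namespace Cfsg.Agent.Lib.H6.FiTC

open Cfsg.Agent.Lib.H17.CosetCert Cfsg.Agent.Lib.H6.TC

theorem part7 {G Q : Type} [Group G] [MulAction G Q] (γ : ℕ → G)
    (hiv : ∀ x < 12, γ (iv x) = (γ x)⁻¹) (q0 : Q) (hw : WordsOK γ q0 words)
    (h0 : Inv F 12 γ q0 175000 30076) : Inv F 12 γ q0 200000 34957 := by
  have h1 := checkSteps_sound F iv 12 4194304 γ hiv q0 words hw steps175 175000 30076 30231 h0 chk175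
  rw [len175] at h1
  have h2 := checkSteps_sound F iv 12 4194304 γ hiv q0 words hw steps176 176000 30231 30402 h1 chk176
  rw [len176] at h2
  have h3 := checkSteps_sound F iv 12 4194304 γ hiv q0 words hw steps177 177000 30402 30569 h2 chk177
  rw [len177] at h3
  have h4 := checkSteps_sound F iv 12 4194304 γ hiv q0 words hw steps178 178000 30569 30731 h3 chk178
  rw [len178] at h4
  have h5 := checkSteps_sound F iv 12 4194304 γ hiv q0 words hw steps179 179000 30731 30917 h4 chk179
  rw [len179] at h5
  have h6 := checkSteps_sound F iv 12 4194304 γ hiv q0 words hw steps180 180000 30917 31135 h5 chk180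
  rw [len180] at h6
  have h7 := checkSteps_sound F iv 12 4194304 γ hiv q0 words hw steps181 181000 31135 31346 h6 chk181
  rw [len181] at h7
  have h8 := checkSteps_sound F iv 12 4194304 γ hiv q0 words hw steps182 182000 31346 31569 h7 chk182
  rw [len182] at h8
  have h9 := checkSteps_sound F iv 12 4194304 γ hiv q0 words hw steps183 183000 31569 31725 h8 chk183
  rw [len183] at h9
  have h10 := checkSteps_sound F iv 12 4194304 γ hiv q0 words hw steps184 184000 31725 31910 h9 chk184
  rw [len184] at h10
  have h11 := checkSteps_sound F iv 12 4194304 γ hiv q0 words hw steps185 185000 31910 32088 h10 chk185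
  rw [len185] at h11
  have h12 := checkSteps_sound F iv 12 4194304 γ hiv q0 words hw steps186 186000 32088 32342 h11 chk186
  rw [len186] at h12
  have h13 := checkSteps_sound F iv 12 4194304 γ hiv q0 words hw steps187 187000 32342 32624 h12 chk187
  rw [len187] at h13
  have h14 := checkSteps_sound F iv 12 4194304 γ hiv q0 words hw steps188 188000 32624 32779 h13 chk188
  rw [len188] at h14
  have h15 := checkSteps_sound F iv 12 4194304 γ hiv q0 words hw steps189 189000 32779 32986 h14 chk189
  rw [len189] at h15
  have h16 := checkSteps_sound F iv 12 4194304 γ hiv q0 words hw steps190 190000 32986 33192 h15 chk190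
  rw [len190] at h16
  have h17 := checkSteps_sound F iv 12 4194304 γ hiv q0 words hw steps191 191000 33192 33369 h16 chk191
  rw [len191] at h17
  have h18 := checkSteps_sound F iv 12 4194304 γ hiv q0 words hw steps192 192000 33369 33557 h17 chk192
  rw [len192] at h18
  have h19 := checkSteps_sound F iv 12 4194304 γ hiv q0 words hw steps193 193000 33557 33748 h18 chk193
  rw [len193] at h19
  have h20 := checkSteps_sound F iv 12 4194304 γ hiv q0 words hw steps194 194000 33748 33937 h19 chk194
  rw [len194] at h20
  have h21 := checkSteps_sound F iv 12 4194304 γ hiv q0 words hw steps195 195000 33937 34132 h20 chk195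
  rw [len195] at h21
  have h22 := checkSteps_sound F iv 12 4194304 γ hiv q0 words hw steps196 196000 34132 34313 h21 chk196
  rw [len196] at h22
  have h23 := checkSteps_sound F iv 12 4194304 γ hiv q0 words hw steps197 197000 34313 34532 h22 chk197
  rw [len197] at h23
  have h24 := checkSteps_sound F iv 12 4194304 γ hiv q0 words hw steps198 198000 34532 34755 h23 chk198
  rw [len198] at h24
  have h25 := checkSteps_sound F iv 12 4194304 γ hiv q0 words hw steps199 199000 34755 34957 h24 chk199
  rw [len199] at h25
  exact h25

end Cfsg.Agent.Lib.H6.FiTC
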