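import Cfsg.Agent.Lib.H6.FiTC.Steps70

set_option autoImplicit false
set_option maxRecDepth 1000000

/-! # invariant through part 70 of Fi24 (generated) -/

namespace Cfsg.Agent.Lib.H6.FiTC

open Cfsg.Agent.Lib.H17.CosetCert Cfsg.Agent.Lib.H6.TC

theorem part70 {G Q : Type} [Group G] [MulAction G Q] (γ : ℕ → G)
    (hiv : ∀ x < 12, γ (iv x) = (γ x)⁻¹) (q0 : Q) (hw : WordsOK γ q0 words)
    (h0 : Inv F 12 γ q0 1750000 292016) : Inv F 12 γ q0 1775000 295245 := by
  have h1 := checkSteps_sound F iv 12 4194304 γ hiv q0 words hw steps1750 1750000 292016 292158 h0 chk1750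
  rw [len1750] at h1
  have h2 := checkSteps_sound F iv 12 4194304 γ hiv q0 words hw steps1751 1751000 292158 292286 h1 chk1751
  rw [len1751] at h2
  have h3 := checkSteps_sound F iv 12 4194304 γ hiv q0 words hw steps1752 1752000 292286 292402 h2 chk1752
  rw [len1752] at h3
  have h4 := checkSteps_sound F iv 12 4194304 γ hiv q0 words hw steps1753 1753000 292402 292524 h3 chk1753
  rw [len1753] at h4
  have h5 := checkSteps_sound F iv 12 4194304 γ hiv q0 words hw steps1754 1754000 292524 292643 h4 chk1754
  rw [len1754] at h5
  have h6 := checkSteps_sound F iv 12 4194304 γ hiv q0 words hw steps1755 1755000 292643 292767 h5 chk1755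
  rw [len1755] at h6
  have h7 := checkSteps_sound F iv 12 4194304 γ hiv q0 words hw steps1756 1756000 292767 292897 h6 chk1756
  rw [len1756] at h7
  have h8 := checkSteps_sound F iv 12 4194304 γ hiv q0 words hw steps1757 1757000 292897 293039 h7 chk1757
  rw [len1757] at h8
  have h9 := checkSteps_sound F iv 12 4194304 γ hiv q0 words hw steps1758 1758000 293039 293157 h8 chk1758
  rw [len1758] at h9
  have h10 := checkSteps_sound F iv 12 4194304 γ hiv q0 words hw steps1759 1759000 293157 293266 h9 chk1759
  rw [len1759] at h10
  have h11 := checkSteps_sound F iv 12 4194304 γ hiv q0 words hw steps1760 1760000 293266 293381 h10 chk1760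
  rw [len1760] at h11
  have h12 := checkSteps_sound F iv 12 4194304 γ hiv q0 words hw steps1761 1761000 293381 293511 h11 chk1761
  rw [len1761] at h12
  have h13 := checkSteps_sound F iv 12 4194304 γ hiv q0 words hw steps1762 1762000 293511 293628 h12 chk1762
  rw [len1762] at h13
  have h14 := checkSteps_sound F iv 12 4194304 γ hiv q0 words hw steps1763 1763000 293628 293754 h13 chk1763
  rw [len1763] at h14
  have h15 := checkSteps_sound F iv 12 4194304 γ hiv q0 words hw steps1764 1764000 293754 293894 h14 chk1764
  rw [len1764] at h15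
  have h16 := checkSteps_sound F iv 12 4194304 γ hiv q0 words hw steps1765 1765000 293894 294044 h15 chk1765
  rw [len1765] at h16
  have h17 := checkSteps_sound F iv 12 4194304 γ hiv q0 words hw steps1766 1766000 294044 294169 h16 chk1766
  rw [len1766] at h17
  have h18 := checkSteps_sound F iv 12 4194304 γ hiv q0 words hw steps1767 1767000 294169 294305 h17 chk1767
  rw [len1767] at h18
  have h19 := checkSteps_sound F iv 12 4194304 γ hiv q0 words hw steps1768 1768000 294305 294449 h18 chk1768
  rw [len1768] at h19
  have h20 := checkSteps_sound F iv 12 4194304 γ hiv q0 words hw steps1769 1769000 294449 294585 h19 chk1769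
  rw [len1769] at h20
  have h21 := checkSteps_sound F iv 12 4194304 γ hiv q0 words hw steps1770 1770000 294585 294729 h20 chk1770
  rw [len1770] at h21
  have h22 := checkSteps_sound F iv 12 4194304 γ hiv q0 words hw steps1771 1771000 294729 294862 h21 chk1771
  rw [len1771] at h22
  have h23 := checkSteps_sound F iv 12 4194304 γ hiv q0 words hw steps1772 1772000 294862 294992 h22 chk1772
  rw [len1772] at h23
  have h24 := checkSteps_sound F iv 12 4194304 γ hiv q0 words hw steps1773 1773000 294992 295113 h23 chk1773
  rw [len1773] at h24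
  have h25 := checkSteps_sound F iv 12 4194304 γ hiv q0 words hw steps1774 1774000 295113 295245 h24 chk1774
  rw [len1774] at h25
  exact h25

end Cfsg.Agent.Lib.H6.FiTC
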