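import Cfsg.Agent.Lib.H6.FiTC.Steps71

set_option autoImplicit false
set_option maxRecDepth 1000000

/-! # invariant through part 71 of Fi24 (generated) -/

namespace Cfsg.Agent.Lib.H6.FiTC

open Cfsg.Agent.Lib.H17.CosetCert Cfsg.Agent.Lib.H6.TC

theorem part71 {G Q : Type} [Group G] [MulAction G Q] (γ : ℕ → G)
    (hiv : ∀ x < 12, γ (iv x) = (γ x)⁻¹) (q0 : Q) (hw : WordsOK γ q0 words)
    (h0 : Inv F 12 γ q0 1775000 295245) : Inv F 12 γ q0 1800000 298827 := by
  have h1 := checkSteps_sound F iv 12 4194304 γ hiv q0 words hw steps1775 1775000 295245 295388 h0 chk1775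
  rw [len1775] at h1
  have h2 := checkSteps_sound F iv 12 4194304 γ hiv q0 words hw steps1776 1776000 295388 295522 h1 chk1776
  rw [len1776] at h2
  have h3 := checkSteps_sound F iv 12 4194304 γ hiv q0 words hw steps1777 1777000 295522 295641 h2 chk1777
  rw [len1777] at h3
  have h4 := checkSteps_sound F iv 12 4194304 γ hiv q0 words hw steps1778 1778000 295641 295773 h3 chk1778
  rw [len1778] at h4
  have h5 := checkSteps_sound F iv 12 4194304 γ hiv q0 words hw steps1779 1779000 295773 295909 h4 chk1779
  rw [len1779] at h5
  have h6 := checkSteps_sound F iv 12 4194304 γ hiv q0 words hw steps1780 1780000 295909 296070 h5 chk1780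
  rw [len1780] at h6
  have h7 := checkSteps_sound F iv 12 4194304 γ hiv q0 words hw steps1781 1781000 296070 296193 h6 chk1781
  rw [len1781] at h7
  have h8 := checkSteps_sound F iv 12 4194304 γ hiv q0 words hw steps1782 1782000 296193 296321 h7 chk1782
  rw [len1782] at h8
  have h9 := checkSteps_sound F iv 12 4194304 γ hiv q0 words hw steps1783 1783000 296321 296444 h8 chk1783
  rw [len1783] at h9
  have h10 := checkSteps_sound F iv 12 4194304 γ hiv q0 words hw steps1784 1784000 296444 296563 h9 chk1784
  rw [len1784] at h10
  have h11 := checkSteps_sound F iv 12 4194304 γ hiv q0 words hw steps1785 1785000 296563 296695 h10 chk1785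
  rw [len1785] at h11
  have h12 := checkSteps_sound F iv 12 4194304 γ hiv q0 words hw steps1786 1786000 296695 296821 h11 chk1786
  rw [len1786] at h12
  have h13 := checkSteps_sound F iv 12 4194304 γ hiv q0 words hw steps1787 1787000 296821 296951 h12 chk1787
  rw [len1787] at h13
  have h14 := checkSteps_sound F iv 12 4194304 γ hiv q0 words hw steps1788 1788000 296951 297072 h13 chk1788
  rw [len1788] at h14
  have h15 := checkSteps_sound F iv 12 4194304 γ hiv q0 words hw steps1789 1789000 297072 297185 h14 chk1789
  rw [len1789] at h15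
  have h16 := checkSteps_sound F iv 12 4194304 γ hiv q0 words hw steps1790 1790000 297185 297305 h15 chk1790
  rw [len1790] at h16
  have h17 := checkSteps_sound F iv 12 4194304 γ hiv q0 words hw steps1791 1791000 297305 297437 h16 chk1791
  rw [len1791] at h17
  have h18 := checkSteps_sound F iv 12 4194304 γ hiv q0 words hw steps1792 1792000 297437 297629 h17 chk1792
  rw [len1792] at h18
  have h19 := checkSteps_sound F iv 12 4194304 γ hiv q0 words hw steps1793 1793000 297629 297793 h18 chk1793
  rw [len1793] at h19
  have h20 := checkSteps_sound F iv 12 4194304 γ hiv q0 words hw steps1794 1794000 297793 297979 h19 chk1794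
  rw [len1794] at h20
  have h21 := checkSteps_sound F iv 12 4194304 γ hiv q0 words hw steps1795 1795000 297979 298181 h20 chk1795
  rw [len1795] at h21
  have h22 := checkSteps_sound F iv 12 4194304 γ hiv q0 words hw steps1796 1796000 298181 298317 h21 chk1796
  rw [len1796] at h22
  have h23 := checkSteps_sound F iv 12 4194304 γ hiv q0 words hw steps1797 1797000 298317 298481 h22 chk1797
  rw [len1797] at h23
  have h24 := checkSteps_sound F iv 12 4194304 γ hiv q0 words hw steps1798 1798000 298481 298643 h23 chk1798
  rw [len1798] at h24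
  have h25 := checkSteps_sound F iv 12 4194304 γ hiv q0 words hw steps1799 1799000 298643 298827 h24 chk1799
  rw [len1799] at h25
  exact h25

end Cfsg.Agent.Lib.H6.FiTC
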