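import Cfsg.Agent.Lib.H6.FiTC.Steps72

set_option autoImplicit false
set_option maxRecDepth 1000000

/-! # invariant through part 72 of Fi24 (generated) -/

namespace Cfsg.Agent.Lib.H6.FiTC

open Cfsg.Agent.Lib.H17.CosetCert Cfsg.Agent.Lib.H6.TC

theorem part72 {G Q : Type} [Group G] [MulAction G Q] (γ : ℕ → G)
    (hiv : ∀ x < 12, γ (iv x) = (γ x)⁻¹) (q0 : Q) (hw : WordsOK γ q0 words)
    (h0 : Inv F 12 γ q0 1800000 298827) : Inv F 12 γ q0 1825000 302609 := by
  have h1 := checkSteps_sound F iv 12 4194304 γ hiv q0 words hw steps1800 1800000 298827 298965 h0 chk1800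
  rw [len1800] at h1
  have h2 := checkSteps_sound F iv 12 4194304 γ hiv q0 words hw steps1801 1801000 298965 299138 h1 chk1801
  rw [len1801] at h2
  have h3 := checkSteps_sound F iv 12 4194304 γ hiv q0 words hw steps1802 1802000 299138 299277 h2 chk1802
  rw [len1802] at h3
  have h4 := checkSteps_sound F iv 12 4194304 γ hiv q0 words hw steps1803 1803000 299277 299411 h3 chk1803
  rw [len1803] at h4
  have h5 := checkSteps_sound F iv 12 4194304 γ hiv q0 words hw steps1804 1804000 299411 299552 h4 chk1804
  rw [len1804] at h5
  have h6 := checkSteps_sound F iv 12 4194304 γ hiv q0 words hw steps1805 1805000 299552 299673 h5 chk1805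
  rw [len1805] at h6
  have h7 := checkSteps_sound F iv 12 4194304 γ hiv q0 words hw steps1806 1806000 299673 299797 h6 chk1806
  rw [len1806] at h7
  have h8 := checkSteps_sound F iv 12 4194304 γ hiv q0 words hw steps1807 1807000 299797 299924 h7 chk1807
  rw [len1807] at h8
  have h9 := checkSteps_sound F iv 12 4194304 γ hiv q0 words hw steps1808 1808000 299924 300060 h8 chk1808
  rw [len1808] at h9
  have h10 := checkSteps_sound F iv 12 4194304 γ hiv q0 words hw steps1809 1809000 300060 300229 h9 chk1809
  rw [len1809] at h10
  have h11 := checkSteps_sound F iv 12 4194304 γ hiv q0 words hw steps1810 1810000 300229 300401 h10 chk1810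
  rw [len1810] at h11
  have h12 := checkSteps_sound F iv 12 4194304 γ hiv q0 words hw steps1811 1811000 300401 300569 h11 chk1811
  rw [len1811] at h12
  have h13 := checkSteps_sound F iv 12 4194304 γ hiv q0 words hw steps1812 1812000 300569 300744 h12 chk1812
  rw [len1812] at h13
  have h14 := checkSteps_sound F iv 12 4194304 γ hiv q0 words hw steps1813 1813000 300744 300895 h13 chk1813
  rw [len1813] at h14
  have h15 := checkSteps_sound F iv 12 4194304 γ hiv q0 words hw steps1814 1814000 300895 301066 h14 chk1814
  rw [len1814] at h15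
  have h16 := checkSteps_sound F iv 12 4194304 γ hiv q0 words hw steps1815 1815000 301066 301227 h15 chk1815
  rw [len1815] at h16
  have h17 := checkSteps_sound F iv 12 4194304 γ hiv q0 words hw steps1816 1816000 301227 301389 h16 chk1816
  rw [len1816] at h17
  have h18 := checkSteps_sound F iv 12 4194304 γ hiv q0 words hw steps1817 1817000 301389 301550 h17 chk1817
  rw [len1817] at h18
  have h19 := checkSteps_sound F iv 12 4194304 γ hiv q0 words hw steps1818 1818000 301550 301701 h18 chk1818
  rw [len1818] at h19
  have h20 := checkSteps_sound F iv 12 4194304 γ hiv q0 words hw steps1819 1819000 301701 301858 h19 chk1819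
  rw [len1819] at h20
  have h21 := checkSteps_sound F iv 12 4194304 γ hiv q0 words hw steps1820 1820000 301858 302019 h20 chk1820
  rw [len1820] at h21
  have h22 := checkSteps_sound F iv 12 4194304 γ hiv q0 words hw steps1821 1821000 302019 302162 h21 chk1821
  rw [len1821] at h22
  have h23 := checkSteps_sound F iv 12 4194304 γ hiv q0 words hw steps1822 1822000 302162 302300 h22 chk1822
  rw [len1822] at h23
  have h24 := checkSteps_sound F iv 12 4194304 γ hiv q0 words hw steps1823 1823000 302300 302457 h23 chk1823
  rw [len1823] at h24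
  have h25 := checkSteps_sound F iv 12 4194304 γ hiv q0 words hw steps1824 1824000 302457 302609 h24 chk1824
  rw [len1824] at h25
  exact h25

end Cfsg.Agent.Lib.H6.FiTC
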