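import Cfsg.Agent.Lib.H6.FiTC.Steps73

set_option autoImplicit false
set_option maxRecDepth 1000000

/-! # invariant through part 73 of Fi24 (generated) -/

namespace Cfsg.Agent.Lib.H6.FiTC

open Cfsg.Agent.Lib.H17.CosetCert Cfsg.Agent.Lib.H6.TC

theorem part73 {G Q : Type} [Group G] [MulAction G Q] (γ : ℕ → G)
    (hiv : ∀ x < 12, γ (iv x) = (γ x)⁻¹) (q0 : Q) (hw : WordsOK γ q0 words)
    (h0 : Inv F 12 γ q0 1825000 302609) : Inv F 12 γ q0 1850000 306679 := by
  have h1 := checkSteps_sound F iv 12 4194304 γ hiv q0 words hw steps1825 1825000 302609 302769 h0 chk1825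
  rw [len1825] at h1
  have h2 := checkSteps_sound F iv 12 4194304 γ hiv q0 words hw steps1826 1826000 302769 302919 h1 chk1826
  rw [len1826] at h2
  have h3 := checkSteps_sound F iv 12 4194304 γ hiv q0 words hw steps1827 1827000 302919 303062 h2 chk1827
  rw [len1827] at h3
  have h4 := checkSteps_sound F iv 12 4194304 γ hiv q0 words hw steps1828 1828000 303062 303190 h3 chk1828
  rw [len1828] at h4
  have h5 := checkSteps_sound F iv 12 4194304 γ hiv q0 words hw steps1829 1829000 303190 303318 h4 chk1829
  rw [len1829] at h5
  have h6 := checkSteps_sound F iv 12 4194304 γ hiv q0 words hw steps1830 1830000 303318 303450 h5 chk1830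
  rw [len1830] at h6
  have h7 := checkSteps_sound F iv 12 4194304 γ hiv q0 words hw steps1831 1831000 303450 303596 h6 chk1831
  rw [len1831] at h7
  have h8 := checkSteps_sound F iv 12 4194304 γ hiv q0 words hw steps1832 1832000 303596 303743 h7 chk1832
  rw [len1832] at h8
  have h9 := checkSteps_sound F iv 12 4194304 γ hiv q0 words hw steps1833 1833000 303743 303879 h8 chk1833
  rw [len1833] at h9
  have h10 := checkSteps_sound F iv 12 4194304 γ hiv q0 words hw steps1834 1834000 303879 304052 h9 chk1834
  rw [len1834] at h10
  have h11 := checkSteps_sound F iv 12 4194304 γ hiv q0 words hw steps1835 1835000 304052 304232 h10 chk1835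
  rw [len1835] at h11
  have h12 := checkSteps_sound F iv 12 4194304 γ hiv q0 words hw steps1836 1836000 304232 304418 h11 chk1836
  rw [len1836] at h12
  have h13 := checkSteps_sound F iv 12 4194304 γ hiv q0 words hw steps1837 1837000 304418 304585 h12 chk1837
  rw [len1837] at h13
  have h14 := checkSteps_sound F iv 12 4194304 γ hiv q0 words hw steps1838 1838000 304585 304740 h13 chk1838
  rw [len1838] at h14
  have h15 := checkSteps_sound F iv 12 4194304 γ hiv q0 words hw steps1839 1839000 304740 304907 h14 chk1839
  rw [len1839] at h15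
  have h16 := checkSteps_sound F iv 12 4194304 γ hiv q0 words hw steps1840 1840000 304907 305064 h15 chk1840
  rw [len1840] at h16
  have h17 := checkSteps_sound F iv 12 4194304 γ hiv q0 words hw steps1841 1841000 305064 305245 h16 chk1841
  rw [len1841] at h17
  have h18 := checkSteps_sound F iv 12 4194304 γ hiv q0 words hw steps1842 1842000 305245 305431 h17 chk1842
  rw [len1842] at h18
  have h19 := checkSteps_sound F iv 12 4194304 γ hiv q0 words hw steps1843 1843000 305431 305607 h18 chk1843
  rw [len1843] at h19
  have h20 := checkSteps_sound F iv 12 4194304 γ hiv q0 words hw steps1844 1844000 305607 305786 h19 chk1844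
  rw [len1844] at h20
  have h21 := checkSteps_sound F iv 12 4194304 γ hiv q0 words hw steps1845 1845000 305786 305957 h20 chk1845
  rw [len1845] at h21
  have h22 := checkSteps_sound F iv 12 4194304 γ hiv q0 words hw steps1846 1846000 305957 306130 h21 chk1846
  rw [len1846] at h22
  have h23 := checkSteps_sound F iv 12 4194304 γ hiv q0 words hw steps1847 1847000 306130 306313 h22 chk1847
  rw [len1847] at h23
  have h24 := checkSteps_sound F iv 12 4194304 γ hiv q0 words hw steps1848 1848000 306313 306499 h23 chk1848
  rw [len1848] at h24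
  have h25 := checkSteps_sound F iv 12 4194304 γ hiv q0 words hw steps1849 1849000 306499 306679 h24 chk1849
  rw [len1849] at h25
  exact h25

end Cfsg.Agent.Lib.H6.FiTC
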