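import Cfsg.Agent.Lib.H6.FiTC.Steps74

set_option autoImplicit false
set_option maxRecDepth 1000000

/-! # invariant through part 74 of Fi24 (generated) -/

namespace Cfsg.Agent.Lib.H6.FiTC

open Cfsg.Agent.Lib.H17.CosetCert Cfsg.Agent.Lib.H6.TC

theorem part74 {G Q : Type} [Group G] [MulAction G Q] (γ : ℕ → G)
    (hiv : ∀ x < 12, γ (iv x) = (γ x)⁻¹) (q0 : Q) (hw : WordsOK γ q0 words)
    (h0 : Inv F 12 γ q0 1850000 306679) : Inv F 12 γ q0 1875000 310404 := by
  have h1 := checkSteps_sound F iv 12 4194304 γ hiv q0 words hw steps1850 1850000 306679 306878 h0 chk1850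
  rw [len1850] at h1
  have h2 := checkSteps_sound F iv 12 4194304 γ hiv q0 words hw steps1851 1851000 306878 307076 h1 chk1851
  rw [len1851] at h2
  have h3 := checkSteps_sound F iv 12 4194304 γ hiv q0 words hw steps1852 1852000 307076 307284 h2 chk1852
  rw [len1852] at h3
  have h4 := checkSteps_sound F iv 12 4194304 γ hiv q0 words hw steps1853 1853000 307284 307477 h3 chk1853
  rw [len1853] at h4
  have h5 := checkSteps_sound F iv 12 4194304 γ hiv q0 words hw steps1854 1854000 307477 307665 h4 chk1854
  rw [len1854] at h5
  have h6 := checkSteps_sound F iv 12 4194304 γ hiv q0 words hw steps1855 1855000 307665 307871 h5 chk1855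
  rw [len1855] at h6
  have h7 := checkSteps_sound F iv 12 4194304 γ hiv q0 words hw steps1856 1856000 307871 308090 h6 chk1856
  rw [len1856] at h7
  have h8 := checkSteps_sound F iv 12 4194304 γ hiv q0 words hw steps1857 1857000 308090 308266 h7 chk1857
  rw [len1857] at h8
  have h9 := checkSteps_sound F iv 12 4194304 γ hiv q0 words hw steps1858 1858000 308266 308448 h8 chk1858
  rw [len1858] at h9
  have h10 := checkSteps_sound F iv 12 4194304 γ hiv q0 words hw steps1859 1859000 308448 308614 h9 chk1859
  rw [len1859] at h10
  have h11 := checkSteps_sound F iv 12 4194304 γ hiv q0 words hw steps1860 1860000 308614 308724 h10 chk1860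
  rw [len1860] at h11
  have h12 := checkSteps_sound F iv 12 4194304 γ hiv q0 words hw steps1861 1861000 308724 308844 h11 chk1861
  rw [len1861] at h12
  have h13 := checkSteps_sound F iv 12 4194304 γ hiv q0 words hw steps1862 1862000 308844 308973 h12 chk1862
  rw [len1862] at h13
  have h14 := checkSteps_sound F iv 12 4194304 γ hiv q0 words hw steps1863 1863000 308973 309105 h13 chk1863
  rw [len1863] at h14
  have h15 := checkSteps_sound F iv 12 4194304 γ hiv q0 words hw steps1864 1864000 309105 309241 h14 chk1864
  rw [len1864] at h15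
  have h16 := checkSteps_sound F iv 12 4194304 γ hiv q0 words hw steps1865 1865000 309241 309389 h15 chk1865
  rw [len1865] at h16
  have h17 := checkSteps_sound F iv 12 4194304 γ hiv q0 words hw steps1866 1866000 309389 309540 h16 chk1866
  rw [len1866] at h17
  have h18 := checkSteps_sound F iv 12 4194304 γ hiv q0 words hw steps1867 1867000 309540 309658 h17 chk1867
  rw [len1867] at h18
  have h19 := checkSteps_sound F iv 12 4194304 γ hiv q0 words hw steps1868 1868000 309658 309761 h18 chk1868
  rw [len1868] at h19
  have h20 := checkSteps_sound F iv 12 4194304 γ hiv q0 words hw steps1869 1869000 309761 309867 h19 chk1869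
  rw [len1869] at h20
  have h21 := checkSteps_sound F iv 12 4194304 γ hiv q0 words hw steps1870 1870000 309867 309970 h20 chk1870
  rw [len1870] at h21
  have h22 := checkSteps_sound F iv 12 4194304 γ hiv q0 words hw steps1871 1871000 309970 310073 h21 chk1871
  rw [len1871] at h22
  have h23 := checkSteps_sound F iv 12 4194304 γ hiv q0 words hw steps1872 1872000 310073 310185 h22 chk1872
  rw [len1872] at h23
  have h24 := checkSteps_sound F iv 12 4194304 γ hiv q0 words hw steps1873 1873000 310185 310300 h23 chk1873
  rw [len1873] at h24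
  have h25 := checkSteps_sound F iv 12 4194304 γ hiv q0 words hw steps1874 1874000 310300 310404 h24 chk1874
  rw [len1874] at h25
  exact h25

end Cfsg.Agent.Lib.H6.FiTC
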