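import Cfsg.Agent.Lib.H6.FiTC.Steps75

set_option autoImplicit false
set_option maxRecDepth 1000000

/-! # invariant through part 75 of Fi24 (generated) -/

namespace Cfsg.Agent.Lib.H6.FiTC

open Cfsg.Agent.Lib.H17.CosetCert Cfsg.Agent.Lib.H6.TC

theorem part75 {G Q : Type} [Group G] [MulAction G Q] (γ : ℕ → G)
    (hiv : ∀ x < 12, γ (iv x) = (γ x)⁻¹) (q0 : Q) (hw : WordsOK γ q0 words)
    (h0 : Inv F 12 γ q0 1875000 310404) : Inv F 12 γ q0 1900000 313045 := by
  have h1 := checkSteps_sound F iv 12 4194304 γ hiv q0 words hw steps1875 1875000 310404 310513 h0 chk1875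
  rw [len1875] at h1
  have h2 := checkSteps_sound F iv 12 4194304 γ hiv q0 words hw steps1876 1876000 310513 310624 h1 chk1876
  rw [len1876] at h2
  have h3 := checkSteps_sound F iv 12 4194304 γ hiv q0 words hw steps1877 1877000 310624 310722 h2 chk1877
  rw [len1877] at h3
  have h4 := checkSteps_sound F iv 12 4194304 γ hiv q0 words hw steps1878 1878000 310722 310830 h3 chk1878
  rw [len1878] at h4
  have h5 := checkSteps_sound F iv 12 4194304 γ hiv q0 words hw steps1879 1879000 310830 310938 h4 chk1879
  rw [len1879] at h5
  have h6 := checkSteps_sound F iv 12 4194304 γ hiv q0 words hw steps1880 1880000 310938 311044 h5 chk1880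
  rw [len1880] at h6
  have h7 := checkSteps_sound F iv 12 4194304 γ hiv q0 words hw steps1881 1881000 311044 311156 h6 chk1881
  rw [len1881] at h7
  have h8 := checkSteps_sound F iv 12 4194304 γ hiv q0 words hw steps1882 1882000 311156 311258 h7 chk1882
  rw [len1882] at h8
  have h9 := checkSteps_sound F iv 12 4194304 γ hiv q0 words hw steps1883 1883000 311258 311359 h8 chk1883
  rw [len1883] at h9
  have h10 := checkSteps_sound F iv 12 4194304 γ hiv q0 words hw steps1884 1884000 311359 311462 h9 chk1884
  rw [len1884] at h10
  have h11 := checkSteps_sound F iv 12 4194304 γ hiv q0 words hw steps1885 1885000 311462 311562 h10 chk1885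
  rw [len1885] at h11
  have h12 := checkSteps_sound F iv 12 4194304 γ hiv q0 words hw steps1886 1886000 311562 311663 h11 chk1886
  rw [len1886] at h12
  have h13 := checkSteps_sound F iv 12 4194304 γ hiv q0 words hw steps1887 1887000 311663 311774 h12 chk1887
  rw [len1887] at h13
  have h14 := checkSteps_sound F iv 12 4194304 γ hiv q0 words hw steps1888 1888000 311774 311887 h13 chk1888
  rw [len1888] at h14
  have h15 := checkSteps_sound F iv 12 4194304 γ hiv q0 words hw steps1889 1889000 311887 311989 h14 chk1889
  rw [len1889] at h15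
  have h16 := checkSteps_sound F iv 12 4194304 γ hiv q0 words hw steps1890 1890000 311989 312085 h15 chk1890
  rw [len1890] at h16
  have h17 := checkSteps_sound F iv 12 4194304 γ hiv q0 words hw steps1891 1891000 312085 312184 h16 chk1891
  rw [len1891] at h17
  have h18 := checkSteps_sound F iv 12 4194304 γ hiv q0 words hw steps1892 1892000 312184 312282 h17 chk1892
  rw [len1892] at h18
  have h19 := checkSteps_sound F iv 12 4194304 γ hiv q0 words hw steps1893 1893000 312282 312383 h18 chk1893
  rw [len1893] at h19
  have h20 := checkSteps_sound F iv 12 4194304 γ hiv q0 words hw steps1894 1894000 312383 312492 h19 chk1894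
  rw [len1894] at h20
  have h21 := checkSteps_sound F iv 12 4194304 γ hiv q0 words hw steps1895 1895000 312492 312596 h20 chk1895
  rw [len1895] at h21
  have h22 := checkSteps_sound F iv 12 4194304 γ hiv q0 words hw steps1896 1896000 312596 312708 h21 chk1896
  rw [len1896] at h22
  have h23 := checkSteps_sound F iv 12 4194304 γ hiv q0 words hw steps1897 1897000 312708 312820 h22 chk1897
  rw [len1897] at h23
  have h24 := checkSteps_sound F iv 12 4194304 γ hiv q0 words hw steps1898 1898000 312820 312933 h23 chk1898
  rw [len1898] at h24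
  have h25 := checkSteps_sound F iv 12 4194304 γ hiv q0 words hw steps1899 1899000 312933 313045 h24 chk1899
  rw [len1899] at h25
  exact h25

end Cfsg.Agent.Lib.H6.FiTC
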