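import Cfsg.Agent.Lib.H6.FiTC.Steps76

set_option autoImplicit false
set_option maxRecDepth 1000000

/-! # invariant through part 76 of Fi24 (generated) -/

namespace Cfsg.Agent.Lib.H6.FiTC

open Cfsg.Agent.Lib.H17.CosetCert Cfsg.Agent.Lib.H6.TC

theorem part76 {G Q : Type} [Group G] [MulAction G Q] (γ : ℕ → G)
    (hiv : ∀ x < 12, γ (iv x) = (γ x)⁻¹) (q0 : Q) (hw : WordsOK γ q0 words)
    (h0 : Inv F 12 γ q0 1900000 313045) : Inv F 12 γ q0 1925000 316022 := by
  have h1 := checkSteps_sound F iv 12 4194304 γ hiv q0 words hw steps1900 1900000 313045 313165 h0 chk1900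
  rw [len1900] at h1
  have h2 := checkSteps_sound F iv 12 4194304 γ hiv q0 words hw steps1901 1901000 313165 313279 h1 chk1901
  rw [len1901] at h2
  have h3 := checkSteps_sound F iv 12 4194304 γ hiv q0 words hw steps1902 1902000 313279 313388 h2 chk1902
  rw [len1902] at h3
  have h4 := checkSteps_sound F iv 12 4194304 γ hiv q0 words hw steps1903 1903000 313388 313510 h3 chk1903
  rw [len1903] at h4
  have h5 := checkSteps_sound F iv 12 4194304 γ hiv q0 words hw steps1904 1904000 313510 313630 h4 chk1904
  rw [len1904] at h5
  have h6 := checkSteps_sound F iv 12 4194304 γ hiv q0 words hw steps1905 1905000 313630 313752 h5 chk1905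
  rw [len1905] at h6
  have h7 := checkSteps_sound F iv 12 4194304 γ hiv q0 words hw steps1906 1906000 313752 313880 h6 chk1906
  rw [len1906] at h7
  have h8 := checkSteps_sound F iv 12 4194304 γ hiv q0 words hw steps1907 1907000 313880 314015 h7 chk1907
  rw [len1907] at h8
  have h9 := checkSteps_sound F iv 12 4194304 γ hiv q0 words hw steps1908 1908000 314015 314124 h8 chk1908
  rw [len1908] at h9
  have h10 := checkSteps_sound F iv 12 4194304 γ hiv q0 words hw steps1909 1909000 314124 314237 h9 chk1909
  rw [len1909] at h10
  have h11 := checkSteps_sound F iv 12 4194304 γ hiv q0 words hw steps1910 1910000 314237 314347 h10 chk1910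
  rw [len1910] at h11
  have h12 := checkSteps_sound F iv 12 4194304 γ hiv q0 words hw steps1911 1911000 314347 314464 h11 chk1911
  rw [len1911] at h12
  have h13 := checkSteps_sound F iv 12 4194304 γ hiv q0 words hw steps1912 1912000 314464 314594 h12 chk1912
  rw [len1912] at h13
  have h14 := checkSteps_sound F iv 12 4194304 γ hiv q0 words hw steps1913 1913000 314594 314718 h13 chk1913
  rw [len1913] at h14
  have h15 := checkSteps_sound F iv 12 4194304 γ hiv q0 words hw steps1914 1914000 314718 314814 h14 chk1914
  rw [len1914] at h15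
  have h16 := checkSteps_sound F iv 12 4194304 γ hiv q0 words hw steps1915 1915000 314814 314923 h15 chk1915
  rw [len1915] at h16
  have h17 := checkSteps_sound F iv 12 4194304 γ hiv q0 words hw steps1916 1916000 314923 315035 h16 chk1916
  rw [len1916] at h17
  have h18 := checkSteps_sound F iv 12 4194304 γ hiv q0 words hw steps1917 1917000 315035 315157 h17 chk1917
  rw [len1917] at h18
  have h19 := checkSteps_sound F iv 12 4194304 γ hiv q0 words hw steps1918 1918000 315157 315290 h18 chk1918
  rw [len1918] at h19
  have h20 := checkSteps_sound F iv 12 4194304 γ hiv q0 words hw steps1919 1919000 315290 315409 h19 chk1919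
  rw [len1919] at h20
  have h21 := checkSteps_sound F iv 12 4194304 γ hiv q0 words hw steps1920 1920000 315409 315528 h20 chk1920
  rw [len1920] at h21
  have h22 := checkSteps_sound F iv 12 4194304 γ hiv q0 words hw steps1921 1921000 315528 315662 h21 chk1921
  rw [len1921] at h22
  have h23 := checkSteps_sound F iv 12 4194304 γ hiv q0 words hw steps1922 1922000 315662 315778 h22 chk1922
  rw [len1922] at h23
  have h24 := checkSteps_sound F iv 12 4194304 γ hiv q0 words hw steps1923 1923000 315778 315904 h23 chk1923
  rw [len1923] at h24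
  have h25 := checkSteps_sound F iv 12 4194304 γ hiv q0 words hw steps1924 1924000 315904 316022 h24 chk1924
  rw [len1924] at h25
  exact h25

end Cfsg.Agent.Lib.H6.FiTC
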