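import Cfsg.Agent.Lib.H6.FiTC.Steps78

set_option autoImplicit false
set_option maxRecDepth 1000000

/-! # invariant through part 78 of Fi24 (generated) -/

namespace Cfsg.Agent.Lib.H6.FiTC

open Cfsg.Agent.Lib.H17.CosetCert Cfsg.Agent.Lib.H6.TC

theorem part78 {G Q : Type} [Group G] [MulAction G Q] (γ : ℕ → G)
    (hiv : ∀ x < 12, γ (iv x) = (γ x)⁻¹) (q0 : Q) (hw : WordsOK γ q0 words)
    (h0 : Inv F 12 γ q0 1950000 319339) : Inv F 12 γ q0 1975000 322952 := by
  have h1 := checkSteps_sound F iv 12 4194304 γ hiv q0 words hw steps1950 1950000 319339 319475 h0 chk1950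
  rw [len1950] at h1
  have h2 := checkSteps_sound F iv 12 4194304 γ hiv q0 words hw steps1951 1951000 319475 319597 h1 chk1951
  rw [len1951] at h2
  have h3 := checkSteps_sound F iv 12 4194304 γ hiv q0 words hw steps1952 1952000 319597 319722 h2 chk1952
  rw [len1952] at h3
  have h4 := checkSteps_sound F iv 12 4194304 γ hiv q0 words hw steps1953 1953000 319722 319873 h3 chk1953
  rw [len1953] at h4
  have h5 := checkSteps_sound F iv 12 4194304 γ hiv q0 words hw steps1954 1954000 319873 320033 h4 chk1954
  rw [len1954] at h5
  have h6 := checkSteps_sound F iv 12 4194304 γ hiv q0 words hw steps1955 1955000 320033 320192 h5 chk1955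
  rw [len1955] at h6
  have h7 := checkSteps_sound F iv 12 4194304 γ hiv q0 words hw steps1956 1956000 320192 320353 h6 chk1956
  rw [len1956] at h7
  have h8 := checkSteps_sound F iv 12 4194304 γ hiv q0 words hw steps1957 1957000 320353 320496 h7 chk1957
  rw [len1957] at h8
  have h9 := checkSteps_sound F iv 12 4194304 γ hiv q0 words hw steps1958 1958000 320496 320654 h8 chk1958
  rw [len1958] at h9
  have h10 := checkSteps_sound F iv 12 4194304 γ hiv q0 words hw steps1959 1959000 320654 320799 h9 chk1959
  rw [len1959] at h10
  have h11 := checkSteps_sound F iv 12 4194304 γ hiv q0 words hw steps1960 1960000 320799 320952 h10 chk1960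
  rw [len1960] at h11
  have h12 := checkSteps_sound F iv 12 4194304 γ hiv q0 words hw steps1961 1961000 320952 321093 h11 chk1961
  rw [len1961] at h12
  have h13 := checkSteps_sound F iv 12 4194304 γ hiv q0 words hw steps1962 1962000 321093 321253 h12 chk1962
  rw [len1962] at h13
  have h14 := checkSteps_sound F iv 12 4194304 γ hiv q0 words hw steps1963 1963000 321253 321404 h13 chk1963
  rw [len1963] at h14
  have h15 := checkSteps_sound F iv 12 4194304 γ hiv q0 words hw steps1964 1964000 321404 321540 h14 chk1964
  rw [len1964] at h15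
  have h16 := checkSteps_sound F iv 12 4194304 γ hiv q0 words hw steps1965 1965000 321540 321681 h15 chk1965
  rw [len1965] at h16
  have h17 := checkSteps_sound F iv 12 4194304 γ hiv q0 words hw steps1966 1966000 321681 321817 h16 chk1966
  rw [len1966] at h17
  have h18 := checkSteps_sound F iv 12 4194304 γ hiv q0 words hw steps1967 1967000 321817 321954 h17 chk1967
  rw [len1967] at h18
  have h19 := checkSteps_sound F iv 12 4194304 γ hiv q0 words hw steps1968 1968000 321954 322101 h18 chk1968
  rw [len1968] at h19
  have h20 := checkSteps_sound F iv 12 4194304 γ hiv q0 words hw steps1969 1969000 322101 322221 h19 chk1969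
  rw [len1969] at h20
  have h21 := checkSteps_sound F iv 12 4194304 γ hiv q0 words hw steps1970 1970000 322221 322339 h20 chk1970
  rw [len1970] at h21
  have h22 := checkSteps_sound F iv 12 4194304 γ hiv q0 words hw steps1971 1971000 322339 322473 h21 chk1971
  rw [len1971] at h22
  have h23 := checkSteps_sound F iv 12 4194304 γ hiv q0 words hw steps1972 1972000 322473 322623 h22 chk1972
  rw [len1972] at h23
  have h24 := checkSteps_sound F iv 12 4194304 γ hiv q0 words hw steps1973 1973000 322623 322785 h23 chk1973
  rw [len1973] at h24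
  have h25 := checkSteps_sound F iv 12 4194304 γ hiv q0 words hw steps1974 1974000 322785 322952 h24 chk1974
  rw [len1974] at h25
  exact h25

end Cfsg.Agent.Lib.H6.FiTC
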