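import Cfsg.Agent.Lib.H6.FiTC.Steps79

set_option autoImplicit false
set_option maxRecDepth 1000000

/-! # invariant through part 79 of Fi24 (generated) -/

namespace Cfsg.Agent.Lib.H6.FiTC

open Cfsg.Agent.Lib.H17.CosetCert Cfsg.Agent.Lib.H6.TC

theorem part79 {G Q : Type} [Group G] [MulAction G Q] (γ : ℕ → G)
    (hiv : ∀ x < 12, γ (iv x) = (γ x)⁻¹) (q0 : Q) (hw : WordsOK γ q0 words)
    (h0 : Inv F 12 γ q0 1975000 322952) : Inv F 12 γ q0 2000000 326725 := by
  have h1 := checkSteps_sound F iv 12 4194304 γ hiv q0 words hw steps1975 1975000 322952 323098 h0 chk1975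
  rw [len1975] at h1
  have h2 := checkSteps_sound F iv 12 4194304 γ hiv q0 words hw steps1976 1976000 323098 323242 h1 chk1976
  rw [len1976] at h2
  have h3 := checkSteps_sound F iv 12 4194304 γ hiv q0 words hw steps1977 1977000 323242 323388 h2 chk1977
  rw [len1977] at h3
  have h4 := checkSteps_sound F iv 12 4194304 γ hiv q0 words hw steps1978 1978000 323388 323548 h3 chk1978
  rw [len1978] at h4
  have h5 := checkSteps_sound F iv 12 4194304 γ hiv q0 words hw steps1979 1979000 323548 323701 h4 chk1979
  rw [len1979] at h5
  have h6 := checkSteps_sound F iv 12 4194304 γ hiv q0 words hw steps1980 1980000 323701 323866 h5 chk1980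
  rw [len1980] at h6
  have h7 := checkSteps_sound F iv 12 4194304 γ hiv q0 words hw steps1981 1981000 323866 324028 h6 chk1981
  rw [len1981] at h7
  have h8 := checkSteps_sound F iv 12 4194304 γ hiv q0 words hw steps1982 1982000 324028 324192 h7 chk1982
  rw [len1982] at h8
  have h9 := checkSteps_sound F iv 12 4194304 γ hiv q0 words hw steps1983 1983000 324192 324366 h8 chk1983
  rw [len1983] at h9
  have h10 := checkSteps_sound F iv 12 4194304 γ hiv q0 words hw steps1984 1984000 324366 324561 h9 chk1984
  rw [len1984] at h10
  have h11 := checkSteps_sound F iv 12 4194304 γ hiv q0 words hw steps1985 1985000 324561 324748 h10 chk1985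
  rw [len1985] at h11
  have h12 := checkSteps_sound F iv 12 4194304 γ hiv q0 words hw steps1986 1986000 324748 324919 h11 chk1986
  rw [len1986] at h12
  have h13 := checkSteps_sound F iv 12 4194304 γ hiv q0 words hw steps1987 1987000 324919 325110 h12 chk1987
  rw [len1987] at h13
  have h14 := checkSteps_sound F iv 12 4194304 γ hiv q0 words hw steps1988 1988000 325110 325318 h13 chk1988
  rw [len1988] at h14
  have h15 := checkSteps_sound F iv 12 4194304 γ hiv q0 words hw steps1989 1989000 325318 325495 h14 chk1989
  rw [len1989] at h15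
  have h16 := checkSteps_sound F iv 12 4194304 γ hiv q0 words hw steps1990 1990000 325495 325643 h15 chk1990
  rw [len1990] at h16
  have h17 := checkSteps_sound F iv 12 4194304 γ hiv q0 words hw steps1991 1991000 325643 325750 h16 chk1991
  rw [len1991] at h17
  have h18 := checkSteps_sound F iv 12 4194304 γ hiv q0 words hw steps1992 1992000 325750 325867 h17 chk1992
  rw [len1992] at h18
  have h19 := checkSteps_sound F iv 12 4194304 γ hiv q0 words hw steps1993 1993000 325867 325993 h18 chk1993
  rw [len1993] at h19
  have h20 := checkSteps_sound F iv 12 4194304 γ hiv q0 words hw steps1994 1994000 325993 326120 h19 chk1994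
  rw [len1994] at h20
  have h21 := checkSteps_sound F iv 12 4194304 γ hiv q0 words hw steps1995 1995000 326120 326256 h20 chk1995
  rw [len1995] at h21
  have h22 := checkSteps_sound F iv 12 4194304 γ hiv q0 words hw steps1996 1996000 326256 326394 h21 chk1996
  rw [len1996] at h22
  have h23 := checkSteps_sound F iv 12 4194304 γ hiv q0 words hw steps1997 1997000 326394 326539 h22 chk1997
  rw [len1997] at h23
  have h24 := checkSteps_sound F iv 12 4194304 γ hiv q0 words hw steps1998 1998000 326539 326634 h23 chk1998
  rw [len1998] at h24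
  have h25 := checkSteps_sound F iv 12 4194304 γ hiv q0 words hw steps1999 1999000 326634 326725 h24 chk1999
  rw [len1999] at h25
  exact h25

end Cfsg.Agent.Lib.H6.FiTC
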