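import Cfsg.Agent.Lib.H6.FiTC.Steps8

set_option autoImplicit false
set_option maxRecDepth 1000000

/-! # invariant through part 8 of Fi24 (generated) -/

namespace Cfsg.Agent.Lib.H6.FiTC

open Cfsg.Agent.Lib.H17.CosetCert Cfsg.Agent.Lib.H6.TC

theorem part8 {G Q : Type} [Group G] [MulAction G Q] (γ : ℕ → G)
    (hiv : ∀ x < 12, γ (iv x) = (γ x)⁻¹) (q0 : Q) (hw : WordsOK γ q0 words)
    (h0 : Inv F 12 γ q0 200000 34957) : Inv F 12 γ q0 225000 40381 := by
  have h1 := checkSteps_sound F iv 12 4194304 γ hiv q0 words hw steps200 200000 34957 35190 h0 chk200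
  rw [len200] at h1
  have h2 := checkSteps_sound F iv 12 4194304 γ hiv q0 words hw steps201 201000 35190 35412 h1 chk201
  rw [len201] at h2
  have h3 := checkSteps_sound F iv 12 4194304 γ hiv q0 words hw steps202 202000 35412 35685 h2 chk202
  rw [len202] at h3
  have h4 := checkSteps_sound F iv 12 4194304 γ hiv q0 words hw steps203 203000 35685 35911 h3 chk203
  rw [len203] at h4
  have h5 := checkSteps_sound F iv 12 4194304 γ hiv q0 words hw steps204 204000 35911 36131 h4 chk204
  rw [len204] at h5
  have h6 := checkSteps_sound F iv 12 4194304 γ hiv q0 words hw steps205 205000 36131 36336 h5 chk205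
  rw [len205] at h6
  have h7 := checkSteps_sound F iv 12 4194304 γ hiv q0 words hw steps206 206000 36336 36581 h6 chk206
  rw [len206] at h7
  have h8 := checkSteps_sound F iv 12 4194304 γ hiv q0 words hw steps207 207000 36581 36896 h7 chk207
  rw [len207] at h8
  have h9 := checkSteps_sound F iv 12 4194304 γ hiv q0 words hw steps208 208000 36896 37224 h8 chk208
  rw [len208] at h9
  have h10 := checkSteps_sound F iv 12 4194304 γ hiv q0 words hw steps209 209000 37224 37542 h9 chk209
  rw [len209] at h10
  have h11 := checkSteps_sound F iv 12 4194304 γ hiv q0 words hw steps210 210000 37542 37751 h10 chk210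
  rw [len210] at h11
  have h12 := checkSteps_sound F iv 12 4194304 γ hiv q0 words hw steps211 211000 37751 37885 h11 chk211
  rw [len211] at h12
  have h13 := checkSteps_sound F iv 12 4194304 γ hiv q0 words hw steps212 212000 37885 38049 h12 chk212
  rw [len212] at h13
  have h14 := checkSteps_sound F iv 12 4194304 γ hiv q0 words hw steps213 213000 38049 38203 h13 chk213
  rw [len213] at h14
  have h15 := checkSteps_sound F iv 12 4194304 γ hiv q0 words hw steps214 214000 38203 38354 h14 chk214
  rw [len214] at h15
  have h16 := checkSteps_sound F iv 12 4194304 γ hiv q0 words hw steps215 215000 38354 38545 h15 chk215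
  rw [len215] at h16
  have h17 := checkSteps_sound F iv 12 4194304 γ hiv q0 words hw steps216 216000 38545 38799 h16 chk216
  rw [len216] at h17
  have h18 := checkSteps_sound F iv 12 4194304 γ hiv q0 words hw steps217 217000 38799 39072 h17 chk217
  rw [len217] at h18
  have h19 := checkSteps_sound F iv 12 4194304 γ hiv q0 words hw steps218 218000 39072 39256 h18 chk218
  rw [len218] at h19
  have h20 := checkSteps_sound F iv 12 4194304 γ hiv q0 words hw steps219 219000 39256 39448 h19 chk219
  rw [len219] at h20
  have h21 := checkSteps_sound F iv 12 4194304 γ hiv q0 words hw steps220 220000 39448 39801 h20 chk220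
  rw [len220] at h21
  have h22 := checkSteps_sound F iv 12 4194304 γ hiv q0 words hw steps221 221000 39801 39933 h21 chk221
  rw [len221] at h22
  have h23 := checkSteps_sound F iv 12 4194304 γ hiv q0 words hw steps222 222000 39933 40067 h22 chk222
  rw [len222] at h23
  have h24 := checkSteps_sound F iv 12 4194304 γ hiv q0 words hw steps223 223000 40067 40229 h23 chk223
  rw [len223] at h24
  have h25 := checkSteps_sound F iv 12 4194304 γ hiv q0 words hw steps224 224000 40229 40381 h24 chk224
  rw [len224] at h25
  exact h25

end Cfsg.Agent.Lib.H6.FiTC
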