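import Cfsg.Agent.Lib.H6.FiTC.Steps80

set_option autoImplicit false
set_option maxRecDepth 1000000

/-! # invariant through part 80 of Fi24 (generated) -/

namespace Cfsg.Agent.Lib.H6.FiTC

open Cfsg.Agent.Lib.H17.CosetCert Cfsg.Agent.Lib.H6.TC

theorem part80 {G Q : Type} [Group G] [MulAction G Q] (γ : ℕ → G)
    (hiv : ∀ x < 12, γ (iv x) = (γ x)⁻¹) (q0 : Q) (hw : WordsOK γ q0 words)
    (h0 : Inv F 12 γ q0 2000000 326725) : Inv F 12 γ q0 2025000 329265 := by
  have h1 := checkSteps_sound F iv 12 4194304 γ hiv q0 words hw steps2000 2000000 326725 326819 h0 chk2000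
  rw [len2000] at h1
  have h2 := checkSteps_sound F iv 12 4194304 γ hiv q0 words hw steps2001 2001000 326819 326921 h1 chk2001
  rw [len2001] at h2
  have h3 := checkSteps_sound F iv 12 4194304 γ hiv q0 words hw steps2002 2002000 326921 327026 h2 chk2002
  rw [len2002] at h3
  have h4 := checkSteps_sound F iv 12 4194304 γ hiv q0 words hw steps2003 2003000 327026 327136 h3 chk2003
  rw [len2003] at h4
  have h5 := checkSteps_sound F iv 12 4194304 γ hiv q0 words hw steps2004 2004000 327136 327242 h4 chk2004
  rw [len2004] at h5
  have h6 := checkSteps_sound F iv 12 4194304 γ hiv q0 words hw steps2005 2005000 327242 327349 h5 chk2005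
  rw [len2005] at h6
  have h7 := checkSteps_sound F iv 12 4194304 γ hiv q0 words hw steps2006 2006000 327349 327442 h6 chk2006
  rw [len2006] at h7
  have h8 := checkSteps_sound F iv 12 4194304 γ hiv q0 words hw steps2007 2007000 327442 327545 h7 chk2007
  rw [len2007] at h8
  have h9 := checkSteps_sound F iv 12 4194304 γ hiv q0 words hw steps2008 2008000 327545 327638 h8 chk2008
  rw [len2008] at h9
  have h10 := checkSteps_sound F iv 12 4194304 γ hiv q0 words hw steps2009 2009000 327638 327741 h9 chk2009
  rw [len2009] at h10
  have h11 := checkSteps_sound F iv 12 4194304 γ hiv q0 words hw steps2010 2010000 327741 327841 h10 chk2010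
  rw [len2010] at h11
  have h12 := checkSteps_sound F iv 12 4194304 γ hiv q0 words hw steps2011 2011000 327841 327940 h11 chk2011
  rw [len2011] at h12
  have h13 := checkSteps_sound F iv 12 4194304 γ hiv q0 words hw steps2012 2012000 327940 328043 h12 chk2012
  rw [len2012] at h13
  have h14 := checkSteps_sound F iv 12 4194304 γ hiv q0 words hw steps2013 2013000 328043 328144 h13 chk2013
  rw [len2013] at h14
  have h15 := checkSteps_sound F iv 12 4194304 γ hiv q0 words hw steps2014 2014000 328144 328247 h14 chk2014
  rw [len2014] at h15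
  have h16 := checkSteps_sound F iv 12 4194304 γ hiv q0 words hw steps2015 2015000 328247 328345 h15 chk2015
  rw [len2015] at h16
  have h17 := checkSteps_sound F iv 12 4194304 γ hiv q0 words hw steps2016 2016000 328345 328444 h16 chk2016
  rw [len2016] at h17
  have h18 := checkSteps_sound F iv 12 4194304 γ hiv q0 words hw steps2017 2017000 328444 328542 h17 chk2017
  rw [len2017] at h18
  have h19 := checkSteps_sound F iv 12 4194304 γ hiv q0 words hw steps2018 2018000 328542 328638 h18 chk2018
  rw [len2018] at h19
  have h20 := checkSteps_sound F iv 12 4194304 γ hiv q0 words hw steps2019 2019000 328638 328735 h19 chk2019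
  rw [len2019] at h20
  have h21 := checkSteps_sound F iv 12 4194304 γ hiv q0 words hw steps2020 2020000 328735 328836 h20 chk2020
  rw [len2020] at h21
  have h22 := checkSteps_sound F iv 12 4194304 γ hiv q0 words hw steps2021 2021000 328836 328935 h21 chk2021
  rw [len2021] at h22
  have h23 := checkSteps_sound F iv 12 4194304 γ hiv q0 words hw steps2022 2022000 328935 329048 h22 chk2022
  rw [len2022] at h23
  have h24 := checkSteps_sound F iv 12 4194304 γ hiv q0 words hw steps2023 2023000 329048 329152 h23 chk2023
  rw [len2023] at h24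
  have h25 := checkSteps_sound F iv 12 4194304 γ hiv q0 words hw steps2024 2024000 329152 329265 h24 chk2024
  rw [len2024] at h25
  exact h25

end Cfsg.Agent.Lib.H6.FiTC
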