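import Cfsg.Agent.Lib.H6.FiTC.Steps81

set_option autoImplicit false
set_option maxRecDepth 1000000

/-! # invariant through part 81 of Fi24 (generated) -/

namespace Cfsg.Agent.Lib.H6.FiTC

open Cfsg.Agent.Lib.H17.CosetCert Cfsg.Agent.Lib.H6.TC

theorem part81 {G Q : Type} [Group G] [MulAction G Q] (γ : ℕ → G)
    (hiv : ∀ x < 12, γ (iv x) = (γ x)⁻¹) (q0 : Q) (hw : WordsOK γ q0 words)
    (h0 : Inv F 12 γ q0 2025000 329265) : Inv F 12 γ q0 2050000 332141 := by
  have h1 := checkSteps_sound F iv 12 4194304 γ hiv q0 words hw steps2025 2025000 329265 329377 h0 chk2025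
  rw [len2025] at h1
  have h2 := checkSteps_sound F iv 12 4194304 γ hiv q0 words hw steps2026 2026000 329377 329489 h1 chk2026
  rw [len2026] at h2
  have h3 := checkSteps_sound F iv 12 4194304 γ hiv q0 words hw steps2027 2027000 329489 329613 h2 chk2027
  rw [len2027] at h3
  have h4 := checkSteps_sound F iv 12 4194304 γ hiv q0 words hw steps2028 2028000 329613 329732 h3 chk2028
  rw [len2028] at h4
  have h5 := checkSteps_sound F iv 12 4194304 γ hiv q0 words hw steps2029 2029000 329732 329840 h4 chk2029
  rw [len2029] at h5
  have h6 := checkSteps_sound F iv 12 4194304 γ hiv q0 words hw steps2030 2030000 329840 329950 h5 chk2030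
  rw [len2030] at h6
  have h7 := checkSteps_sound F iv 12 4194304 γ hiv q0 words hw steps2031 2031000 329950 330067 h6 chk2031
  rw [len2031] at h7
  have h8 := checkSteps_sound F iv 12 4194304 γ hiv q0 words hw steps2032 2032000 330067 330183 h7 chk2032
  rw [len2032] at h8
  have h9 := checkSteps_sound F iv 12 4194304 γ hiv q0 words hw steps2033 2033000 330183 330289 h8 chk2033
  rw [len2033] at h9
  have h10 := checkSteps_sound F iv 12 4194304 γ hiv q0 words hw steps2034 2034000 330289 330403 h9 chk2034
  rw [len2034] at h10
  have h11 := checkSteps_sound F iv 12 4194304 γ hiv q0 words hw steps2035 2035000 330403 330519 h10 chk2035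
  rw [len2035] at h11
  have h12 := checkSteps_sound F iv 12 4194304 γ hiv q0 words hw steps2036 2036000 330519 330637 h11 chk2036
  rw [len2036] at h12
  have h13 := checkSteps_sound F iv 12 4194304 γ hiv q0 words hw steps2037 2037000 330637 330751 h12 chk2037
  rw [len2037] at h13
  have h14 := checkSteps_sound F iv 12 4194304 γ hiv q0 words hw steps2038 2038000 330751 330870 h13 chk2038
  rw [len2038] at h14
  have h15 := checkSteps_sound F iv 12 4194304 γ hiv q0 words hw steps2039 2039000 330870 330989 h14 chk2039
  rw [len2039] at h15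
  have h16 := checkSteps_sound F iv 12 4194304 γ hiv q0 words hw steps2040 2040000 330989 331100 h15 chk2040
  rw [len2040] at h16
  have h17 := checkSteps_sound F iv 12 4194304 γ hiv q0 words hw steps2041 2041000 331100 331221 h16 chk2041
  rw [len2041] at h17
  have h18 := checkSteps_sound F iv 12 4194304 γ hiv q0 words hw steps2042 2042000 331221 331341 h17 chk2042
  rw [len2042] at h18
  have h19 := checkSteps_sound F iv 12 4194304 γ hiv q0 words hw steps2043 2043000 331341 331454 h18 chk2043
  rw [len2043] at h19
  have h20 := checkSteps_sound F iv 12 4194304 γ hiv q0 words hw steps2044 2044000 331454 331562 h19 chk2044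
  rw [len2044] at h20
  have h21 := checkSteps_sound F iv 12 4194304 γ hiv q0 words hw steps2045 2045000 331562 331674 h20 chk2045
  rw [len2045] at h21
  have h22 := checkSteps_sound F iv 12 4194304 γ hiv q0 words hw steps2046 2046000 331674 331786 h21 chk2046
  rw [len2046] at h22
  have h23 := checkSteps_sound F iv 12 4194304 γ hiv q0 words hw steps2047 2047000 331786 331902 h22 chk2047
  rw [len2047] at h23
  have h24 := checkSteps_sound F iv 12 4194304 γ hiv q0 words hw steps2048 2048000 331902 332015 h23 chk2048
  rw [len2048] at h24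
  have h25 := checkSteps_sound F iv 12 4194304 γ hiv q0 words hw steps2049 2049000 332015 332141 h24 chk2049
  rw [len2049] at h25
  exact h25

end Cfsg.Agent.Lib.H6.FiTC
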