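import Cfsg.Agent.Lib.H6.FiTC.Steps82

set_option autoImplicit false
set_option maxRecDepth 1000000

/-! # invariant through part 82 of Fi24 (generated) -/

namespace Cfsg.Agent.Lib.H6.FiTC

open Cfsg.Agent.Lib.H17.CosetCert Cfsg.Agent.Lib.H6.TC

theorem part82 {G Q : Type} [Group G] [MulAction G Q] (γ : ℕ → G)
    (hiv : ∀ x < 12, γ (iv x) = (γ x)⁻¹) (q0 : Q) (hw : WordsOK γ q0 words)
    (h0 : Inv F 12 γ q0 2050000 332141) : Inv F 12 γ q0 2075000 335663 := by
  have h1 := checkSteps_sound F iv 12 4194304 γ hiv q0 words hw steps2050 2050000 332141 332324 h0 chk2050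
  rw [len2050] at h1
  have h2 := checkSteps_sound F iv 12 4194304 γ hiv q0 words hw steps2051 2051000 332324 332478 h1 chk2051
  rw [len2051] at h2
  have h3 := checkSteps_sound F iv 12 4194304 γ hiv q0 words hw steps2052 2052000 332478 332649 h2 chk2052
  rw [len2052] at h3
  have h4 := checkSteps_sound F iv 12 4194304 γ hiv q0 words hw steps2053 2053000 332649 332795 h3 chk2053
  rw [len2053] at h4
  have h5 := checkSteps_sound F iv 12 4194304 γ hiv q0 words hw steps2054 2054000 332795 332925 h4 chk2054
  rw [len2054] at h5
  have h6 := checkSteps_sound F iv 12 4194304 γ hiv q0 words hw steps2055 2055000 332925 333047 h5 chk2055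
  rw [len2055] at h6
  have h7 := checkSteps_sound F iv 12 4194304 γ hiv q0 words hw steps2056 2056000 333047 333173 h6 chk2056
  rw [len2056] at h7
  have h8 := checkSteps_sound F iv 12 4194304 γ hiv q0 words hw steps2057 2057000 333173 333288 h7 chk2057
  rw [len2057] at h8
  have h9 := checkSteps_sound F iv 12 4194304 γ hiv q0 words hw steps2058 2058000 333288 333436 h8 chk2058
  rw [len2058] at h9
  have h10 := checkSteps_sound F iv 12 4194304 γ hiv q0 words hw steps2059 2059000 333436 333587 h9 chk2059
  rw [len2059] at h10
  have h11 := checkSteps_sound F iv 12 4194304 γ hiv q0 words hw steps2060 2060000 333587 333738 h10 chk2060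
  rw [len2060] at h11
  have h12 := checkSteps_sound F iv 12 4194304 γ hiv q0 words hw steps2061 2061000 333738 333888 h11 chk2061
  rw [len2061] at h12
  have h13 := checkSteps_sound F iv 12 4194304 γ hiv q0 words hw steps2062 2062000 333888 334026 h12 chk2062
  rw [len2062] at h13
  have h14 := checkSteps_sound F iv 12 4194304 γ hiv q0 words hw steps2063 2063000 334026 334165 h13 chk2063
  rw [len2063] at h14
  have h15 := checkSteps_sound F iv 12 4194304 γ hiv q0 words hw steps2064 2064000 334165 334309 h14 chk2064
  rw [len2064] at h15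
  have h16 := checkSteps_sound F iv 12 4194304 γ hiv q0 words hw steps2065 2065000 334309 334445 h15 chk2065
  rw [len2065] at h16
  have h17 := checkSteps_sound F iv 12 4194304 γ hiv q0 words hw steps2066 2066000 334445 334571 h16 chk2066
  rw [len2066] at h17
  have h18 := checkSteps_sound F iv 12 4194304 γ hiv q0 words hw steps2067 2067000 334571 334696 h17 chk2067
  rw [len2067] at h18
  have h19 := checkSteps_sound F iv 12 4194304 γ hiv q0 words hw steps2068 2068000 334696 334837 h18 chk2068
  rw [len2068] at h19
  have h20 := checkSteps_sound F iv 12 4194304 γ hiv q0 words hw steps2069 2069000 334837 334956 h19 chk2069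
  rw [len2069] at h20
  have h21 := checkSteps_sound F iv 12 4194304 γ hiv q0 words hw steps2070 2070000 334956 335089 h20 chk2070
  rw [len2070] at h21
  have h22 := checkSteps_sound F iv 12 4194304 γ hiv q0 words hw steps2071 2071000 335089 335242 h21 chk2071
  rw [len2071] at h22
  have h23 := checkSteps_sound F iv 12 4194304 γ hiv q0 words hw steps2072 2072000 335242 335373 h22 chk2072
  rw [len2072] at h23
  have h24 := checkSteps_sound F iv 12 4194304 γ hiv q0 words hw steps2073 2073000 335373 335511 h23 chk2073
  rw [len2073] at h24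
  have h25 := checkSteps_sound F iv 12 4194304 γ hiv q0 words hw steps2074 2074000 335511 335663 h24 chk2074
  rw [len2074] at h25
  exact h25

end Cfsg.Agent.Lib.H6.FiTC
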