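import Cfsg.Agent.Lib.H6.FiTC.Steps83

set_option autoImplicit false
set_option maxRecDepth 1000000

/-! # invariant through part 83 of Fi24 (generated) -/

namespace Cfsg.Agent.Lib.H6.FiTC

open Cfsg.Agent.Lib.H17.CosetCert Cfsg.Agent.Lib.H6.TC

theorem part83 {G Q : Type} [Group G] [MulAction G Q] (γ : ℕ → G)
    (hiv : ∀ x < 12, γ (iv x) = (γ x)⁻¹) (q0 : Q) (hw : WordsOK γ q0 words)
    (h0 : Inv F 12 γ q0 2075000 335663) : Inv F 12 γ q0 2100000 338641 := by
  have h1 := checkSteps_sound F iv 12 4194304 γ hiv q0 words hw steps2075 2075000 335663 335822 h0 chk2075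
  rw [len2075] at h1
  have h2 := checkSteps_sound F iv 12 4194304 γ hiv q0 words hw steps2076 2076000 335822 336004 h1 chk2076
  rw [len2076] at h2
  have h3 := checkSteps_sound F iv 12 4194304 γ hiv q0 words hw steps2077 2077000 336004 336168 h2 chk2077
  rw [len2077] at h3
  have h4 := checkSteps_sound F iv 12 4194304 γ hiv q0 words hw steps2078 2078000 336168 336354 h3 chk2078
  rw [len2078] at h4
  have h5 := checkSteps_sound F iv 12 4194304 γ hiv q0 words hw steps2079 2079000 336354 336526 h4 chk2079
  rw [len2079] at h5
  have h6 := checkSteps_sound F iv 12 4194304 γ hiv q0 words hw steps2080 2080000 336526 336650 h5 chk2080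
  rw [len2080] at h6
  have h7 := checkSteps_sound F iv 12 4194304 γ hiv q0 words hw steps2081 2081000 336650 336754 h6 chk2081
  rw [len2081] at h7
  have h8 := checkSteps_sound F iv 12 4194304 γ hiv q0 words hw steps2082 2082000 336754 336873 h7 chk2082
  rw [len2082] at h8
  have h9 := checkSteps_sound F iv 12 4194304 γ hiv q0 words hw steps2083 2083000 336873 336999 h8 chk2083
  rw [len2083] at h9
  have h10 := checkSteps_sound F iv 12 4194304 γ hiv q0 words hw steps2084 2084000 336999 337122 h9 chk2084
  rw [len2084] at h10
  have h11 := checkSteps_sound F iv 12 4194304 γ hiv q0 words hw steps2085 2085000 337122 337260 h10 chk2085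
  rw [len2085] at h11
  have h12 := checkSteps_sound F iv 12 4194304 γ hiv q0 words hw steps2086 2086000 337260 337377 h11 chk2086
  rw [len2086] at h12
  have h13 := checkSteps_sound F iv 12 4194304 γ hiv q0 words hw steps2087 2087000 337377 337466 h12 chk2087
  rw [len2087] at h13
  have h14 := checkSteps_sound F iv 12 4194304 γ hiv q0 words hw steps2088 2088000 337466 337565 h13 chk2088
  rw [len2088] at h14
  have h15 := checkSteps_sound F iv 12 4194304 γ hiv q0 words hw steps2089 2089000 337565 337666 h14 chk2089
  rw [len2089] at h15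
  have h16 := checkSteps_sound F iv 12 4194304 γ hiv q0 words hw steps2090 2090000 337666 337768 h15 chk2090
  rw [len2090] at h16
  have h17 := checkSteps_sound F iv 12 4194304 γ hiv q0 words hw steps2091 2091000 337768 337865 h16 chk2091
  rw [len2091] at h17
  have h18 := checkSteps_sound F iv 12 4194304 γ hiv q0 words hw steps2092 2092000 337865 337963 h17 chk2092
  rw [len2092] at h18
  have h19 := checkSteps_sound F iv 12 4194304 γ hiv q0 words hw steps2093 2093000 337963 338059 h18 chk2093
  rw [len2093] at h19
  have h20 := checkSteps_sound F iv 12 4194304 γ hiv q0 words hw steps2094 2094000 338059 338155 h19 chk2094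
  rw [len2094] at h20
  have h21 := checkSteps_sound F iv 12 4194304 γ hiv q0 words hw steps2095 2095000 338155 338252 h20 chk2095
  rw [len2095] at h21
  have h22 := checkSteps_sound F iv 12 4194304 γ hiv q0 words hw steps2096 2096000 338252 338349 h21 chk2096
  rw [len2096] at h22
  have h23 := checkSteps_sound F iv 12 4194304 γ hiv q0 words hw steps2097 2097000 338349 338445 h22 chk2097
  rw [len2097] at h23
  have h24 := checkSteps_sound F iv 12 4194304 γ hiv q0 words hw steps2098 2098000 338445 338544 h23 chk2098
  rw [len2098] at h24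
  have h25 := checkSteps_sound F iv 12 4194304 γ hiv q0 words hw steps2099 2099000 338544 338641 h24 chk2099
  rw [len2099] at h25
  exact h25

end Cfsg.Agent.Lib.H6.FiTC
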