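import Cfsg.Agent.Lib.H6.FiTC.Steps84

set_option autoImplicit false
set_option maxRecDepth 1000000

/-! # invariant through part 84 of Fi24 (generated) -/

namespace Cfsg.Agent.Lib.H6.FiTC

open Cfsg.Agent.Lib.H17.CosetCert Cfsg.Agent.Lib.H6.TC

theorem part84 {G Q : Type} [Group G] [MulAction G Q] (γ : ℕ → G)
    (hiv : ∀ x < 12, γ (iv x) = (γ x)⁻¹) (q0 : Q) (hw : WordsOK γ q0 words)
    (h0 : Inv F 12 γ q0 2100000 338641) : Inv F 12 γ q0 2125000 341592 := by
  have h1 := checkSteps_sound F iv 12 4194304 γ hiv q0 words hw steps2100 2100000 338641 338742 h0 chk2100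
  rw [len2100] at h1
  have h2 := checkSteps_sound F iv 12 4194304 γ hiv q0 words hw steps2101 2101000 338742 338851 h1 chk2101
  rw [len2101] at h2
  have h3 := checkSteps_sound F iv 12 4194304 γ hiv q0 words hw steps2102 2102000 338851 338956 h2 chk2102
  rw [len2102] at h3
  have h4 := checkSteps_sound F iv 12 4194304 γ hiv q0 words hw steps2103 2103000 338956 339060 h3 chk2103
  rw [len2103] at h4
  have h5 := checkSteps_sound F iv 12 4194304 γ hiv q0 words hw steps2104 2104000 339060 339185 h4 chk2104
  rw [len2104] at h5
  have h6 := checkSteps_sound F iv 12 4194304 γ hiv q0 words hw steps2105 2105000 339185 339287 h5 chk2105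
  rw [len2105] at h6
  have h7 := checkSteps_sound F iv 12 4194304 γ hiv q0 words hw steps2106 2106000 339287 339408 h6 chk2106
  rw [len2106] at h7
  have h8 := checkSteps_sound F iv 12 4194304 γ hiv q0 words hw steps2107 2107000 339408 339514 h7 chk2107
  rw [len2107] at h8
  have h9 := checkSteps_sound F iv 12 4194304 γ hiv q0 words hw steps2108 2108000 339514 339624 h8 chk2108
  rw [len2108] at h9
  have h10 := checkSteps_sound F iv 12 4194304 γ hiv q0 words hw steps2109 2109000 339624 339735 h9 chk2109
  rw [len2109] at h10
  have h11 := checkSteps_sound F iv 12 4194304 γ hiv q0 words hw steps2110 2110000 339735 339847 h10 chk2110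
  rw [len2110] at h11
  have h12 := checkSteps_sound F iv 12 4194304 γ hiv q0 words hw steps2111 2111000 339847 339955 h11 chk2111
  rw [len2111] at h12
  have h13 := checkSteps_sound F iv 12 4194304 γ hiv q0 words hw steps2112 2112000 339955 340064 h12 chk2112
  rw [len2112] at h13
  have h14 := checkSteps_sound F iv 12 4194304 γ hiv q0 words hw steps2113 2113000 340064 340170 h13 chk2113
  rw [len2113] at h14
  have h15 := checkSteps_sound F iv 12 4194304 γ hiv q0 words hw steps2114 2114000 340170 340276 h14 chk2114
  rw [len2114] at h15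
  have h16 := checkSteps_sound F iv 12 4194304 γ hiv q0 words hw steps2115 2115000 340276 340384 h15 chk2115
  rw [len2115] at h16
  have h17 := checkSteps_sound F iv 12 4194304 γ hiv q0 words hw steps2116 2116000 340384 340494 h16 chk2116
  rw [len2116] at h17
  have h18 := checkSteps_sound F iv 12 4194304 γ hiv q0 words hw steps2117 2117000 340494 340615 h17 chk2117
  rw [len2117] at h18
  have h19 := checkSteps_sound F iv 12 4194304 γ hiv q0 words hw steps2118 2118000 340615 340777 h18 chk2118
  rw [len2118] at h19
  have h20 := checkSteps_sound F iv 12 4194304 γ hiv q0 words hw steps2119 2119000 340777 340936 h19 chk2119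
  rw [len2119] at h20
  have h21 := checkSteps_sound F iv 12 4194304 γ hiv q0 words hw steps2120 2120000 340936 341063 h20 chk2120
  rw [len2120] at h21
  have h22 := checkSteps_sound F iv 12 4194304 γ hiv q0 words hw steps2121 2121000 341063 341182 h21 chk2121
  rw [len2121] at h22
  have h23 := checkSteps_sound F iv 12 4194304 γ hiv q0 words hw steps2122 2122000 341182 341313 h22 chk2122
  rw [len2122] at h23
  have h24 := checkSteps_sound F iv 12 4194304 γ hiv q0 words hw steps2123 2123000 341313 341451 h23 chk2123
  rw [len2123] at h24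
  have h25 := checkSteps_sound F iv 12 4194304 γ hiv q0 words hw steps2124 2124000 341451 341592 h24 chk2124
  rw [len2124] at h25
  exact h25

end Cfsg.Agent.Lib.H6.FiTC
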