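import Cfsg.Agent.Lib.H6.FiTC.Steps85

set_option autoImplicit false
set_option maxRecDepth 1000000

/-! # invariant through part 85 of Fi24 (generated) -/

namespace Cfsg.Agent.Lib.H6.FiTC

open Cfsg.Agent.Lib.H17.CosetCert Cfsg.Agent.Lib.H6.TC

theorem part85 {G Q : Type} [Group G] [MulAction G Q] (γ : ℕ → G)
    (hiv : ∀ x < 12, γ (iv x) = (γ x)⁻¹) (q0 : Q) (hw : WordsOK γ q0 words)
    (h0 : Inv F 12 γ q0 2125000 341592) : Inv F 12 γ q0 2150000 344487 := by
  have h1 := checkSteps_sound F iv 12 4194304 γ hiv q0 words hw steps2125 2125000 341592 341723 h0 chk2125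
  rw [len2125] at h1
  have h2 := checkSteps_sound F iv 12 4194304 γ hiv q0 words hw steps2126 2126000 341723 341856 h1 chk2126
  rw [len2126] at h2
  have h3 := checkSteps_sound F iv 12 4194304 γ hiv q0 words hw steps2127 2127000 341856 341986 h2 chk2127
  rw [len2127] at h3
  have h4 := checkSteps_sound F iv 12 4194304 γ hiv q0 words hw steps2128 2128000 341986 342115 h3 chk2128
  rw [len2128] at h4
  have h5 := checkSteps_sound F iv 12 4194304 γ hiv q0 words hw steps2129 2129000 342115 342245 h4 chk2129
  rw [len2129] at h5
  have h6 := checkSteps_sound F iv 12 4194304 γ hiv q0 words hw steps2130 2130000 342245 342401 h5 chk2130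
  rw [len2130] at h6
  have h7 := checkSteps_sound F iv 12 4194304 γ hiv q0 words hw steps2131 2131000 342401 342562 h6 chk2131
  rw [len2131] at h7
  have h8 := checkSteps_sound F iv 12 4194304 γ hiv q0 words hw steps2132 2132000 342562 342727 h7 chk2132
  rw [len2132] at h8
  have h9 := checkSteps_sound F iv 12 4194304 γ hiv q0 words hw steps2133 2133000 342727 342828 h8 chk2133
  rw [len2133] at h9
  have h10 := checkSteps_sound F iv 12 4194304 γ hiv q0 words hw steps2134 2134000 342828 342939 h9 chk2134
  rw [len2134] at h10
  have h11 := checkSteps_sound F iv 12 4194304 γ hiv q0 words hw steps2135 2135000 342939 343062 h10 chk2135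
  rw [len2135] at h11
  have h12 := checkSteps_sound F iv 12 4194304 γ hiv q0 words hw steps2136 2136000 343062 343195 h11 chk2136
  rw [len2136] at h12
  have h13 := checkSteps_sound F iv 12 4194304 γ hiv q0 words hw steps2137 2137000 343195 343315 h12 chk2137
  rw [len2137] at h13
  have h14 := checkSteps_sound F iv 12 4194304 γ hiv q0 words hw steps2138 2138000 343315 343408 h13 chk2138
  rw [len2138] at h14
  have h15 := checkSteps_sound F iv 12 4194304 γ hiv q0 words hw steps2139 2139000 343408 343504 h14 chk2139
  rw [len2139] at h15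
  have h16 := checkSteps_sound F iv 12 4194304 γ hiv q0 words hw steps2140 2140000 343504 343598 h15 chk2140
  rw [len2140] at h16
  have h17 := checkSteps_sound F iv 12 4194304 γ hiv q0 words hw steps2141 2141000 343598 343691 h16 chk2141
  rw [len2141] at h17
  have h18 := checkSteps_sound F iv 12 4194304 γ hiv q0 words hw steps2142 2142000 343691 343781 h17 chk2142
  rw [len2142] at h18
  have h19 := checkSteps_sound F iv 12 4194304 γ hiv q0 words hw steps2143 2143000 343781 343876 h18 chk2143
  rw [len2143] at h19
  have h20 := checkSteps_sound F iv 12 4194304 γ hiv q0 words hw steps2144 2144000 343876 343969 h19 chk2144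
  rw [len2144] at h20
  have h21 := checkSteps_sound F iv 12 4194304 γ hiv q0 words hw steps2145 2145000 343969 344068 h20 chk2145
  rw [len2145] at h21
  have h22 := checkSteps_sound F iv 12 4194304 γ hiv q0 words hw steps2146 2146000 344068 344172 h21 chk2146
  rw [len2146] at h22
  have h23 := checkSteps_sound F iv 12 4194304 γ hiv q0 words hw steps2147 2147000 344172 344281 h22 chk2147
  rw [len2147] at h23
  have h24 := checkSteps_sound F iv 12 4194304 γ hiv q0 words hw steps2148 2148000 344281 344386 h23 chk2148
  rw [len2148] at h24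
  have h25 := checkSteps_sound F iv 12 4194304 γ hiv q0 words hw steps2149 2149000 344386 344487 h24 chk2149
  rw [len2149] at h25
  exact h25

end Cfsg.Agent.Lib.H6.FiTC
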