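import Cfsg.Agent.Lib.H6.FiTC.Steps86

set_option autoImplicit false
set_option maxRecDepth 1000000

/-! # invariant through part 86 of Fi24 (generated) -/

namespace Cfsg.Agent.Lib.H6.FiTC

open Cfsg.Agent.Lib.H17.CosetCert Cfsg.Agent.Lib.H6.TC

theorem part86 {G Q : Type} [Group G] [MulAction G Q] (γ : ℕ → G)
    (hiv : ∀ x < 12, γ (iv x) = (γ x)⁻¹) (q0 : Q) (hw : WordsOK γ q0 words)
    (h0 : Inv F 12 γ q0 2150000 344487) : Inv F 12 γ q0 2175000 347302 := by
  have h1 := checkSteps_sound F iv 12 4194304 γ hiv q0 words hw steps2150 2150000 344487 344589 h0 chk2150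
  rw [len2150] at h1
  have h2 := checkSteps_sound F iv 12 4194304 γ hiv q0 words hw steps2151 2151000 344589 344689 h1 chk2151
  rw [len2151] at h2
  have h3 := checkSteps_sound F iv 12 4194304 γ hiv q0 words hw steps2152 2152000 344689 344791 h2 chk2152
  rw [len2152] at h3
  have h4 := checkSteps_sound F iv 12 4194304 γ hiv q0 words hw steps2153 2153000 344791 344900 h3 chk2153
  rw [len2153] at h4
  have h5 := checkSteps_sound F iv 12 4194304 γ hiv q0 words hw steps2154 2154000 344900 345064 h4 chk2154
  rw [len2154] at h5
  have h6 := checkSteps_sound F iv 12 4194304 γ hiv q0 words hw steps2155 2155000 345064 345176 h5 chk2155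
  rw [len2155] at h6
  have h7 := checkSteps_sound F iv 12 4194304 γ hiv q0 words hw steps2156 2156000 345176 345306 h6 chk2156
  rw [len2156] at h7
  have h8 := checkSteps_sound F iv 12 4194304 γ hiv q0 words hw steps2157 2157000 345306 345425 h7 chk2157
  rw [len2157] at h8
  have h9 := checkSteps_sound F iv 12 4194304 γ hiv q0 words hw steps2158 2158000 345425 345549 h8 chk2158
  rw [len2158] at h9
  have h10 := checkSteps_sound F iv 12 4194304 γ hiv q0 words hw steps2159 2159000 345549 345686 h9 chk2159
  rw [len2159] at h10
  have h11 := checkSteps_sound F iv 12 4194304 γ hiv q0 words hw steps2160 2160000 345686 345789 h10 chk2160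
  rw [len2160] at h11
  have h12 := checkSteps_sound F iv 12 4194304 γ hiv q0 words hw steps2161 2161000 345789 345907 h11 chk2161
  rw [len2161] at h12
  have h13 := checkSteps_sound F iv 12 4194304 γ hiv q0 words hw steps2162 2162000 345907 346045 h12 chk2162
  rw [len2162] at h13
  have h14 := checkSteps_sound F iv 12 4194304 γ hiv q0 words hw steps2163 2163000 346045 346141 h13 chk2163
  rw [len2163] at h14
  have h15 := checkSteps_sound F iv 12 4194304 γ hiv q0 words hw steps2164 2164000 346141 346230 h14 chk2164
  rw [len2164] at h15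
  have h16 := checkSteps_sound F iv 12 4194304 γ hiv q0 words hw steps2165 2165000 346230 346318 h15 chk2165
  rw [len2165] at h16
  have h17 := checkSteps_sound F iv 12 4194304 γ hiv q0 words hw steps2166 2166000 346318 346416 h16 chk2166
  rw [len2166] at h17
  have h18 := checkSteps_sound F iv 12 4194304 γ hiv q0 words hw steps2167 2167000 346416 346514 h17 chk2167
  rw [len2167] at h18
  have h19 := checkSteps_sound F iv 12 4194304 γ hiv q0 words hw steps2168 2168000 346514 346611 h18 chk2168
  rw [len2168] at h19
  have h20 := checkSteps_sound F iv 12 4194304 γ hiv q0 words hw steps2169 2169000 346611 346747 h19 chk2169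
  rw [len2169] at h20
  have h21 := checkSteps_sound F iv 12 4194304 γ hiv q0 words hw steps2170 2170000 346747 346862 h20 chk2170
  rw [len2170] at h21
  have h22 := checkSteps_sound F iv 12 4194304 γ hiv q0 words hw steps2171 2171000 346862 346968 h21 chk2171
  rw [len2171] at h22
  have h23 := checkSteps_sound F iv 12 4194304 γ hiv q0 words hw steps2172 2172000 346968 347094 h22 chk2172
  rw [len2172] at h23
  have h24 := checkSteps_sound F iv 12 4194304 γ hiv q0 words hw steps2173 2173000 347094 347188 h23 chk2173
  rw [len2173] at h24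
  have h25 := checkSteps_sound F iv 12 4194304 γ hiv q0 words hw steps2174 2174000 347188 347302 h24 chk2174
  rw [len2174] at h25
  exact h25

end Cfsg.Agent.Lib.H6.FiTC
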