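import Cfsg.Agent.Lib.H6.FiTC.Steps87

set_option autoImplicit false
set_option maxRecDepth 1000000

/-! # invariant through part 87 of Fi24 (generated) -/

namespace Cfsg.Agent.Lib.H6.FiTC

open Cfsg.Agent.Lib.H17.CosetCert Cfsg.Agent.Lib.H6.TC

theorem part87 {G Q : Type} [Group G] [MulAction G Q] (γ : ℕ → G)
    (hiv : ∀ x < 12, γ (iv x) = (γ x)⁻¹) (q0 : Q) (hw : WordsOK γ q0 words)
    (h0 : Inv F 12 γ q0 2175000 347302) : Inv F 12 γ q0 2177615 347579 := by
  have h1 := checkSteps_sound F iv 12 4194304 γ hiv q0 words hw steps2175 2175000 347302 347405 h0 chk2175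
  rw [len2175] at h1
  have h2 := checkSteps_sound F iv 12 4194304 γ hiv q0 words hw steps2176 2176000 347405 347518 h1 chk2176
  rw [len2176] at h2
  have h3 := checkSteps_sound F iv 12 4194304 γ hiv q0 words hw steps2177 2177000 347518 347579 h2 chk2177
  rw [len2177] at h3
  exact h3

end Cfsg.Agent.Lib.H6.FiTC
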