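import Cfsg.Agent.Lib.H6.FiTC.Steps9

set_option autoImplicit false
set_option maxRecDepth 1000000

/-! # invariant through part 9 of Fi24 (generated) -/

namespace Cfsg.Agent.Lib.H6.FiTC

open Cfsg.Agent.Lib.H17.CosetCert Cfsg.Agent.Lib.H6.TC

theorem part9 {G Q : Type} [Group G] [MulAction G Q] (γ : ℕ → G)
    (hiv : ∀ x < 12, γ (iv x) = (γ x)⁻¹) (q0 : Q) (hw : WordsOK γ q0 words)
    (h0 : Inv F 12 γ q0 225000 40381) : Inv F 12 γ q0 250000 45429 := by
  have h1 := checkSteps_sound F iv 12 4194304 γ hiv q0 words hw steps225 225000 40381 40552 h0 chk225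
  rw [len225] at h1
  have h2 := checkSteps_sound F iv 12 4194304 γ hiv q0 words hw steps226 226000 40552 40732 h1 chk226
  rw [len226] at h2
  have h3 := checkSteps_sound F iv 12 4194304 γ hiv q0 words hw steps227 227000 40732 40894 h2 chk227
  rw [len227] at h3
  have h4 := checkSteps_sound F iv 12 4194304 γ hiv q0 words hw steps228 228000 40894 41063 h3 chk228
  rw [len228] at h4
  have h5 := checkSteps_sound F iv 12 4194304 γ hiv q0 words hw steps229 229000 41063 41234 h4 chk229
  rw [len229] at h5
  have h6 := checkSteps_sound F iv 12 4194304 γ hiv q0 words hw steps230 230000 41234 41409 h5 chk230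
  rw [len230] at h6
  have h7 := checkSteps_sound F iv 12 4194304 γ hiv q0 words hw steps231 231000 41409 41654 h6 chk231
  rw [len231] at h7
  have h8 := checkSteps_sound F iv 12 4194304 γ hiv q0 words hw steps232 232000 41654 41872 h7 chk232
  rw [len232] at h8
  have h9 := checkSteps_sound F iv 12 4194304 γ hiv q0 words hw steps233 233000 41872 42094 h8 chk233
  rw [len233] at h9
  have h10 := checkSteps_sound F iv 12 4194304 γ hiv q0 words hw steps234 234000 42094 42354 h9 chk234
  rw [len234] at h10
  have h11 := checkSteps_sound F iv 12 4194304 γ hiv q0 words hw steps235 235000 42354 42519 h10 chk235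
  rw [len235] at h11
  have h12 := checkSteps_sound F iv 12 4194304 γ hiv q0 words hw steps236 236000 42519 42684 h11 chk236
  rw [len236] at h12
  have h13 := checkSteps_sound F iv 12 4194304 γ hiv q0 words hw steps237 237000 42684 42892 h12 chk237
  rw [len237] at h13
  have h14 := checkSteps_sound F iv 12 4194304 γ hiv q0 words hw steps238 238000 42892 43080 h13 chk238
  rw [len238] at h14
  have h15 := checkSteps_sound F iv 12 4194304 γ hiv q0 words hw steps239 239000 43080 43352 h14 chk239
  rw [len239] at h15
  have h16 := checkSteps_sound F iv 12 4194304 γ hiv q0 words hw steps240 240000 43352 43661 h15 chk240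
  rw [len240] at h16
  have h17 := checkSteps_sound F iv 12 4194304 γ hiv q0 words hw steps241 241000 43661 43880 h16 chk241
  rw [len241] at h17
  have h18 := checkSteps_sound F iv 12 4194304 γ hiv q0 words hw steps242 242000 43880 44052 h17 chk242
  rw [len242] at h18
  have h19 := checkSteps_sound F iv 12 4194304 γ hiv q0 words hw steps243 243000 44052 44268 h18 chk243
  rw [len243] at h19
  have h20 := checkSteps_sound F iv 12 4194304 γ hiv q0 words hw steps244 244000 44268 44466 h19 chk244
  rw [len244] at h20
  have h21 := checkSteps_sound F iv 12 4194304 γ hiv q0 words hw steps245 245000 44466 44666 h20 chk245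
  rw [len245] at h21
  have h22 := checkSteps_sound F iv 12 4194304 γ hiv q0 words hw steps246 246000 44666 44843 h21 chk246
  rw [len246] at h22
  have h23 := checkSteps_sound F iv 12 4194304 γ hiv q0 words hw steps247 247000 44843 45041 h22 chk247
  rw [len247] at h23
  have h24 := checkSteps_sound F iv 12 4194304 γ hiv q0 words hw steps248 248000 45041 45243 h23 chk248
  rw [len248] at h24
  have h25 := checkSteps_sound F iv 12 4194304 γ hiv q0 words hw steps249 249000 45243 45429 h24 chk249
  rw [len249] at h25
  exact h25

end Cfsg.Agent.Lib.H6.FiTC
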