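import Cfsg.Agent.Lib.H6.TCMask2
import Cfsg.Agent.Lib.H6.FiTC.Rows0
import Cfsg.Agent.Lib.H6.FiTC.Rows1
import Cfsg.Agent.Lib.H6.FiTC.Rows2
import Cfsg.Agent.Lib.H6.FiTC.Rows3
import Cfsg.Agent.Lib.H6.FiTC.Rows4
import Cfsg.Agent.Lib.H6.FiTC.Rows5
import Cfsg.Agent.Lib.H6.FiTC.Rows6
import Cfsg.Agent.Lib.H6.FiTC.Rows7
import Cfsg.Agent.Lib.H6.FiTC.Rows8
import Cfsg.Agent.Lib.H6.FiTC.Rows9
import Cfsg.Agent.Lib.H6.FiTC.Rows10
import Cfsg.Agent.Lib.H6.FiTC.Rows11
import Cfsg.Agent.Lib.H6.FiTC.Rows12
import Cfsg.Agent.Lib.H6.FiTC.Rows13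
import Cfsg.Agent.Lib.H6.FiTC.Rows14
import Cfsg.Agent.Lib.H6.FiTC.Rows15
import Cfsg.Agent.Lib.H6.FiTC.Rows16
import Cfsg.Agent.Lib.H6.FiTC.Rows17
import Cfsg.Agent.Lib.H6.FiTC.Rows18
import Cfsg.Agent.Lib.H6.FiTC.Rows19
import Cfsg.Agent.Lib.H6.FiTC.Rows20
import Cfsg.Agent.Lib.H6.FiTC.Rows21
import Cfsg.Agent.Lib.H6.FiTC.Rows22
import Cfsg.Agent.Lib.H6.FiTC.Rows23
import Cfsg.Agent.Lib.H6.FiTC.Rows24
import Cfsg.Agent.Lib.H6.FiTC.Rows25
import Cfsg.Agent.Lib.H6.FiTC.Rows26
import Cfsg.Agent.Lib.H6.FiTC.Rows27
import Cfsg.Agent.Lib.H6.FiTC.Rows28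
import Cfsg.Agent.Lib.H6.FiTC.Rows29
import Cfsg.Agent.Lib.H6.FiTC.Rows30
import Cfsg.Agent.Lib.H6.FiTC.Rows31
import Cfsg.Agent.Lib.H6.FiTC.Rows32
import Cfsg.Agent.Lib.H6.FiTC.Rows33
import Cfsg.Agent.Lib.H6.FiTC.Rows34
import Cfsg.Agent.Lib.H6.FiTC.Rows35
import Cfsg.Agent.Lib.H6.FiTC.Rows36
import Cfsg.Agent.Lib.H6.FiTC.Rows37
import Cfsg.Agent.Lib.H6.FiTC.Rows38
import Cfsg.Agent.Lib.H6.FiTC.Rows39
import Cfsg.Agent.Lib.H6.FiTC.Rows40
import Cfsg.Agent.Lib.H6.FiTC.Rows41
import Cfsg.Agent.Lib.H6.FiTC.Rows42
import Cfsg.Agent.Lib.H6.FiTC.Rows43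
import Cfsg.Agent.Lib.H6.FiTC.Rows44
import Cfsg.Agent.Lib.H6.FiTC.Rows45
import Cfsg.Agent.Lib.H6.FiTC.Rows46
import Cfsg.Agent.Lib.H6.FiTC.Rows47
import Cfsg.Agent.Lib.H6.FiTC.Rows48
import Cfsg.Agent.Lib.H6.FiTC.Rows49
import Cfsg.Agent.Lib.H6.FiTC.Rows50
import Cfsg.Agent.Lib.H6.FiTC.Rows51
import Cfsg.Agent.Lib.H6.FiTC.Rows52
import Cfsg.Agent.Lib.H6.FiTC.Rows53
import Cfsg.Agent.Lib.H6.FiTC.Rows54
import Cfsg.Agent.Lib.H6.FiTC.Rows55
import Cfsg.Agent.Lib.H6.FiTC.Rows56
import Cfsg.Agent.Lib.H6.FiTC.Rows57
import Cfsg.Agent.Lib.H6.FiTC.Rows58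
import Cfsg.Agent.Lib.H6.FiTC.Rows59
import Cfsg.Agent.Lib.H6.FiTC.Rows60
import Cfsg.Agent.Lib.H6.FiTC.Rows61
import Cfsg.Agent.Lib.H6.FiTC.Rows62
import Cfsg.Agent.Lib.H6.FiTC.Rows63
import Cfsg.Agent.Lib.H6.FiTC.Rows64
import Cfsg.Agent.Lib.H6.FiTC.Rows65
import Cfsg.Agent.Lib.H6.FiTC.Rows66
import Cfsg.Agent.Lib.H6.FiTC.Rows67
import Cfsg.Agent.Lib.H6.FiTC.Rows68
import Cfsg.Agent.Lib.H6.FiTC.Rows69
import Cfsg.Agent.Lib.H6.FiTC.Rows70
import Cfsg.Agent.Lib.H6.FiTC.Rows71
import Cfsg.Agent.Lib.H6.FiTC.Rows72
import Cfsg.Agent.Lib.H6.FiTC.Rows73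
import Cfsg.Agent.Lib.H6.FiTC.Rows74
import Cfsg.Agent.Lib.H6.FiTC.Rows75
import Cfsg.Agent.Lib.H6.FiTC.Rows76
import Cfsg.Agent.Lib.H6.FiTC.Rows77
import Cfsg.Agent.Lib.H6.FiTC.Rows78
import Cfsg.Agent.Lib.H6.FiTC.Rows79
import Cfsg.Agent.Lib.H6.FiTC.Rows80
import Cfsg.Agent.Lib.H6.FiTC.Rows81
import Cfsg.Agent.Lib.H6.FiTC.Rows82
import Cfsg.Agent.Lib.H6.FiTC.Rows83
import Cfsg.Agent.Lib.H6.FiTC.Rows84
import Cfsg.Agent.Lib.H6.FiTC.Rows85
import Cfsg.Agent.Lib.H6.FiTC.Rows86
import Cfsg.Agent.Lib.H6.FiTC.Rows87
import Cfsg.Agent.Lib.H6.FiTC.Rows88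
import Cfsg.Agent.Lib.H6.FiTC.Rows89
import Cfsg.Agent.Lib.H6.FiTC.Rows90
import Cfsg.Agent.Lib.H6.FiTC.Rows91
import Cfsg.Agent.Lib.H6.FiTC.Rows92
import Cfsg.Agent.Lib.H6.FiTC.Rows93
import Cfsg.Agent.Lib.H6.FiTC.Rows94
import Cfsg.Agent.Lib.H6.FiTC.Rows95
import Cfsg.Agent.Lib.H6.FiTC.Rows96
import Cfsg.Agent.Lib.H6.FiTC.Rows97
import Cfsg.Agent.Lib.H6.FiTC.Rows98
import Cfsg.Agent.Lib.H6.FiTC.Rows99
import Cfsg.Agent.Lib.H6.FiTC.Rows100
import Cfsg.Agent.Lib.H6.FiTC.Rows101
import Cfsg.Agent.Lib.H6.FiTC.Rows102
import Cfsg.Agent.Lib.H6.FiTC.Rows103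
import Cfsg.Agent.Lib.H6.FiTC.Rows104
import Cfsg.Agent.Lib.H6.FiTC.Rows105
import Cfsg.Agent.Lib.H6.FiTC.Rows106
import Cfsg.Agent.Lib.H6.FiTC.Rows107
import Cfsg.Agent.Lib.H6.FiTC.Rows108
import Cfsg.Agent.Lib.H6.FiTC.Rows109
import Cfsg.Agent.Lib.H6.FiTC.Rows110
import Cfsg.Agent.Lib.H6.FiTC.Rows111
import Cfsg.Agent.Lib.H6.FiTC.Rows112
import Cfsg.Agent.Lib.H6.FiTC.Rows113
import Cfsg.Agent.Lib.H6.FiTC.Rows114
import Cfsg.Agent.Lib.H6.FiTC.Rows115
import Cfsg.Agent.Lib.H6.FiTC.Rows116
import Cfsg.Agent.Lib.H6.FiTC.Rows117
import Cfsg.Agent.Lib.H6.FiTC.Rows118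
import Cfsg.Agent.Lib.H6.FiTC.Rows119
import Cfsg.Agent.Lib.H6.FiTC.Rows120
import Cfsg.Agent.Lib.H6.FiTC.Rows121
import Cfsg.Agent.Lib.H6.FiTC.Rows122
import Cfsg.Agent.Lib.H6.FiTC.Rows123
import Cfsg.Agent.Lib.H6.FiTC.Rows124
import Cfsg.Agent.Lib.H6.FiTC.Rows125
import Cfsg.Agent.Lib.H6.FiTC.Rows126
import Cfsg.Agent.Lib.H6.FiTC.Rows127
import Cfsg.Agent.Lib.H6.FiTC.Rows128
import Cfsg.Agent.Lib.H6.FiTC.Rows129
import Cfsg.Agent.Lib.H6.FiTC.Rows130
import Cfsg.Agent.Lib.H6.FiTC.Rows131
import Cfsg.Agent.Lib.H6.FiTC.Rows132
import Cfsg.Agent.Lib.H6.FiTC.Rows133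
import Cfsg.Agent.Lib.H6.FiTC.Rows134
import Cfsg.Agent.Lib.H6.FiTC.Rows135
import Cfsg.Agent.Lib.H6.FiTC.Rows136
import Cfsg.Agent.Lib.H6.FiTC.Rows137
import Cfsg.Agent.Lib.H6.FiTC.Rows138
import Cfsg.Agent.Lib.H6.FiTC.Rows139
import Cfsg.Agent.Lib.H6.FiTC.Rows140
import Cfsg.Agent.Lib.H6.FiTC.Rows141
import Cfsg.Agent.Lib.H6.FiTC.Rows142
import Cfsg.Agent.Lib.H6.FiTC.Rows143
import Cfsg.Agent.Lib.H6.FiTC.Rows144
import Cfsg.Agent.Lib.H6.FiTC.Rows145
import Cfsg.Agent.Lib.H6.FiTC.Rows146
import Cfsg.Agent.Lib.H6.FiTC.Rows147
import Cfsg.Agent.Lib.H6.FiTC.Rows148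
import Cfsg.Agent.Lib.H6.FiTC.Rows149
import Cfsg.Agent.Lib.H6.FiTC.Rows150
import Cfsg.Agent.Lib.H6.FiTC.Rows151
import Cfsg.Agent.Lib.H6.FiTC.Rows152
import Cfsg.Agent.Lib.H6.FiTC.Rows153

set_option autoImplicit false
set_option maxRecDepth 1000000

/-! # final table of Fi24 (generated) -/

namespace Cfsg.Agent.Lib.H6.FiTC

open Cfsg.Agent.Lib.H17.CosetCert Cfsg.Agent.Lib.H6.TC

/-- all row chunks -/
def rowsAll : List (List ℕ) := [rows0, rows1, rows2, rows3, rows4, rows5, rows6, rows7, rows8, rows9, rows10, rows11, rows12, rows13, rows14, rows15, rows16, rows17, rows18, rows19, rows20, rows21, rows22, rows23, rows24, rows25, rows26, rows27, rows28, rows29, rows30, rows31, rows32, rows33, rows34, rows35, rows36, rows37, rows38, rows39, rows40, rows41, rows42, rows43, rows44, rows45, rows46, rows47, rows48, rows49, rows50, rows51, rows52, rows53, rows54, rows55, rows56, rows57, rows58, rows59, rows60, rows61, rows62, rows63, rows64, rows65, rows66, rows67, rows68, rows69, rows70, rows71, rows72, rows73, rows74, rows75, rows76, rows77, rows78, rows79,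 rows80, rows81, rows82, rows83, rows84, rows85, rows86, rows87, rows88, rows89, rows90, rows91, rows92, rows93, rows94, rows95, rows96, rows97, rows98, rows99, rows100, rows101, rows102, rows103, rows104, rows105, rows106, rows107, rows108, rows109, rows110, rows111, rows112, rows113, rows114, rows115, rows116, rows117, rows118, rows119, rows120, rows121, rows122, rows123, rows124, rows125, rows126, rows127, rows128, rows129, rows130, rows131, rows132, rows133, rows134, rows135, rows136, rows137, rows138, rows139, rows140, rows141, rows142, rows143, rows144, rows145, rows146, rows147, rows148, rows149, rows150, rows151, rows152, rows153, rows154, rows155, rows156, rows157, rows158, rows159, rows160, rows161, rows162, rows163, rows164, rows165, rows166, rows167, rows168, rows169, rows170, rows171, rows172, rows173, rows174, rows175, rows176, rows177, rows178, rows179, rows180, rows181, rows182, rows183, rows184, rows185, rows186, rows187, rows188, rows189, rows190, rows191, rows192, rows193, rows194, rows195, rows196, rows197, rows198, rows199, rows200,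 rows201, rows202, rows203, rows204, rows205, rows206, rows207, rows208, rows209, rows210, rows211, rows212, rows213, rows214, rows215, rows216, rows217, rows218, rows219, rows220, rows221, rows222, rows223, rows224, rows225, rows226, rows227, rows228, rows229, rows230, rows231, rows232, rows233, rows234, rows235, rows236, rows237, rows238, rows239, rows240, rows241, rows242, rows243, rows244, rows245, rows246, rows247, rows248, rows249, rows250, rows251, rows252, rows253, rows254, rows255, rows256, rows257, rows258, rows259, rows260, rows261, rows262, rows263, rows264, rows265, rows266, rows267, rows268, rows269, rows270, rows271, rows272, rows273, rows274, rows275, rows276, rows277, rows278, rows279, rows280, rows281, rows282, rows283, rows284, rows285, rows286, rows287, rows288, rows289, rows290, rows291, rows292, rows293, rows294, rows295, rows296, rows297, rows298, rows299, rows300, rows301, rows302, rows303, rows304, rows305, rows306]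

/-- all row chunks with their bases -/
def rowsAllO : List (ℕ × List ℕ) := [(0, rows0), (1067, rows1), (2107, rows2), (3175, rows3), (4280, rows4), (5415, rows5), (6645, rows6), (7830, rows7), (9182, rows8), (10391, rows9), (11457, rows10), (12704, rows11), (13857, rows12), (14979, rows13), (16367, rows14), (17631, rows15), (18866, rows16), (20039, rows17), (21582, rows18), (22979, rows19), (24430, rows20), (25486, rows21), (26842, rows22), (28573, rows23), (30244, rows24), (31614, rows25), (33084, rows26), (34168, rows27), (35725, rows28), (37764, rows29), (39804, rows30), (40924, rows31), (42525, rows32), (44237, rows33), (45405, rows34), (46577, rows35), (48415, rows36), (50704, rows37), (52631, rows38), (54299, rows39), (55455, rows40), (57430, rows41), (59300, rows42), (60567, rows43), (61616, rows44), (63295, rows45), (65295, rows46), (67707, rows47), (69973, rows48), (71598, rows49), (72838, rows50), (74606, rows51), (77002, rows52), (78346, rows53), (79655, rows54), (80802, rows55), (82029, rows56), (84161, rows57), (86222, rows58), (88652, rows59),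 (91009, rows60), (92665, rows61), (93921, rows62), (95095, rows63), (97233, rows64), (99401, rows65), (100652, rows66), (101960, rows67), (103286, rows68), (104381, rows69), (105663, rows70), (107940, rows71), (110028, rows72), (112055, rows73), (113676, rows74), (115611, rows75), (116611, rows76), (117611, rows77), (118611, rows78), (119611, rows79), (120611, rows80), (121611, rows81), (122614, rows82), (123614, rows83), (124614, rows84), (125614, rows85), (126614, rows86), (127614, rows87), (128614, rows88), (129614, rows89), (130614, rows90), (131614, rows91), (132614, rows92), (133614, rows93), (134614, rows94), (135614, rows95), (136614, rows96), (137614, rows97), (138614, rows98), (139614, rows99), (140614, rows100), (141614, rows101), (142614, rows102), (143614, rows103), (144614, rows104), (145614, rows105), (146614, rows106), (147614, rows107), (148614, rows108), (149614, rows109), (150614, rows110), (151614, rows111), (152614, rows112), (153614, rows113), (154614, rows114), (155614, rows115), (156614, rows116), (157614, rows117), (158614, rows118),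 (159614, rows119), (160614, rows120), (161614, rows121), (162614, rows122), (163614, rows123), (164614, rows124), (165614, rows125), (166614, rows126), (167614, rows127), (168614, rows128), (169614, rows129), (170614, rows130), (171614, rows131), (172614, rows132), (173614, rows133), (174614, rows134), (175614, rows135), (176614, rows136), (177614, rows137), (178614, rows138), (179614, rows139), (180614, rows140), (181614, rows141), (182614, rows142), (183614, rows143), (184614, rows144), (185614, rows145), (186623, rows146), (187623, rows147), (188624, rows148), (189624, rows149), (190624, rows150), (191624, rows151), (192624, rows152), (193624, rows153), (194624, rows154), (195624, rows155), (196624, rows156), (197633, rows157), (198633, rows158), (199634, rows159), (200640, rows160), (201643, rows161), (202643, rows162), (203643, rows163), (204643, rows164), (205643, rows165), (206643, rows166), (207643, rows167), (208643, rows168), (209643, rows169), (210643, rows170), (211643, rows171), (212643, rows172), (213643, rows173), (214643, rows174), (215643,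 rows175), (216643, rows176), (217643, rows177), (218643, rows178), (219643, rows179), (220643, rows180), (221643, rows181), (222643, rows182), (223643, rows183), (224643, rows184), (225643, rows185), (226643, rows186), (227643, rows187), (228643, rows188), (229643, rows189), (230643, rows190), (231643, rows191), (232643, rows192), (233643, rows193), (234643, rows194), (235643, rows195), (236643, rows196), (237643, rows197), (238643, rows198), (239643, rows199), (240643, rows200), (241643, rows201), (242643, rows202), (243643, rows203), (244643, rows204), (245643, rows205), (246643, rows206), (247643, rows207), (248643, rows208), (249643, rows209), (250643, rows210), (251643, rows211), (252643, rows212), (253643, rows213), (254643, rows214), (255643, rows215), (256643, rows216), (257643, rows217), (258643, rows218), (259643, rows219), (260643, rows220), (261643, rows221), (262643, rows222), (263643, rows223), (264643, rows224), (265643, rows225), (266643, rows226), (267643, rows227), (268643, rows228), (269643, rows229), (270643, rows230), (271643, rows231),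 (272643, rows232), (273643, rows233), (274643, rows234), (275643, rows235), (276643, rows236), (277643, rows237), (278643, rows238), (279643, rows239), (280643, rows240), (281643, rows241), (282643, rows242), (283643, rows243), (284643, rows244), (285643, rows245), (286643, rows246), (287643, rows247), (288643, rows248), (289643, rows249), (290643, rows250), (291643, rows251), (292643, rows252), (293643, rows253), (294643, rows254), (295643, rows255), (296643, rows256), (297643, rows257), (298643, rows258), (299643, rows259), (300643, rows260), (301643, rows261), (302643, rows262), (303643, rows263), (304643, rows264), (305643, rows265), (306643, rows266), (307643, rows267), (308643, rows268), (309643, rows269), (310643, rows270), (311643, rows271), (312643, rows272), (313643, rows273), (314643, rows274), (315643, rows275), (316643, rows276), (317643, rows277), (318643, rows278), (319643, rows279), (320643, rows280), (321643, rows281), (322643, rows282), (323643, rows283), (324643, rows284), (325643, rows285), (326643, rows286), (327643, rows287), (328643,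 rows288), (329643, rows289), (330643, rows290), (331643, rows291), (332643, rows292), (333643, rows293), (334643, rows294), (335643, rows295), (336643, rows296), (337643, rows297), (338643, rows298), (339643, rows299), (340643, rows300), (341643, rows301), (342643, rows302), (343643, rows303), (344643, rows304), (345643, rows305), (346643, rows306)]

theorem rowsAllO_snd : rowsAllO.map Prod.snd = rowsAll := rfl

/-- all rows -/
def rows : List ℕ := rowsAll.flatten

set_option maxHeartbeats 0 in
theorem mask_all : maskRAllO 4194304 rowsAllO = mask := by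
  decide +kernel

theorem mask_mem : ∀ j, tb mask j = true → ∃ r ∈ rows, Nat.mod r 4194304 = j := by
  intro j hj
  rw [← mask_all] at hj
  have := tb_maskRAllO 4194304 rowsAllO j hj
  rw [rowsAllO_snd] at this
  exact this

set_option maxHeartbeats 0 in
theorem rows_length : rows.length = 306936 := by
  decide +kernel

theorem mask_zero : tb mask 0 = true := by
  decide +kernel

theorem rows_chk : ∀ L ∈ rowsAll, checkRows F iv 12 4194304 2177615 mask L = true := by
  intro L hL
  simp only [rowsAll, List.mem_cons, List.not_mem_nil, or_false] at hL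
  rcases hL with rfl | rfl | rfl | rfl | rfl | rfl | rfl | rfl | rfl | rfl | rfl | rfl | rfl | rfl | rfl | rfl | rfl | rfl | rfl | rfl | rfl | rfl | rfl | rfl | rfl | rfl | rfl | rfl | rfl | rfl | rfl | rfl | rfl | rfl | rfl | rfl | rfl | rfl | rfl | rfl | rfl | rfl | rfl | rfl | rfl | rfl | rfl | rfl | rfl | rfl | rfl | rfl | rfl | rfl | rfl | rfl | rfl | rfl | rfl | rfl | rfl | rfl | rfl | rfl | rfl | rfl | rfl | rfl | rfl | rfl | rfl | rfl | rfl | rfl | rfl | rfl | rfl | rfl | rfl | rfl | rfl | rfl | rfl | rfl | rfl | rfl | rfl | rfl | rfl | rfl | rfl | rfl | rfl | rfl | rfl | rfl | rfl | rfl | rfl | rfl | rfl | rfl | rfl | rfl | rfl | rfl | rfl | rfl | rfl | rfl | rfl | rfl | rfl | rfl | rfl | rfl | rfl | rfl | rfl | rfl | rfl | rfl | rfl | rfl | rfl | rfl | rfl | rfl | rfl | rfl | rfl | rfl | rfl | rfl | rfl | rfl | rfl | rfl | rfl | rfl | rfl | rfl | rfl | rfl | rfl | rfl | rfl | rfl | rfl | rfl | rfl | rfl | rfl | rfl | rfl | rfl | rfl | rfl | rfl | rfl | rfl | rfl | rfl | rfl | rfl | rfl | rfl | rfl | rfl | rfl | rfl | rfl | rfl | rfl | rfl |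 rfl | rfl | rfl | rfl | rfl | rfl | rfl | rfl | rfl | rfl | rfl | rfl | rfl | rfl | rfl | rfl | rfl | rfl | rfl | rfl | rfl | rfl | rfl | rfl | rfl | rfl | rfl | rfl | rfl | rfl | rfl | rfl | rfl | rfl | rfl | rfl | rfl | rfl | rfl | rfl | rfl | rfl | rfl | rfl | rfl | rfl | rfl | rfl | rfl | rfl | rfl | rfl | rfl | rfl | rfl | rfl | rfl | rfl | rfl | rfl | rfl | rfl | rfl | rfl | rfl | rfl | rfl | rfl | rfl | rfl | rfl | rfl | rfl | rfl | rfl | rfl | rfl | rfl | rfl | rfl | rfl | rfl | rfl | rfl | rfl | rfl | rfl | rfl | rfl | rfl | rfl | rfl | rfl | rfl | rfl | rfl | rfl | rfl | rfl | rfl | rfl | rfl | rfl | rfl | rfl | rfl | rfl | rfl | rfl | rfl | rfl | rfl | rfl | rfl | rfl | rfl | rfl | rfl | rfl | rfl | rfl | rfl | rfl | rfl | rfl | rfl | rfl | rfl | rfl | rfl | rfl | rfl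
  · exact rchk0
  · exact rchk1
  · exact rchk2
  · exact rchk3
  · exact rchk4
  · exact rchk5
  · exact rchk6
  · exact rchk7
  · exact rchk8
  · exact rchk9
  · exact rchk10
  · exact rchk11
  · exact rchk12
  · exact rchk13
  · exact rchk14
  · exact rchk15
  · exact rchk16
  · exact rchk17
  · exact rchk18
  · exact rchk19
  · exact rchk20
  · exact rchk21
  · exact rchk22
  · exact rchk23
  · exact rchk24
  · exact rchk25
  · exact rchk26
  · exact rchk27
  · exact rchk28
  · exact rchk29
  · exact rchk30
  · exact rchk31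
  · exact rchk32
  · exact rchk33
  · exact rchk34
  · exact rchk35
  · exact rchk36
  · exact rchk37
  · exact rchk38
  · exact rchk39
  · exact rchk40
  · exact rchk41
  · exact rchk42
  · exact rchk43
  · exact rchk44
  · exact rchk45
  · exact rchk46
  · exact rchk47
  · exact rchk48
  · exact rchk49
  · exact rchk50
  · exact rchk51
  · exact rchk52
  · exact rchk53
  · exact rchk54
  · exact rchk55
  · exact rchk56
  · exact rchk57
  · exact rchk58
  · exact rchk59
  · exact rchk60
  · exact rchk61
  · exact rchk62
  · exact rchk63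
  · exact rchk64
  · exact rchk65
  · exact rchk66
  · exact rchk67
  · exact rchk68
  · exact rchk69
  · exact rchk70
  · exact rchk71
  · exact rchk72
  · exact rchk73
  · exact rchk74
  · exact rchk75
  · exact rchk76
  · exact rchk77
  · exact rchk78
  · exact rchk79
  · exact rchk80
  · exact rchk81
  · exact rchk82
  · exact rchk83
  · exact rchk84
  · exact rchk85
  · exact rchk86
  · exact rchk87
  · exact rchk88
  · exact rchk89
  · exact rchk90
  · exact rchk91
  · exact rchk92
  · exact rchk93
  · exact rchk94
  · exact rchk95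
  · exact rchk96
  · exact rchk97
  · exact rchk98
  · exact rchk99
  · exact rchk100
  · exact rchk101
  · exact rchk102
  · exact rchk103
  · exact rchk104
  · exact rchk105
  · exact rchk106
  · exact rchk107
  · exact rchk108
  · exact rchk109
  · exact rchk110
  · exact rchk111
  · exact rchk112
  · exact rchk113
  · exact rchk114
  · exact rchk115
  · exact rchk116
  · exact rchk117
  · exact rchk118
  · exact rchk119
  · exact rchk120
  · exact rchk121
  · exact rchk122
  · exact rchk123
  · exact rchk124
  · exact rchk125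
  · exact rchk126
  · exact rchk127
  · exact rchk128
  · exact rchk129
  · exact rchk130
  · exact rchk131
  · exact rchk132
  · exact rchk133
  · exact rchk134
  · exact rchk135
  · exact rchk136
  · exact rchk137
  · exact rchk138
  · exact rchk139
  · exact rchk140
  · exact rchk141
  · exact rchk142
  · exact rchk143
  · exact rchk144
  · exact rchk145
  · exact rchk146
  · exact rchk147
  · exact rchk148
  · exact rchk149
  · exact rchk150
  · exact rchk151
  · exact rchk152
  · exact rchk153
  · exact rchk154
  · exact rchk155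
  · exact rchk156
  · exact rchk157
  · exact rchk158
  · exact rchk159
  · exact rchk160
  · exact rchk161
  · exact rchk162
  · exact rchk163
  · exact rchk164
  · exact rchk165
  · exact rchk166
  · exact rchk167
  · exact rchk168
  · exact rchk169
  · exact rchk170
  · exact rchk171
  · exact rchk172
  · exact rchk173
  · exact rchk174
  · exact rchk175
  · exact rchk176
  · exact rchk177
  · exact rchk178
  · exact rchk179
  · exact rchk180
  · exact rchk181
  · exact rchk182
  · exact rchk183
  · exact rchk184
  · exact rchk185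
  · exact rchk186
  · exact rchk187
  · exact rchk188
  · exact rchk189
  · exact rchk190
  · exact rchk191
  · exact rchk192
  · exact rchk193
  · exact rchk194
  · exact rchk195
  · exact rchk196
  · exact rchk197
  · exact rchk198
  · exact rchk199
  · exact rchk200
  · exact rchk201
  · exact rchk202
  · exact rchk203
  · exact rchk204
  · exact rchk205
  · exact rchk206
  · exact rchk207
  · exact rchk208
  · exact rchk209
  · exact rchk210
  · exact rchk211
  · exact rchk212
  · exact rchk213
  · exact rchk214
  · exact rchk215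
  · exact rchk216
  · exact rchk217
  · exact rchk218
  · exact rchk219
  · exact rchk220
  · exact rchk221
  · exact rchk222
  · exact rchk223
  · exact rchk224
  · exact rchk225
  · exact rchk226
  · exact rchk227
  · exact rchk228
  · exact rchk229
  · exact rchk230
  · exact rchk231
  · exact rchk232
  · exact rchk233
  · exact rchk234
  · exact rchk235
  · exact rchk236
  · exact rchk237
  · exact rchk238
  · exact rchk239
  · exact rchk240
  · exact rchk241
  · exact rchk242
  · exact rchk243
  · exact rchk244
  · exact rchk245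
  · exact rchk246
  · exact rchk247
  · exact rchk248
  · exact rchk249
  · exact rchk250
  · exact rchk251
  · exact rchk252
  · exact rchk253
  · exact rchk254
  · exact rchk255
  · exact rchk256
  · exact rchk257
  · exact rchk258
  · exact rchk259
  · exact rchk260
  · exact rchk261
  · exact rchk262
  · exact rchk263
  · exact rchk264
  · exact rchk265
  · exact rchk266
  · exact rchk267
  · exact rchk268
  · exact rchk269
  · exact rchk270
  · exact rchk271
  · exact rchk272
  · exact rchk273
  · exact rchk274
  · exact rchk275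
  · exact rchk276
  · exact rchk277
  · exact rchk278
  · exact rchk279
  · exact rchk280
  · exact rchk281
  · exact rchk282
  · exact rchk283
  · exact rchk284
  · exact rchk285
  · exact rchk286
  · exact rchk287
  · exact rchk288
  · exact rchk289
  · exact rchk290
  · exact rchk291
  · exact rchk292
  · exact rchk293
  · exact rchk294
  · exact rchk295
  · exact rchk296
  · exact rchk297
  · exact rchk298
  · exact rchk299
  · exact rchk300
  · exact rchk301
  · exact rchk302
  · exact rchk303
  · exact rchk304
  · exact rchk305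
  · exact rchk306

end Cfsg.Agent.Lib.H6.FiTC
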