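import Cfsg.Agent.Lib.H6.FiTC.Part0
import Cfsg.Agent.Lib.H6.FiTC.Part1
import Cfsg.Agent.Lib.H6.FiTC.Part2
import Cfsg.Agent.Lib.H6.FiTC.Part3
import Cfsg.Agent.Lib.H6.FiTC.Part4
import Cfsg.Agent.Lib.H6.FiTC.Part5
import Cfsg.Agent.Lib.H6.FiTC.Part6
import Cfsg.Agent.Lib.H6.FiTC.Part7
import Cfsg.Agent.Lib.H6.FiTC.Part8
import Cfsg.Agent.Lib.H6.FiTC.Part9
import Cfsg.Agent.Lib.H6.FiTC.Part10
import Cfsg.Agent.Lib.H6.FiTC.Part11
import Cfsg.Agent.Lib.H6.FiTC.Part12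
import Cfsg.Agent.Lib.H6.FiTC.Part13
import Cfsg.Agent.Lib.H6.FiTC.Part14
import Cfsg.Agent.Lib.H6.FiTC.Part15
import Cfsg.Agent.Lib.H6.FiTC.Part16
import Cfsg.Agent.Lib.H6.FiTC.Part17
import Cfsg.Agent.Lib.H6.FiTC.Part18
import Cfsg.Agent.Lib.H6.FiTC.Part19
import Cfsg.Agent.Lib.H6.FiTC.Part20
import Cfsg.Agent.Lib.H6.FiTC.Part21
import Cfsg.Agent.Lib.H6.FiTC.Part22
import Cfsg.Agent.Lib.H6.FiTC.Part23
import Cfsg.Agent.Lib.H6.FiTC.Part24
import Cfsg.Agent.Lib.H6.FiTC.Part25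
import Cfsg.Agent.Lib.H6.FiTC.Part26
import Cfsg.Agent.Lib.H6.FiTC.Part27
import Cfsg.Agent.Lib.H6.FiTC.Part28
import Cfsg.Agent.Lib.H6.FiTC.Part29
import Cfsg.Agent.Lib.H6.FiTC.Part30
import Cfsg.Agent.Lib.H6.FiTC.Part31
import Cfsg.Agent.Lib.H6.FiTC.Part32
import Cfsg.Agent.Lib.H6.FiTC.Part33
import Cfsg.Agent.Lib.H6.FiTC.Part34
import Cfsg.Agent.Lib.H6.FiTC.Part35
import Cfsg.Agent.Lib.H6.FiTC.Part36
import Cfsg.Agent.Lib.H6.FiTC.Part37
import Cfsg.Agent.Lib.H6.FiTC.Part38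
import Cfsg.Agent.Lib.H6.FiTC.Part39
import Cfsg.Agent.Lib.H6.FiTC.Part40
import Cfsg.Agent.Lib.H6.FiTC.Part41
import Cfsg.Agent.Lib.H6.FiTC.Part42
import Cfsg.Agent.Lib.H6.FiTC.Part43
import Cfsg.Agent.Lib.H6.FiTC.Part44
import Cfsg.Agent.Lib.H6.FiTC.Part45
import Cfsg.Agent.Lib.H6.FiTC.Part46
import Cfsg.Agent.Lib.H6.FiTC.Part47
import Cfsg.Agent.Lib.H6.FiTC.Part48
import Cfsg.Agent.Lib.H6.FiTC.Part49
import Cfsg.Agent.Lib.H6.FiTC.Part50
import Cfsg.Agent.Lib.H6.FiTC.Part51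
import Cfsg.Agent.Lib.H6.FiTC.Part52
import Cfsg.Agent.Lib.H6.FiTC.Part53
import Cfsg.Agent.Lib.H6.FiTC.Part54
import Cfsg.Agent.Lib.H6.FiTC.Part55
import Cfsg.Agent.Lib.H6.FiTC.Part56
import Cfsg.Agent.Lib.H6.FiTC.Part57
import Cfsg.Agent.Lib.H6.FiTC.Part58
import Cfsg.Agent.Lib.H6.FiTC.Part59
import Cfsg.Agent.Lib.H6.FiTC.Part60
import Cfsg.Agent.Lib.H6.FiTC.Part61
import Cfsg.Agent.Lib.H6.FiTC.Part62
import Cfsg.Agent.Lib.H6.FiTC.Part63
import Cfsg.Agent.Lib.H6.FiTC.Part64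
import Cfsg.Agent.Lib.H6.FiTC.Part65
import Cfsg.Agent.Lib.H6.FiTC.Part66
import Cfsg.Agent.Lib.H6.FiTC.Part67
import Cfsg.Agent.Lib.H6.FiTC.Part68
import Cfsg.Agent.Lib.H6.FiTC.Part69
import Cfsg.Agent.Lib.H6.FiTC.Part70
import Cfsg.Agent.Lib.H6.FiTC.Part71
import Cfsg.Agent.Lib.H6.FiTC.Part72
import Cfsg.Agent.Lib.H6.FiTC.Part73
import Cfsg.Agent.Lib.H6.FiTC.Part74
import Cfsg.Agent.Lib.H6.FiTC.Part75
import Cfsg.Agent.Lib.H6.FiTC.Part76
import Cfsg.Agent.Lib.H6.FiTC.Part77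
import Cfsg.Agent.Lib.H6.FiTC.Part78
import Cfsg.Agent.Lib.H6.FiTC.Part79
import Cfsg.Agent.Lib.H6.FiTC.Part80
import Cfsg.Agent.Lib.H6.FiTC.Part81
import Cfsg.Agent.Lib.H6.FiTC.Part82
import Cfsg.Agent.Lib.H6.FiTC.Part83
import Cfsg.Agent.Lib.H6.FiTC.Part84
import Cfsg.Agent.Lib.H6.FiTC.Part85
import Cfsg.Agent.Lib.H6.FiTC.Part86
import Cfsg.Agent.Lib.H6.FiTC.Part87
import Cfsg.Agent.Lib.H6.FiTC.Rows

set_option autoImplicit false
set_option maxRecDepth 1000000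

/-! # the certified enumeration of Fi24 (generated) -/

namespace Cfsg.Agent.Lib.H6.FiTC

open Cfsg.Agent.Lib.H17.CosetCert Cfsg.Agent.Lib.H6.TC

/-- every transitive action in which the relator words act trivially and the subgroup words fix the base point has at most 306936 points -/
theorem bound {G Q : Type} [Group G] [MulAction G Q] [MulAction.IsPretransitive G Q] (γ : ℕ → G)
    (hiv : ∀ x < 12, γ (iv x) = (γ x)⁻¹) (q0 : Q) (hw : WordsOK γ q0 words)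
    (hgen : Subgroup.closure {g : G | ∃ x < 12, g = γ x} = ⊤) : Finite Q ∧ Nat.card Q ≤ 306936 := by
  have h0 := inv_zero F 12 γ q0
  have h1 := part0 γ hiv q0 hw h0
  have h2 := part1 γ hiv q0 hw h1
  have h3 := part2 γ hiv q0 hw h2
  have h4 := part3 γ hiv q0 hw h3
  have h5 := part4 γ hiv q0 hw h4
  have h6 := part5 γ hiv q0 hw h5
  have h7 := part6 γ hiv q0 hw h6
  have h8 := part7 γ hiv q0 hw h7
  have h9 := part8 γ hiv q0 hw h8
  have h10 := part9 γ hiv q0 hw h9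
  have h11 := part10 γ hiv q0 hw h10
  have h12 := part11 γ hiv q0 hw h11
  have h13 := part12 γ hiv q0 hw h12
  have h14 := part13 γ hiv q0 hw h13
  have h15 := part14 γ hiv q0 hw h14
  have h16 := part15 γ hiv q0 hw h15
  have h17 := part16 γ hiv q0 hw h16
  have h18 := part17 γ hiv q0 hw h17
  have h19 := part18 γ hiv q0 hw h18
  have h20 := part19 γ hiv q0 hw h19
  have h21 := part20 γ hiv q0 hw h20
  have h22 := part21 γ hiv q0 hw h21
  have h23 := part22 γ hiv q0 hw h22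
  have h24 := part23 γ hiv q0 hw h23
  have h25 := part24 γ hiv q0 hw h24
  have h26 := part25 γ hiv q0 hw h25
  have h27 := part26 γ hiv q0 hw h26
  have h28 := part27 γ hiv q0 hw h27
  have h29 := part28 γ hiv q0 hw h28
  have h30 := part29 γ hiv q0 hw h29
  have h31 := part30 γ hiv q0 hw h30
  have h32 := part31 γ hiv q0 hw h31
  have h33 := part32 γ hiv q0 hw h32
  have h34 := part33 γ hiv q0 hw h33
  have h35 := part34 γ hiv q0 hw h34
  have h36 := part35 γ hiv q0 hw h35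
  have h37 := part36 γ hiv q0 hw h36
  have h38 := part37 γ hiv q0 hw h37
  have h39 := part38 γ hiv q0 hw h38
  have h40 := part39 γ hiv q0 hw h39
  have h41 := part40 γ hiv q0 hw h40
  have h42 := part41 γ hiv q0 hw h41
  have h43 := part42 γ hiv q0 hw h42
  have h44 := part43 γ hiv q0 hw h43
  have h45 := part44 γ hiv q0 hw h44
  have h46 := part45 γ hiv q0 hw h45
  have h47 := part46 γ hiv q0 hw h46
  have h48 := part47 γ hiv q0 hw h47
  have h49 := part48 γ hiv q0 hw h48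
  have h50 := part49 γ hiv q0 hw h49
  have h51 := part50 γ hiv q0 hw h50
  have h52 := part51 γ hiv q0 hw h51
  have h53 := part52 γ hiv q0 hw h52
  have h54 := part53 γ hiv q0 hw h53
  have h55 := part54 γ hiv q0 hw h54
  have h56 := part55 γ hiv q0 hw h55
  have h57 := part56 γ hiv q0 hw h56
  have h58 := part57 γ hiv q0 hw h57
  have h59 := part58 γ hiv q0 hw h58
  have h60 := part59 γ hiv q0 hw h59
  have h61 := part60 γ hiv q0 hw h60
  have h62 := part61 γ hiv q0 hw h61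
  have h63 := part62 γ hiv q0 hw h62
  have h64 := part63 γ hiv q0 hw h63
  have h65 := part64 γ hiv q0 hw h64
  have h66 := part65 γ hiv q0 hw h65
  have h67 := part66 γ hiv q0 hw h66
  have h68 := part67 γ hiv q0 hw h67
  have h69 := part68 γ hiv q0 hw h68
  have h70 := part69 γ hiv q0 hw h69
  have h71 := part70 γ hiv q0 hw h70
  have h72 := part71 γ hiv q0 hw h71
  have h73 := part72 γ hiv q0 hw h72
  have h74 := part73 γ hiv q0 hw h73
  have h75 := part74 γ hiv q0 hw h74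
  have h76 := part75 γ hiv q0 hw h75
  have h77 := part76 γ hiv q0 hw h76
  have h78 := part77 γ hiv q0 hw h77
  have h79 := part78 γ hiv q0 hw h78
  have h80 := part79 γ hiv q0 hw h79
  have h81 := part80 γ hiv q0 hw h80
  have h82 := part81 γ hiv q0 hw h81
  have h83 := part82 γ hiv q0 hw h82
  have h84 := part83 γ hiv q0 hw h83
  have h85 := part84 γ hiv q0 hw h84
  have h86 := part85 γ hiv q0 hw h85
  have h87 := part86 γ hiv q0 hw h86
  have h88 := part87 γ hiv q0 hw h87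
  have hm := mask_mem
  have := card_le F iv 12 4194304 γ hiv q0 2177615 347579 h88 rows mask hm mask_zero
    (checkRows_of_forall F iv 12 4194304 2177615 mask rowsAll rows_chk) hgen
  rw [rows_length] at this
  exact this

end Cfsg.Agent.Lib.H6.FiTC
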