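import Cfsg.Agent.Lib.H6.TC

set_option autoImplicit false
set_option maxRecDepth 1000000

/-! # facts subtree 6 of Fi24 (generated) -/

namespace Cfsg.Agent.Lib.H6.FiTC

open Cfsg.Agent.Lib.H17.CosetCert Cfsg.Agent.Lib.H6.TC

/-- packed facts, subtree -/
def ft6 : BT := .leaf 0

end Cfsg.Agent.Lib.H6.FiTC
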