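import Cfsg.Agent.Lib.H6.FiTC.Steps12

set_option autoImplicit false
set_option maxRecDepth 1000000

/-! # invariant through part 12 of Fi24 (generated) -/

namespace Cfsg.Agent.Lib.H6.FiTC

open Cfsg.Agent.Lib.H17.CosetCert Cfsg.Agent.Lib.H6.TC

theorem part12 {G Q : Type} [Group G] [MulAction G Q] (γ : ℕ → G)
    (hiv : ∀ x < 12, γ (iv x) = (γ x)⁻¹) (q0 : Q) (hw : WordsOK γ q0 words)
    (h0 : Inv F 12 γ q0 300000 56242) : Inv F 12 γ q0 325000 61583 := by
  have h1 := checkSteps_sound F iv 12 4194304 γ hiv q0 words hw steps300 300000 56242 56493 h0 chk300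
  rw [len300] at h1
  have h2 := checkSteps_sound F iv 12 4194304 γ hiv q0 words hw steps301 301000 56493 56778 h1 chk301
  rw [len301] at h2
  have h3 := checkSteps_sound F iv 12 4194304 γ hiv q0 words hw steps302 302000 56778 56932 h2 chk302
  rw [len302] at h3
  have h4 := checkSteps_sound F iv 12 4194304 γ hiv q0 words hw steps303 303000 56932 57108 h3 chk303
  rw [len303] at h4
  have h5 := checkSteps_sound F iv 12 4194304 γ hiv q0 words hw steps304 304000 57108 57329 h4 chk304
  rw [len304] at h5
  have h6 := checkSteps_sound F iv 12 4194304 γ hiv q0 words hw steps305 305000 57329 57522 h5 chk305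
  rw [len305] at h6
  have h7 := checkSteps_sound F iv 12 4194304 γ hiv q0 words hw steps306 306000 57522 57752 h6 chk306
  rw [len306] at h7
  have h8 := checkSteps_sound F iv 12 4194304 γ hiv q0 words hw steps307 307000 57752 58047 h7 chk307
  rw [len307] at h8
  have h9 := checkSteps_sound F iv 12 4194304 γ hiv q0 words hw steps308 308000 58047 58381 h8 chk308
  rw [len308] at h9
  have h10 := checkSteps_sound F iv 12 4194304 γ hiv q0 words hw steps309 309000 58381 58617 h9 chk309
  rw [len309] at h10
  have h11 := checkSteps_sound F iv 12 4194304 γ hiv q0 words hw steps310 310000 58617 58778 h10 chk310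
  rw [len310] at h11
  have h12 := checkSteps_sound F iv 12 4194304 γ hiv q0 words hw steps311 311000 58778 59001 h11 chk311
  rw [len311] at h12
  have h13 := checkSteps_sound F iv 12 4194304 γ hiv q0 words hw steps312 312000 59001 59212 h12 chk312
  rw [len312] at h13
  have h14 := checkSteps_sound F iv 12 4194304 γ hiv q0 words hw steps313 313000 59212 59400 h13 chk313
  rw [len313] at h14
  have h15 := checkSteps_sound F iv 12 4194304 γ hiv q0 words hw steps314 314000 59400 59619 h14 chk314
  rw [len314] at h15
  have h16 := checkSteps_sound F iv 12 4194304 γ hiv q0 words hw steps315 315000 59619 59816 h15 chk315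
  rw [len315] at h16
  have h17 := checkSteps_sound F iv 12 4194304 γ hiv q0 words hw steps316 316000 59816 59999 h16 chk316
  rw [len316] at h17
  have h18 := checkSteps_sound F iv 12 4194304 γ hiv q0 words hw steps317 317000 59999 60187 h17 chk317
  rw [len317] at h18
  have h19 := checkSteps_sound F iv 12 4194304 γ hiv q0 words hw steps318 318000 60187 60394 h18 chk318
  rw [len318] at h19
  have h20 := checkSteps_sound F iv 12 4194304 γ hiv q0 words hw steps319 319000 60394 60610 h19 chk319
  rw [len319] at h20
  have h21 := checkSteps_sound F iv 12 4194304 γ hiv q0 words hw steps320 320000 60610 60803 h20 chk320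
  rw [len320] at h21
  have h22 := checkSteps_sound F iv 12 4194304 γ hiv q0 words hw steps321 321000 60803 60982 h21 chk321
  rw [len321] at h22
  have h23 := checkSteps_sound F iv 12 4194304 γ hiv q0 words hw steps322 322000 60982 61169 h22 chk322
  rw [len322] at h23
  have h24 := checkSteps_sound F iv 12 4194304 γ hiv q0 words hw steps323 323000 61169 61368 h23 chk323
  rw [len323] at h24
  have h25 := checkSteps_sound F iv 12 4194304 γ hiv q0 words hw steps324 324000 61368 61583 h24 chk324
  rw [len324] at h25
  exact h25

end Cfsg.Agent.Lib.H6.FiTC
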