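import Cfsg.Agent.Lib.H6.FiTC.Steps25

set_option autoImplicit false
set_option maxRecDepth 1000000

/-! # invariant through part 25 of Fi24 (generated) -/

namespace Cfsg.Agent.Lib.H6.FiTC

open Cfsg.Agent.Lib.H17.CosetCert Cfsg.Agent.Lib.H6.TC

theorem part25 {G Q : Type} [Group G] [MulAction G Q] (γ : ℕ → G)
    (hiv : ∀ x < 12, γ (iv x) = (γ x)⁻¹) (q0 : Q) (hw : WordsOK γ q0 words)
    (h0 : Inv F 12 γ q0 625000 115157) : Inv F 12 γ q0 650000 118810 := by
  have h1 := checkSteps_sound F iv 12 4194304 γ hiv q0 words hw steps625 625000 115157 115297 h0 chk625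
  rw [len625] at h1
  have h2 := checkSteps_sound F iv 12 4194304 γ hiv q0 words hw steps626 626000 115297 115430 h1 chk626
  rw [len626] at h2
  have h3 := checkSteps_sound F iv 12 4194304 γ hiv q0 words hw steps627 627000 115430 115559 h2 chk627
  rw [len627] at h3
  have h4 := checkSteps_sound F iv 12 4194304 γ hiv q0 words hw steps628 628000 115559 115696 h3 chk628
  rw [len628] at h4
  have h5 := checkSteps_sound F iv 12 4194304 γ hiv q0 words hw steps629 629000 115696 115818 h4 chk629
  rw [len629] at h5
  have h6 := checkSteps_sound F iv 12 4194304 γ hiv q0 words hw steps630 630000 115818 115938 h5 chk630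
  rw [len630] at h6
  have h7 := checkSteps_sound F iv 12 4194304 γ hiv q0 words hw steps631 631000 115938 116079 h6 chk631
  rw [len631] at h7
  have h8 := checkSteps_sound F iv 12 4194304 γ hiv q0 words hw steps632 632000 116079 116224 h7 chk632
  rw [len632] at h8
  have h9 := checkSteps_sound F iv 12 4194304 γ hiv q0 words hw steps633 633000 116224 116366 h8 chk633
  rw [len633] at h9
  have h10 := checkSteps_sound F iv 12 4194304 γ hiv q0 words hw steps634 634000 116366 116524 h9 chk634
  rw [len634] at h10
  have h11 := checkSteps_sound F iv 12 4194304 γ hiv q0 words hw steps635 635000 116524 116663 h10 chk635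
  rw [len635] at h11
  have h12 := checkSteps_sound F iv 12 4194304 γ hiv q0 words hw steps636 636000 116663 116823 h11 chk636
  rw [len636] at h12
  have h13 := checkSteps_sound F iv 12 4194304 γ hiv q0 words hw steps637 637000 116823 116954 h12 chk637
  rw [len637] at h13
  have h14 := checkSteps_sound F iv 12 4194304 γ hiv q0 words hw steps638 638000 116954 117092 h13 chk638
  rw [len638] at h14
  have h15 := checkSteps_sound F iv 12 4194304 γ hiv q0 words hw steps639 639000 117092 117242 h14 chk639
  rw [len639] at h15
  have h16 := checkSteps_sound F iv 12 4194304 γ hiv q0 words hw steps640 640000 117242 117391 h15 chk640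
  rw [len640] at h16
  have h17 := checkSteps_sound F iv 12 4194304 γ hiv q0 words hw steps641 641000 117391 117533 h16 chk641
  rw [len641] at h17
  have h18 := checkSteps_sound F iv 12 4194304 γ hiv q0 words hw steps642 642000 117533 117698 h17 chk642
  rw [len642] at h18
  have h19 := checkSteps_sound F iv 12 4194304 γ hiv q0 words hw steps643 643000 117698 117844 h18 chk643
  rw [len643] at h19
  have h20 := checkSteps_sound F iv 12 4194304 γ hiv q0 words hw steps644 644000 117844 118004 h19 chk644
  rw [len644] at h20
  have h21 := checkSteps_sound F iv 12 4194304 γ hiv q0 words hw steps645 645000 118004 118183 h20 chk645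
  rw [len645] at h21
  have h22 := checkSteps_sound F iv 12 4194304 γ hiv q0 words hw steps646 646000 118183 118336 h21 chk646
  rw [len646] at h22
  have h23 := checkSteps_sound F iv 12 4194304 γ hiv q0 words hw steps647 647000 118336 118503 h22 chk647
  rw [len647] at h23
  have h24 := checkSteps_sound F iv 12 4194304 γ hiv q0 words hw steps648 648000 118503 118669 h23 chk648
  rw [len648] at h24
  have h25 := checkSteps_sound F iv 12 4194304 γ hiv q0 words hw steps649 649000 118669 118810 h24 chk649
  rw [len649] at h25
  exact h25

end Cfsg.Agent.Lib.H6.FiTC
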