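import Cfsg.Agent.Lib.H6.FiTC.Steps38

set_option autoImplicit false
set_option maxRecDepth 1000000

/-! # invariant through part 38 of Fi24 (generated) -/

namespace Cfsg.Agent.Lib.H6.FiTC

open Cfsg.Agent.Lib.H17.CosetCert Cfsg.Agent.Lib.H6.TC

theorem part38 {G Q : Type} [Group G] [MulAction G Q] (γ : ℕ → G)
    (hiv : ∀ x < 12, γ (iv x) = (γ x)⁻¹) (q0 : Q) (hw : WordsOK γ q0 words)
    (h0 : Inv F 12 γ q0 950000 167443) : Inv F 12 γ q0 975000 170606 := by
  have h1 := checkSteps_sound F iv 12 4194304 γ hiv q0 words hw steps950 950000 167443 167557 h0 chk950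
  rw [len950] at h1
  have h2 := checkSteps_sound F iv 12 4194304 γ hiv q0 words hw steps951 951000 167557 167683 h1 chk951
  rw [len951] at h2
  have h3 := checkSteps_sound F iv 12 4194304 γ hiv q0 words hw steps952 952000 167683 167811 h2 chk952
  rw [len952] at h3
  have h4 := checkSteps_sound F iv 12 4194304 γ hiv q0 words hw steps953 953000 167811 167939 h3 chk953
  rw [len953] at h4
  have h5 := checkSteps_sound F iv 12 4194304 γ hiv q0 words hw steps954 954000 167939 168053 h4 chk954
  rw [len954] at h5
  have h6 := checkSteps_sound F iv 12 4194304 γ hiv q0 words hw steps955 955000 168053 168174 h5 chk955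
  rw [len955] at h6
  have h7 := checkSteps_sound F iv 12 4194304 γ hiv q0 words hw steps956 956000 168174 168306 h6 chk956
  rw [len956] at h7
  have h8 := checkSteps_sound F iv 12 4194304 γ hiv q0 words hw steps957 957000 168306 168438 h7 chk957
  rw [len957] at h8
  have h9 := checkSteps_sound F iv 12 4194304 γ hiv q0 words hw steps958 958000 168438 168585 h8 chk958
  rw [len958] at h9
  have h10 := checkSteps_sound F iv 12 4194304 γ hiv q0 words hw steps959 959000 168585 168719 h9 chk959
  rw [len959] at h10
  have h11 := checkSteps_sound F iv 12 4194304 γ hiv q0 words hw steps960 960000 168719 168846 h10 chk960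
  rw [len960] at h11
  have h12 := checkSteps_sound F iv 12 4194304 γ hiv q0 words hw steps961 961000 168846 168971 h11 chk961
  rw [len961] at h12
  have h13 := checkSteps_sound F iv 12 4194304 γ hiv q0 words hw steps962 962000 168971 169084 h12 chk962
  rw [len962] at h13
  have h14 := checkSteps_sound F iv 12 4194304 γ hiv q0 words hw steps963 963000 169084 169212 h13 chk963
  rw [len963] at h14
  have h15 := checkSteps_sound F iv 12 4194304 γ hiv q0 words hw steps964 964000 169212 169329 h14 chk964
  rw [len964] at h15
  have h16 := checkSteps_sound F iv 12 4194304 γ hiv q0 words hw steps965 965000 169329 169455 h15 chk965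
  rw [len965] at h16
  have h17 := checkSteps_sound F iv 12 4194304 γ hiv q0 words hw steps966 966000 169455 169579 h16 chk966
  rw [len966] at h17
  have h18 := checkSteps_sound F iv 12 4194304 γ hiv q0 words hw steps967 967000 169579 169704 h17 chk967
  rw [len967] at h18
  have h19 := checkSteps_sound F iv 12 4194304 γ hiv q0 words hw steps968 968000 169704 169848 h18 chk968
  rw [len968] at h19
  have h20 := checkSteps_sound F iv 12 4194304 γ hiv q0 words hw steps969 969000 169848 169988 h19 chk969
  rw [len969] at h20
  have h21 := checkSteps_sound F iv 12 4194304 γ hiv q0 words hw steps970 970000 169988 170118 h20 chk970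
  rw [len970] at h21
  have h22 := checkSteps_sound F iv 12 4194304 γ hiv q0 words hw steps971 971000 170118 170240 h21 chk971
  rw [len971] at h22
  have h23 := checkSteps_sound F iv 12 4194304 γ hiv q0 words hw steps972 972000 170240 170379 h22 chk972
  rw [len972] at h23
  have h24 := checkSteps_sound F iv 12 4194304 γ hiv q0 words hw steps973 973000 170379 170491 h23 chk973
  rw [len973] at h24
  have h25 := checkSteps_sound F iv 12 4194304 γ hiv q0 words hw steps974 974000 170491 170606 h24 chk974
  rw [len974] at h25
  exact h25

end Cfsg.Agent.Lib.H6.FiTC
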