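import Cfsg.Agent.Lib.H6.FiTC.Steps51

set_option autoImplicit false
set_option maxRecDepth 1000000

/-! # invariant through part 51 of Fi24 (generated) -/

namespace Cfsg.Agent.Lib.H6.FiTC

open Cfsg.Agent.Lib.H17.CosetCert Cfsg.Agent.Lib.H6.TC

theorem part51 {G Q : Type} [Group G] [MulAction G Q] (γ : ℕ → G)
    (hiv : ∀ x < 12, γ (iv x) = (γ x)⁻¹) (q0 : Q) (hw : WordsOK γ q0 words)
    (h0 : Inv F 12 γ q0 1275000 218139) : Inv F 12 γ q0 1300000 221851 := by
  have h1 := checkSteps_sound F iv 12 4194304 γ hiv q0 words hw steps1275 1275000 218139 218275 h0 chk1275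
  rw [len1275] at h1
  have h2 := checkSteps_sound F iv 12 4194304 γ hiv q0 words hw steps1276 1276000 218275 218405 h1 chk1276
  rw [len1276] at h2
  have h3 := checkSteps_sound F iv 12 4194304 γ hiv q0 words hw steps1277 1277000 218405 218551 h2 chk1277
  rw [len1277] at h3
  have h4 := checkSteps_sound F iv 12 4194304 γ hiv q0 words hw steps1278 1278000 218551 218715 h3 chk1278
  rw [len1278] at h4
  have h5 := checkSteps_sound F iv 12 4194304 γ hiv q0 words hw steps1279 1279000 218715 218880 h4 chk1279
  rw [len1279] at h5
  have h6 := checkSteps_sound F iv 12 4194304 γ hiv q0 words hw steps1280 1280000 218880 219021 h5 chk1280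
  rw [len1280] at h6
  have h7 := checkSteps_sound F iv 12 4194304 γ hiv q0 words hw steps1281 1281000 219021 219169 h6 chk1281
  rw [len1281] at h7
  have h8 := checkSteps_sound F iv 12 4194304 γ hiv q0 words hw steps1282 1282000 219169 219327 h7 chk1282
  rw [len1282] at h8
  have h9 := checkSteps_sound F iv 12 4194304 γ hiv q0 words hw steps1283 1283000 219327 219469 h8 chk1283
  rw [len1283] at h9
  have h10 := checkSteps_sound F iv 12 4194304 γ hiv q0 words hw steps1284 1284000 219469 219633 h9 chk1284
  rw [len1284] at h10
  have h11 := checkSteps_sound F iv 12 4194304 γ hiv q0 words hw steps1285 1285000 219633 219799 h10 chk1285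
  rw [len1285] at h11
  have h12 := checkSteps_sound F iv 12 4194304 γ hiv q0 words hw steps1286 1286000 219799 219958 h11 chk1286
  rw [len1286] at h12
  have h13 := checkSteps_sound F iv 12 4194304 γ hiv q0 words hw steps1287 1287000 219958 220117 h12 chk1287
  rw [len1287] at h13
  have h14 := checkSteps_sound F iv 12 4194304 γ hiv q0 words hw steps1288 1288000 220117 220273 h13 chk1288
  rw [len1288] at h14
  have h15 := checkSteps_sound F iv 12 4194304 γ hiv q0 words hw steps1289 1289000 220273 220405 h14 chk1289
  rw [len1289] at h15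
  have h16 := checkSteps_sound F iv 12 4194304 γ hiv q0 words hw steps1290 1290000 220405 220560 h15 chk1290
  rw [len1290] at h16
  have h17 := checkSteps_sound F iv 12 4194304 γ hiv q0 words hw steps1291 1291000 220560 220708 h16 chk1291
  rw [len1291] at h17
  have h18 := checkSteps_sound F iv 12 4194304 γ hiv q0 words hw steps1292 1292000 220708 220872 h17 chk1292
  rw [len1292] at h18
  have h19 := checkSteps_sound F iv 12 4194304 γ hiv q0 words hw steps1293 1293000 220872 221044 h18 chk1293
  rw [len1293] at h19
  have h20 := checkSteps_sound F iv 12 4194304 γ hiv q0 words hw steps1294 1294000 221044 221183 h19 chk1294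
  rw [len1294] at h20
  have h21 := checkSteps_sound F iv 12 4194304 γ hiv q0 words hw steps1295 1295000 221183 221305 h20 chk1295
  rw [len1295] at h21
  have h22 := checkSteps_sound F iv 12 4194304 γ hiv q0 words hw steps1296 1296000 221305 221442 h21 chk1296
  rw [len1296] at h22
  have h23 := checkSteps_sound F iv 12 4194304 γ hiv q0 words hw steps1297 1297000 221442 221575 h22 chk1297
  rw [len1297] at h23
  have h24 := checkSteps_sound F iv 12 4194304 γ hiv q0 words hw steps1298 1298000 221575 221716 h23 chk1298
  rw [len1298] at h24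
  have h25 := checkSteps_sound F iv 12 4194304 γ hiv q0 words hw steps1299 1299000 221716 221851 h24 chk1299
  rw [len1299] at h25
  exact h25

end Cfsg.Agent.Lib.H6.FiTC
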