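import Cfsg.Agent.Lib.H6.FiTC.Steps64

set_option autoImplicit false
set_option maxRecDepth 1000000

/-! # invariant through part 64 of Fi24 (generated) -/

namespace Cfsg.Agent.Lib.H6.FiTC

open Cfsg.Agent.Lib.H17.CosetCert Cfsg.Agent.Lib.H6.TC

theorem part64 {G Q : Type} [Group G] [MulAction G Q] (γ : ℕ → G)
    (hiv : ∀ x < 12, γ (iv x) = (γ x)⁻¹) (q0 : Q) (hw : WordsOK γ q0 words)
    (h0 : Inv F 12 γ q0 1600000 269341) : Inv F 12 γ q0 1625000 272830 := by
  have h1 := checkSteps_sound F iv 12 4194304 γ hiv q0 words hw steps1600 1600000 269341 269485 h0 chk1600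
  rw [len1600] at h1
  have h2 := checkSteps_sound F iv 12 4194304 γ hiv q0 words hw steps1601 1601000 269485 269638 h1 chk1601
  rw [len1601] at h2
  have h3 := checkSteps_sound F iv 12 4194304 γ hiv q0 words hw steps1602 1602000 269638 269768 h2 chk1602
  rw [len1602] at h3
  have h4 := checkSteps_sound F iv 12 4194304 γ hiv q0 words hw steps1603 1603000 269768 269928 h3 chk1603
  rw [len1603] at h4
  have h5 := checkSteps_sound F iv 12 4194304 γ hiv q0 words hw steps1604 1604000 269928 270080 h4 chk1604
  rw [len1604] at h5
  have h6 := checkSteps_sound F iv 12 4194304 γ hiv q0 words hw steps1605 1605000 270080 270222 h5 chk1605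
  rw [len1605] at h6
  have h7 := checkSteps_sound F iv 12 4194304 γ hiv q0 words hw steps1606 1606000 270222 270363 h6 chk1606
  rw [len1606] at h7
  have h8 := checkSteps_sound F iv 12 4194304 γ hiv q0 words hw steps1607 1607000 270363 270505 h7 chk1607
  rw [len1607] at h8
  have h9 := checkSteps_sound F iv 12 4194304 γ hiv q0 words hw steps1608 1608000 270505 270664 h8 chk1608
  rw [len1608] at h9
  have h10 := checkSteps_sound F iv 12 4194304 γ hiv q0 words hw steps1609 1609000 270664 270810 h9 chk1609
  rw [len1609] at h10
  have h11 := checkSteps_sound F iv 12 4194304 γ hiv q0 words hw steps1610 1610000 270810 270938 h10 chk1610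
  rw [len1610] at h11
  have h12 := checkSteps_sound F iv 12 4194304 γ hiv q0 words hw steps1611 1611000 270938 271079 h11 chk1611
  rw [len1611] at h12
  have h13 := checkSteps_sound F iv 12 4194304 γ hiv q0 words hw steps1612 1612000 271079 271223 h12 chk1612
  rw [len1612] at h13
  have h14 := checkSteps_sound F iv 12 4194304 γ hiv q0 words hw steps1613 1613000 271223 271388 h13 chk1613
  rw [len1613] at h14
  have h15 := checkSteps_sound F iv 12 4194304 γ hiv q0 words hw steps1614 1614000 271388 271527 h14 chk1614
  rw [len1614] at h15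
  have h16 := checkSteps_sound F iv 12 4194304 γ hiv q0 words hw steps1615 1615000 271527 271660 h15 chk1615
  rw [len1615] at h16
  have h17 := checkSteps_sound F iv 12 4194304 γ hiv q0 words hw steps1616 1616000 271660 271786 h16 chk1616
  rw [len1616] at h17
  have h18 := checkSteps_sound F iv 12 4194304 γ hiv q0 words hw steps1617 1617000 271786 271910 h17 chk1617
  rw [len1617] at h18
  have h19 := checkSteps_sound F iv 12 4194304 γ hiv q0 words hw steps1618 1618000 271910 272050 h18 chk1618
  rw [len1618] at h19
  have h20 := checkSteps_sound F iv 12 4194304 γ hiv q0 words hw steps1619 1619000 272050 272180 h19 chk1619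
  rw [len1619] at h20
  have h21 := checkSteps_sound F iv 12 4194304 γ hiv q0 words hw steps1620 1620000 272180 272317 h20 chk1620
  rw [len1620] at h21
  have h22 := checkSteps_sound F iv 12 4194304 γ hiv q0 words hw steps1621 1621000 272317 272441 h21 chk1621
  rw [len1621] at h22
  have h23 := checkSteps_sound F iv 12 4194304 γ hiv q0 words hw steps1622 1622000 272441 272561 h22 chk1622
  rw [len1622] at h23
  have h24 := checkSteps_sound F iv 12 4194304 γ hiv q0 words hw steps1623 1623000 272561 272691 h23 chk1623
  rw [len1623] at h24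
  have h25 := checkSteps_sound F iv 12 4194304 γ hiv q0 words hw steps1624 1624000 272691 272830 h24 chk1624
  rw [len1624] at h25
  exact h25

end Cfsg.Agent.Lib.H6.FiTC
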