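import Cfsg.Agent.Lib.H6.FiTC.Steps77

set_option autoImplicit false
set_option maxRecDepth 1000000

/-! # invariant through part 77 of Fi24 (generated) -/

namespace Cfsg.Agent.Lib.H6.FiTC

open Cfsg.Agent.Lib.H17.CosetCert Cfsg.Agent.Lib.H6.TC

theorem part77 {G Q : Type} [Group G] [MulAction G Q] (γ : ℕ → G)
    (hiv : ∀ x < 12, γ (iv x) = (γ x)⁻¹) (q0 : Q) (hw : WordsOK γ q0 words)
    (h0 : Inv F 12 γ q0 1925000 316022) : Inv F 12 γ q0 1950000 319339 := by
  have h1 := checkSteps_sound F iv 12 4194304 γ hiv q0 words hw steps1925 1925000 316022 316132 h0 chk1925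
  rw [len1925] at h1
  have h2 := checkSteps_sound F iv 12 4194304 γ hiv q0 words hw steps1926 1926000 316132 316257 h1 chk1926
  rw [len1926] at h2
  have h3 := checkSteps_sound F iv 12 4194304 γ hiv q0 words hw steps1927 1927000 316257 316375 h2 chk1927
  rw [len1927] at h3
  have h4 := checkSteps_sound F iv 12 4194304 γ hiv q0 words hw steps1928 1928000 316375 316488 h3 chk1928
  rw [len1928] at h4
  have h5 := checkSteps_sound F iv 12 4194304 γ hiv q0 words hw steps1929 1929000 316488 316605 h4 chk1929
  rw [len1929] at h5
  have h6 := checkSteps_sound F iv 12 4194304 γ hiv q0 words hw steps1930 1930000 316605 316748 h5 chk1930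
  rw [len1930] at h6
  have h7 := checkSteps_sound F iv 12 4194304 γ hiv q0 words hw steps1931 1931000 316748 316874 h6 chk1931
  rw [len1931] at h7
  have h8 := checkSteps_sound F iv 12 4194304 γ hiv q0 words hw steps1932 1932000 316874 316995 h7 chk1932
  rw [len1932] at h8
  have h9 := checkSteps_sound F iv 12 4194304 γ hiv q0 words hw steps1933 1933000 316995 317104 h8 chk1933
  rw [len1933] at h9
  have h10 := checkSteps_sound F iv 12 4194304 γ hiv q0 words hw steps1934 1934000 317104 317216 h9 chk1934
  rw [len1934] at h10
  have h11 := checkSteps_sound F iv 12 4194304 γ hiv q0 words hw steps1935 1935000 317216 317339 h10 chk1935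
  rw [len1935] at h11
  have h12 := checkSteps_sound F iv 12 4194304 γ hiv q0 words hw steps1936 1936000 317339 317458 h11 chk1936
  rw [len1936] at h12
  have h13 := checkSteps_sound F iv 12 4194304 γ hiv q0 words hw steps1937 1937000 317458 317578 h12 chk1937
  rw [len1937] at h13
  have h14 := checkSteps_sound F iv 12 4194304 γ hiv q0 words hw steps1938 1938000 317578 317698 h13 chk1938
  rw [len1938] at h14
  have h15 := checkSteps_sound F iv 12 4194304 γ hiv q0 words hw steps1939 1939000 317698 317806 h14 chk1939
  rw [len1939] at h15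
  have h16 := checkSteps_sound F iv 12 4194304 γ hiv q0 words hw steps1940 1940000 317806 317934 h15 chk1940
  rw [len1940] at h16
  have h17 := checkSteps_sound F iv 12 4194304 γ hiv q0 words hw steps1941 1941000 317934 318112 h16 chk1941
  rw [len1941] at h17
  have h18 := checkSteps_sound F iv 12 4194304 γ hiv q0 words hw steps1942 1942000 318112 318268 h17 chk1942
  rw [len1942] at h18
  have h19 := checkSteps_sound F iv 12 4194304 γ hiv q0 words hw steps1943 1943000 318268 318438 h18 chk1943
  rw [len1943] at h19
  have h20 := checkSteps_sound F iv 12 4194304 γ hiv q0 words hw steps1944 1944000 318438 318616 h19 chk1944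
  rw [len1944] at h20
  have h21 := checkSteps_sound F iv 12 4194304 γ hiv q0 words hw steps1945 1945000 318616 318771 h20 chk1945
  rw [len1945] at h21
  have h22 := checkSteps_sound F iv 12 4194304 γ hiv q0 words hw steps1946 1946000 318771 318929 h21 chk1946
  rw [len1946] at h22
  have h23 := checkSteps_sound F iv 12 4194304 γ hiv q0 words hw steps1947 1947000 318929 319065 h22 chk1947
  rw [len1947] at h23
  have h24 := checkSteps_sound F iv 12 4194304 γ hiv q0 words hw steps1948 1948000 319065 319215 h23 chk1948
  rw [len1948] at h24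
  have h25 := checkSteps_sound F iv 12 4194304 γ hiv q0 words hw steps1949 1949000 319215 319339 h24 chk1949
  rw [len1949] at h25
  exact h25

end Cfsg.Agent.Lib.H6.FiTC
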